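import Mathlib
import Cfsg.Agent.Fusion.TransferTools

/-!
Transfer and parity criteria for a finite simple group: an involution whose conjugates all have the same
non-trivial image in an abelian quotient of a Sylow 2-subgroup, the same using only the conjugates of a
centralizing 2-group, and the sign of the permutation induced on a class.
-/

set_option autoImplicit false
set_option linter.unusedSectionVars false
set_option linter.style.haveILetI false

namespace Cfsg.Agent.TimesPSL

open Subgroup MulAction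

theorem eq_ofAdd_one : ∀ a : Multiplicative (ZMod 2), a ≠ 1 → a = Multiplicative.ofAdd (1 : ZMod 2) := by decide

variable {G : Type*} [Group G] [Finite G]

/-- A homomorphism from a non-abelian simple group to a commutative group is trivial. -/
theorem hom_trivial [IsSimpleGroup G] (hG : ¬ IsMulCommutative G) {A : Type*} [CommGroup A]
    (ψ : G →* A) (x : G) : ψ x = 1 := by
  rcases IsSimpleGroup.eq_bot_or_eq_top_of_normal ψ.ker inferInstance with h | h
  · exact absurd ⟨⟨fun a b => (MonoidHom.ker_eq_bot_iff ψ).1 h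
      (by rw [map_mul, map_mul, mul_comm])⟩⟩ hG
  · have : x ∈ ψ.ker := by rw [h]; exact mem_top x
    exact this

/-- All conjugates of the involution `t` lying in `S` have the same non-trivial image: impossible. -/
theorem no_char [IsSimpleGroup G] (hG : ¬ IsMulCommutative G) (S : Sylow 2 G) {t : G}
    (ht : t * t = 1) (htS : t ∈ (S : Subgroup G)) {A : Type*} [CommGroup A] (φ : ↥(S : Subgroup G) →* A)
    (ha : φ ⟨t, htS⟩ ≠ 1)
    (hall : ∀ (g : G) (h : g * t * g⁻¹ ∈ (S : Subgroup G)), φ ⟨g * t * g⁻¹, h⟩ = φ ⟨t, htS⟩) : False := by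
  have h2 : φ ⟨t, htS⟩ ^ 2 = 1 := by
    rw [← map_pow, ← map_one φ]
    exact congrArg φ (Subtype.ext (by simp [pow_two, ht]))
  have hpow : ∀ k : ℕ, t ^ k = 1 ∨ t ^ k = t := by
    intro k
    induction k with
    | zero => exact Or.inl (pow_zero t)
    | succ k ih =>
      rcases ih with h | h
      · right; rw [pow_succ, h, one_mul]
      · left; rw [pow_succ, h, ht]
  have hkey := Fusion.transfer_apply_eq_pow φ ⟨t, htS⟩ (fun k a hk => by
    rcases hpow k with h | h
    · have e1 : (⟨a * ((⟨t, htS⟩ : ↥(S : Subgroup G)) : G) ^ k * a⁻¹, hk⟩ : ↥(S : Subgroup G)) = 1 :=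
        Subtype.ext (by simp [h])
      have e2 : (⟨t, htS⟩ : ↥(S : Subgroup G)) ^ k = 1 := Subtype.ext (by simpa using h)
      rw [e1, e2]
    · have hk' : a * t * a⁻¹ ∈ (S : Subgroup G) := by simpa [h] using hk
      have e1 : (⟨a * ((⟨t, htS⟩ : ↥(S : Subgroup G)) : G) ^ k * a⁻¹, hk⟩ : ↥(S : Subgroup G)) =
          ⟨a * t * a⁻¹, hk'⟩ := Subtype.ext (by simp [h])
      have e2 : (⟨t, htS⟩ : ↥(S : Subgroup G)) ^ k = ⟨t, htS⟩ := Subtype.ext (by simpa using h)
      rw [e1, e2, hall a hk'])
  rw [hom_trivial hG] at hkey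
  have hodd : Odd (S : Subgroup G).index := by
    have := S.not_dvd_index
    exact Nat.odd_iff.2 (by omega)
  obtain ⟨m, hm⟩ := hodd
  rw [hm, pow_succ, pow_mul, h2, one_pow, one_mul] at hkey
  exact ha hkey.symm

/-- The same, asking it only for the `g` conjugating a 2-group centralizing `t` into `H`. -/
theorem no_char_fixed [IsSimpleGroup G] (hG : ¬ IsMulCommutative G) {H : Subgroup G} (hH : ¬ 2 ∣ H.index)
    {t : G} (ht : t * t = 1) (T : Subgroup G) (hT : IsPGroup 2 T) (hTt : ∀ x ∈ T, x * t = t * x) (htT : t ∈ T)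
    (φ : ↥H →* Multiplicative (ZMod 2))
    (hall : ∀ g : G, (hg : ∀ x ∈ T, g⁻¹ * x * g ∈ H) → φ ⟨g⁻¹ * t * g, hg t htT⟩ ≠ 1) :
    False := by
  classical
  letI : Fintype (G ⧸ H) := Fintype.ofFinite _
  letI : Fintype (Quotient (orbitRel (zpowers t) (G ⧸ H))) := Fintype.ofFinite _
  let v : G ⧸ H → Multiplicative (ZMod 2) := fun q =>
    if h : q.out⁻¹ * t * q.out ∈ H then φ ⟨_, h⟩ else 1
  have hfix : ∀ q : G ⧸ H, t • q = q ↔ q.out⁻¹ * t * q.out ∈ H := fun q => by
    conv_lhs => rw [← q.out_eq']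
    rw [Quotient.smul_mk, smul_eq_mul, eq_comm, QuotientGroup.eq, mul_assoc]
  have hzfix : ∀ q : G ⧸ H, t • q = q → ∀ i : zpowers t, i • q = q := by
    rintro q hq ⟨y, hy⟩
    have : zpowers t ≤ stabilizer G q := zpowers_le.mpr hq
    exact this hy
  have hV : MonoidHom.transfer φ t = ∏ q : G ⧸ H, v q := by
    rw [MonoidHom.transfer_eq_prod_quotient_orbitRel_zpowers_quot]
    refine Finset.prod_bij_ne_one (fun o _ _ => o.out) (fun o _ _ => Finset.mem_univ _)
      (fun o _ _ o' _ _ h => Quotient.out_injective h) (fun q _ hq => ?_)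
      (fun o _ ho => ?_)
    · have hq' : q.out⁻¹ * t * q.out ∈ H := by
        by_contra hc
        exact hq (dif_neg hc)
      have hqf := (hfix q).mpr hq'
      set o : Quotient (orbitRel (zpowers t) (G ⧸ H)) := Quotient.mk _ q with ho
      have ho' : o.out = q := by
        obtain ⟨i, hi⟩ := (Quotient.mk_out (s := orbitRel (zpowers t) (G ⧸ H)) q :)
        rw [← hi]
        exact hzfix q hqf i
      refine ⟨o, Finset.mem_univ _, ?_, ho'⟩
      refine ne_of_eq_of_ne ?_ hq
      simp only [v, ho', dif_pos hq']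
      have hper : Function.minimalPeriod (t • ·) q = 1 :=
        Function.minimalPeriod_eq_one_iff_isFixedPt.mpr hqf
      simp only [hper, pow_one]
    · have hcase : Function.minimalPeriod (t • ·) o.out = 1 := by
        have hd : Function.minimalPeriod (t • ·) o.out ∣ 2 := by
          refine Function.IsPeriodicPt.minimalPeriod_dvd ?_
          show (t • ·)^[2] o.out = o.out
          simp [Function.iterate_succ_apply', smul_smul, ht]
        rcases (Nat.dvd_prime Nat.prime_two).mp hd with h | h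
        · exact h
        · refine absurd ?_ ho
          simp only [h, pow_two, ht, mul_one, inv_mul_cancel]
          exact map_one φ
      have hqf : t • o.out = o.out :=
        Function.minimalPeriod_eq_one_iff_isFixedPt.mp hcase
      simp only [v, dif_pos ((hfix _).mp hqf), hcase, pow_one]
  have hnotmem : ∀ g : G, g⁻¹ * t * g ∉ H → v (g : G ⧸ H) = 1 := by
    intro g hg
    obtain ⟨k, hk⟩ := QuotientGroup.mk_out_eq_mul H g
    refine dif_neg fun hc => hg ?_
    have h2 := H.mul_mem (H.mul_mem k.2 hc) (H.inv_mem k.2)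
    rwa [hk, show (k : G) * ((g * k)⁻¹ * t * (g * k)) * (k : G)⁻¹ = g⁻¹ * t * g by group] at h2
  have hval : ∀ g : G, ∀ h : g⁻¹ * t * g ∈ H, v (g : G ⧸ H) = φ ⟨g⁻¹ * t * g, h⟩ := by
    intro g h
    obtain ⟨k, hk⟩ := QuotientGroup.mk_out_eq_mul H g
    have h' : (g : G ⧸ H).out⁻¹ * t * (g : G ⧸ H).out ∈ H := by
      rw [hk, show (g * k)⁻¹ * t * (g * k) = (k : G)⁻¹ * (g⁻¹ * t * g) * k by group]
      exact H.mul_mem (H.mul_mem (H.inv_mem k.2) h) k.2
    simp only [v, dif_pos h']
    have : (⟨_, h'⟩ : H) = k⁻¹ * ⟨g⁻¹ * t * g, h⟩ * k := Subtype.ext (by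
      show (g : G ⧸ H).out⁻¹ * t * (g : G ⧸ H).out = (k : G)⁻¹ * (g⁻¹ * t * g) * k
      rw [hk]; group)
    rw [this, map_mul, map_mul, map_inv, mul_comm (φ k)⁻¹, mul_assoc, inv_mul_cancel, mul_one]
  -- the contributing cosets
  let X : Set (G ⧸ H) := {q | v q ≠ 1}
  have hvinv : ∀ (x : G), x ∈ T → ∀ q, v (x • q) = v q := by
    intro x hx q
    obtain ⟨g, rfl⟩ := QuotientGroup.mk_surjective q
    have e : (x * g)⁻¹ * t * (x * g) = g⁻¹ * t * g := by
      rw [show (x * g)⁻¹ * t * (x * g) = g⁻¹ * x⁻¹ * (t * x) * g by group, ← hTt x hx]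
      group
    rw [Quotient.smul_mk, smul_eq_mul]
    by_cases h : g⁻¹ * t * g ∈ H
    · exact (hval (x * g) (by rw [e]; exact h)).trans ((congrArg φ (Subtype.ext e)).trans (hval g h).symm)
    · exact (hnotmem _ (by rwa [e])).trans (hnotmem g h).symm
  letI : MulAction T X :=
    { smul := fun x q => ⟨(x : G) • (q : G ⧸ H), by
        show v _ ≠ 1
        rw [hvinv x x.2]; exact q.2⟩
      one_smul := fun q => Subtype.ext (one_smul G (q : G ⧸ H))
      mul_smul := fun a b q => Subtype.ext (mul_smul (a : G) b (q : G ⧸ H)) }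
  -- every fixed coset contributes
  have hin : ∀ q ∈ fixedPoints T (G ⧸ H), q ∈ X := by
    intro q hq
    obtain ⟨g, rfl⟩ := QuotientGroup.mk_surjective q
    have hg : ∀ x ∈ T, g⁻¹ * x * g ∈ H := by
      intro x hx
      have h2 : (x : G) • (g : G ⧸ H) = g := hq ⟨x, hx⟩
      rw [Quotient.smul_mk, smul_eq_mul, eq_comm, QuotientGroup.eq, ← mul_assoc] at h2
      exact h2
    show v _ ≠ 1
    rw [hval g (hg t htT)]
    exact hall g hg
  have hcardfix : Nat.card (fixedPoints T X) = Nat.card (fixedPoints T (G ⧸ H)) :=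
    Nat.card_congr
      { toFun := fun q => ⟨(q.1 : G ⧸ H), fun x => congrArg Subtype.val (q.2 x)⟩
        invFun := fun q => ⟨⟨q.1, hin q.1 q.2⟩, fun x => Subtype.ext (q.2 x)⟩
        left_inv := fun q => rfl
        right_inv := fun q => rfl }
  have : Fact (Nat.Prime 2) := ⟨Nat.prime_two⟩
  have hmod := hT.card_modEq_card_fixedPoints (α := X)
  rw [hcardfix] at hmod
  have hmod2 := hT.card_modEq_card_fixedPoints (α := G ⧸ H)
  have hidx : Nat.card (G ⧸ H) % 2 = 1 := by
    rw [← Subgroup.index_eq_card]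
    omega
  have hone := hom_trivial hG (MonoidHom.transfer φ) t
  rw [hV] at hone
  have h3 : (∏ q : G ⧸ H, v q) = ∏ q ∈ Finset.univ.filter (· ∈ X), v q := by
    rw [← Finset.prod_filter_ne_one]
    rfl
  have h6 : (∏ q ∈ Finset.univ.filter (· ∈ X), v q) =
      ∏ _q ∈ Finset.univ.filter (· ∈ X), Multiplicative.ofAdd (1 : ZMod 2) :=
    Finset.prod_congr rfl fun q hq => eq_ofAdd_one (v q) (Finset.mem_filter.mp hq).2
  rw [h3, h6, Finset.prod_const] at hone
  have h4 := congrArg Multiplicative.toAdd hone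
  rw [toAdd_pow, toAdd_ofAdd, nsmul_one, toAdd_one, ZMod.natCast_eq_zero_iff_even, Nat.even_iff] at h4
  have h5 : Nat.card X = (Finset.univ.filter (· ∈ X)).card := by
    rw [Nat.card_eq_fintype_card, Fintype.card_subtype]
  rw [← h5] at h4
  simp only [Nat.ModEq] at hmod hmod2
  omega

/-- In a simple group an involution moves a multiple of four points. -/
theorem four_dvd_moved [IsSimpleGroup G] (hG : ¬ IsMulCommutative G) {Ω : Type*} [Finite Ω]
    [MulAction G Ω] {t : G} (ht : t * t = 1) :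
    Nat.card {ω : Ω // t • ω = ω} % 4 = Nat.card Ω % 4 := by
  classical
  haveI := Fintype.ofFinite Ω
  have h1 := hom_trivial hG (Equiv.Perm.sign.comp (MulAction.toPermHom G Ω)) t
  simp only [MonoidHom.comp_apply] at h1
  set π := MulAction.toPermHom G Ω t with hπ
  have h2 : π ^ 2 = 1 := by rw [hπ, pow_two, ← map_mul, ht, map_one]
  rw [Equiv.Perm.sign_of_pow_two_eq_one h2] at h1
  have hle : Fintype.card {ω : Ω // t • ω = ω} ≤ Fintype.card Ω := Fintype.card_subtype_le _
  have hfix : Fintype.card ↥(Function.fixedPoints ⇑π) = Fintype.card {ω : Ω // t • ω = ω} :=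
    Fintype.card_congr (Equiv.subtypeEquivRight fun ω => Iff.rfl)
  rw [hfix] at h1
  have he : Even ((Fintype.card Ω - Fintype.card {ω : Ω // t • ω = ω}) / 2) := by
    by_contra ho
    rw [Nat.not_even_iff_odd] at ho
    rw [ho.neg_one_pow] at h1
    exact absurd h1 (by decide)
  rw [Nat.card_eq_fintype_card, Nat.card_eq_fintype_card]
  -- the moved points come in pairs
  have h22 : (Fintype.card Ω) % 2 = Fintype.card {ω : Ω // t • ω = ω} % 2 := by
    haveI : Fact (Nat.Prime 2) := ⟨Nat.prime_two⟩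
    have hp : IsPGroup 2 (zpowers t) := by
      intro x
      refine ⟨1, Subtype.ext ?_⟩
      obtain ⟨n, hn⟩ := x.2
      simp only [SubmonoidClass.coe_pow, OneMemClass.coe_one, pow_one]
      rw [← hn, ← zpow_natCast, ← zpow_mul, mul_comm, zpow_mul, zpow_natCast, pow_two, ht, one_zpow]
    have h := hp.card_modEq_card_fixedPoints (α := Ω)
    have e : Nat.card (fixedPoints (zpowers t) Ω) = Nat.card {ω : Ω // t • ω = ω} :=
      Nat.card_congr (Equiv.subtypeEquivRight fun ω => ⟨fun hh => hh ⟨t, mem_zpowers t⟩,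
        fun hh x => by
          have : zpowers t ≤ stabilizer G ω := zpowers_le.mpr hh
          exact this x.2⟩)
    rw [e, Nat.card_eq_fintype_card, Nat.card_eq_fintype_card] at h
    exact h
  rw [Nat.even_iff] at he
  omega

end Cfsg.Agent.TimesPSL
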