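import Mathlib
import Cfsg.Agent.Invol.BaerSuzuki

/-!
An involution `t` with a Sylow 2-subgroup `T` of its centralizer: elementary consequences.
-/

set_option autoImplicit false
set_option linter.unusedSectionVars false
set_option linter.style.haveILetI false

namespace Cfsg.Agent.TimesPSL

open Subgroup

/-- An involution together with a Sylow 2-subgroup of its centralizer. -/
structure Base (G : Type*) [Group G] where
  t : G
  tt : t * t = 1
  t1 : t ≠ 1
  T : Subgroup G
  T2 : IsPGroup 2 T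
  tT : t ∈ T
  Tt : ∀ x ∈ T, x * t = t * x
  syl : ∀ Q : Subgroup G, IsPGroup 2 Q → (∀ x ∈ Q, x * t = t * x) →
    ∃ c : G, c * t = t * c ∧ ∀ x ∈ Q, c * x * c⁻¹ ∈ T

variable {G : Type*} [Group G] [Finite G]

theorem isPGroup_zpowers {v : G} {k : ℕ} (h : v ^ 2 ^ k = 1) : IsPGroup 2 (zpowers v) := by
  intro x
  refine ⟨k, Subtype.ext ?_⟩
  obtain ⟨n, hn⟩ := x.2
  simp only [SubmonoidClass.coe_pow, OneMemClass.coe_one]
  rw [← hn, ← zpow_natCast, ← zpow_mul, mul_comm, zpow_mul, zpow_natCast, h, one_zpow]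

/-- adjoining a normalizing 2-element to a 2-group -/
theorem isPGroup_sup_zpowers {H : Subgroup G} (hH : IsPGroup 2 H) {v : G} {k : ℕ} (hv : v ^ 2 ^ k = 1)
    (hn : ∀ x ∈ H, v * x * v⁻¹ ∈ H) : IsPGroup 2 ↥(zpowers v ⊔ H) := by
  haveI : Fact (Nat.Prime 2) := ⟨Nat.prime_two⟩
  refine Invol.isPGroup_sup_of_le_normalizer (isPGroup_zpowers hv) hH (zpowers_le.2 ?_)
  refine Invol.mem_normalizer_of_conj_le ?_
  rintro _ ⟨x, hx, rfl⟩
  exact hn x hx

/-- a point of a sup is commuting with `t` if both parts are -/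
theorem sup_comm {H K : Subgroup G} {t : G} (hH : ∀ x ∈ H, x * t = t * x) (hK : ∀ x ∈ K, x * t = t * x) :
    ∀ x ∈ H ⊔ K, x * t = t * x := by
  intro x hx
  have hle : H ⊔ K ≤ centralizer ({t} : Set G) :=
    sup_le (fun y hy => mem_centralizer_singleton_iff.2 (hH y hy))
      (fun y hy => mem_centralizer_singleton_iff.2 (hK y hy))
  exact mem_centralizer_singleton_iff.1 (hle hx)

namespace Base

variable (B : Base G)

theorem ti : B.t⁻¹ = B.t := inv_eq_of_mul_eq_one_right B.tt

theorem eq_T {Q : Subgroup G} (hQ : IsPGroup 2 Q) (hQt : ∀ x ∈ Q, x * B.t = B.t * x) (hle : B.T ≤ Q) :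
    Q = B.T := by
  obtain ⟨c, -, hc⟩ := B.syl Q hQ hQt
  refine (Subgroup.eq_of_le_of_card_ge hle ?_).symm
  have h2 : Q.map (MulAut.conj c).toMonoidHom ≤ B.T := by
    rintro _ ⟨x, hx, rfl⟩
    exact hc x hx
  have h3 := Subgroup.card_le_of_le h2
  rwa [Subgroup.card_map_of_injective (MulAut.conj c).injective] at h3

/-- a 2-element centralizing `t` and normalizing `T` lies in `T` -/
theorem mem_T {x : G} {k : ℕ} (hk : x ^ 2 ^ k = 1) (hxt : x * B.t = B.t * x)
    (hn : ∀ y ∈ B.T, x * y * x⁻¹ ∈ B.T) : x ∈ B.T := by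
  have h := B.eq_T (isPGroup_sup_zpowers B.T2 hk hn)
    (sup_comm (fun y hy => by
      obtain ⟨n, rfl⟩ := hy
      exact ((show Commute x B.t from hxt).zpow_left n).eq) B.Tt) le_sup_right
  rw [← h]
  exact (le_sup_left : zpowers x ≤ _) (mem_zpowers x)

/-- a 2-element commuting with all of `T` lies in `T` -/
theorem mem_T_of_comm {x : G} {k : ℕ} (hk : x ^ 2 ^ k = 1) (hc : ∀ y ∈ B.T, x * y = y * x) : x ∈ B.T :=
  B.mem_T hk (hc B.t B.tT) fun y hy => by rwa [hc y hy, mul_inv_cancel_right]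

/-- the centralizer of `t` in a 2-group containing `T` is `T` -/
theorem inter {S : Subgroup G} (hS : IsPGroup 2 S) (hle : B.T ≤ S) {x : G} (hx : x ∈ S)
    (hxt : x * B.t = B.t * x) : x ∈ B.T := by
  have h := B.eq_T (Q := S ⊓ centralizer ({B.t} : Set G)) (hS.to_le inf_le_left)
    (fun y hy => mem_centralizer_singleton_iff.1 hy.2)
    (le_inf hle fun y hy => mem_centralizer_singleton_iff.2 (B.Tt y hy))
  rw [← h]
  exact ⟨hx, mem_centralizer_singleton_iff.2 hxt⟩

/-- the order of `T` is the 2-part of the order of the centralizer -/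
theorem card_T : Nat.card B.T = 2 ^ (Nat.card (centralizer ({B.t} : Set G))).factorization 2 := by
  haveI : Fact (Nat.Prime 2) := ⟨Nat.prime_two⟩
  have hTC : B.T ≤ centralizer ({B.t} : Set G) := fun y hy => mem_centralizer_singleton_iff.2 (B.Tt y hy)
  obtain ⟨Q, hQ⟩ := (B.T2.comap_subtype (K := centralizer ({B.t} : Set G))).exists_le_sylow
  have h := B.eq_T (Q := (Q : Subgroup _).map (centralizer ({B.t} : Set G)).subtype) (Q.2.map _)
    (by
      rintro _ ⟨y, -, rfl⟩
      exact mem_centralizer_singleton_iff.1 y.2)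
    (fun y hy => ⟨⟨y, hTC hy⟩, hQ hy, rfl⟩)
  rw [← h, Subgroup.card_map_of_injective (Subgroup.subtype_injective _), Sylow.card_eq_multiplicity]

end Base

end Cfsg.Agent.TimesPSL
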