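import Mathlib
import Cfsg.Agent.SingerTwo.Field

/-!
Equivariant additive and biadditive maps on a finite field of characteristic two, and its automorphisms.
-/

set_option autoImplicit false
set_option linter.unusedSectionVars false
set_option linter.style.haveILetI false

namespace Cfsg.Agent.TimesPSL

open Cfsg.Agent.SingerTwo (Gen)

variable {K : Type*} [Field K] {l : K}

/-- An additive map commuting with the generator is a multiplication. -/
theorem linear_of_equivariant (hK : Gen K l) (f : K → K) (hadd : ∀ a b, f (a + b) = f a + f b)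
    (hl : ∀ a, f (l * a) = l * f a) (a : K) : f a = f 1 * a := by
  rcases eq_or_ne a 0 with rfl | ha
  · have h := hadd 0 0
    simp only [add_zero, left_eq_add] at h
    rw [h, mul_zero]
  obtain ⟨i, rfl⟩ := hK.gen a ha
  induction i with
  | zero => simp
  | succ i ih =>
    rcases eq_or_ne (l ^ i) 0 with h0 | h0
    · rw [pow_succ, h0, zero_mul] at ha
      exact absurd rfl ha
    rw [pow_succ', hl, ih h0]
    ring

/-- An equivariant biadditive map vanishing on the diagonal is zero. -/
theorem alt_zero (hK : Gen K l) (g : K → K → K) (h1 : ∀ a a' b, g (a + a') b = g a b + g a' b)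
    (h2 : ∀ a b b', g a (b + b') = g a b + g a b') (hl : ∀ a b, g (l * a) (l * b) = l * g a b)
    (hd : ∀ a, g a a = 0) (a b : K) : g a b = 0 := by
  haveI := hK.fin
  haveI := hK.charP
  have h0 : ∀ b, g 0 b = 0 := fun b => by
    have h := h1 0 0 b
    simpa using h
  have h0' : ∀ a, g a 0 = 0 := fun a => by
    have h := h2 a 0 0
    simpa using h
  have hsym : ∀ a b, g a b = g b a := fun a b => by
    have h := hd (a + b)
    rw [h1, h2, h2, hd, hd, zero_add, add_zero] at h
    exact CharTwo.add_eq_zero.1 h
  have hsc : ∀ t a b, g (t * a) (t * b) = t * g a b := by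
    intro t a b
    rcases eq_or_ne t 0 with rfl | ht
    · simp [h0]
    obtain ⟨i, rfl⟩ := hK.gen t ht
    induction i generalizing a b with
    | zero => simp
    | succ i ih =>
      rcases eq_or_ne (l ^ i) 0 with h | h
      · rw [pow_succ, h, zero_mul] at ht
        exact absurd rfl ht
      rw [pow_succ', mul_assoc, mul_assoc, hl, ih a b h]
      ring
  have hf : ∀ z : K, z ≠ 0 → g 1 z⁻¹ = g 1 z / z := by
    intro z hz
    have h := hsc z⁻¹ 1 z
    rw [mul_one, inv_mul_cancel₀ hz, hsym] at h
    rw [h, div_eq_inv_mul]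
  have hfsq : ∀ z : K, g 1 (z * z) = 0 := by
    intro z
    rcases eq_or_ne z 0 with rfl | hz
    · rw [mul_zero, h0']
    rcases eq_or_ne z 1 with rfl | hz1
    · rw [mul_one, hd]
    have hw : z + 1 ≠ 0 := fun h => hz1 (CharTwo.add_eq_zero.1 h)
    have hzw : z * (z + 1) ≠ 0 := mul_ne_zero hz hw
    have hsum : z⁻¹ + (z + 1)⁻¹ = (z * (z + 1))⁻¹ := by
      field_simp
      rw [show z + 1 + z = z + z + 1 by ring, CharTwo.add_self_eq_zero, zero_add]
    have h := hf _ hzw
    rw [← hsum, h2, hf z hz, hf (z + 1) hw, h2 1 z 1, hd 1, add_zero] at h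
    have h' : g 1 z / z + g 1 z / (z + 1) = g 1 z / (z * (z + 1)) := by
      field_simp
      rw [show z + 1 + z = z + z + 1 by ring, CharTwo.add_self_eq_zero, zero_add, mul_one]
    rw [h', div_left_inj' hzw, mul_add, mul_one, h2, right_eq_add] at h
    exact h
  rcases eq_or_ne a 0 with rfl | ha
  · exact h0 b
  have hsqr : Function.Surjective fun z : K => z * z := Finite.surjective_of_injective fun x y h => by
    have : (x + y) * (x + y) = 0 := by
      calc (x + y) * (x + y) = x * x + y * y + (x * y + x * y) := by ring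
        _ = 0 := by
          rw [CharTwo.add_self_eq_zero, add_zero]
          show x * x + y * y = 0
          rw [show x * x = y * y from h, CharTwo.add_self_eq_zero]
    exact CharTwo.add_eq_zero.1 (mul_self_eq_zero.1 this)
  obtain ⟨z, hz⟩ := hsqr (a⁻¹ * b)
  have h := hsc a 1 (a⁻¹ * b)
  rw [mul_one, mul_inv_cancel_left₀ ha] at h
  rw [h, ← (show z * z = a⁻¹ * b from hz), hfsq, mul_zero]

/-- The square root in a finite field of characteristic two. -/
theorem exists_sqrt (hK : Gen K l) : ∃ s : K → K, (∀ a b, s (a + b) = s a + s b) ∧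
    (∀ a b, s (a * b) = s a * s b) ∧ (∀ a, s a * s a = a) := by
  haveI := hK.fin
  haveI := hK.charP
  haveI : Fact (Nat.Prime 2) := ⟨Nat.prime_two⟩
  let e := frobeniusEquiv K 2
  refine ⟨e.symm, fun a b => map_add _ _ _, fun a b => map_mul _ _ _, fun a => ?_⟩
  rw [← pow_two]
  exact frobenius_apply_frobeniusEquiv_symm K 2 a

/-- An equivariant biadditive map with a given diagonal `δ a` is `δ √(ab)`. -/
theorem diag_sqrt (hK : Gen K l) (g : K → K → K) (h1 : ∀ a a' b, g (a + a') b = g a b + g a' b)
    (h2 : ∀ a b b', g a (b + b') = g a b + g a b') (hl : ∀ a b, g (l * a) (l * b) = l * g a b)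
    {δ : K} (hd : ∀ a, g a a = δ * a) (a b : K) : g a b * g a b = δ * δ * (a * b) := by
  haveI := hK.fin
  haveI := hK.charP
  obtain ⟨s, hsa, hsm, hs⟩ := exists_sqrt hK
  have hinj : ∀ x y : K, x * x = y * y → x = y := fun x y h => by
    have : (x + y) * (x + y) = 0 := by
      calc (x + y) * (x + y) = x * x + y * y + (x * y + x * y) := by ring
        _ = 0 := by rw [CharTwo.add_self_eq_zero, add_zero, h, CharTwo.add_self_eq_zero]
    exact CharTwo.add_eq_zero.1 (mul_self_eq_zero.1 this)
  have hz := alt_zero hK (fun a b => g a b + δ * s (a * b))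
    (fun a a' b => by rw [h1, add_mul, hsa]; ring)
    (fun a b b' => by rw [h2, mul_add, hsa]; ring)
    (fun a b => by
      rw [hl, show l * a * (l * b) = l * l * (a * b) by ring, hsm (l * l) (a * b),
        show s (l * l) = l from hinj _ _ (hs _)]
      ring)
    (fun a => by
      rw [hd, show s (a * a) = a from hinj _ _ (hs _), CharTwo.add_self_eq_zero]) a b
  rw [CharTwo.add_eq_zero.1 hz, show δ * s (a * b) * (δ * s (a * b)) = δ * δ * (s (a * b) * s (a * b)) by ring,
    hs]

/-- The automorphism group has order the degree. -/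
theorem card_aut (hK : Gen K l) {n : ℕ} (hn : Nat.card K = 2 ^ n) : Nat.card (K ≃+* K) = n := by
  haveI := hK.fin
  haveI := hK.charP
  haveI : Fact (Nat.Prime 2) := ⟨Nat.prime_two⟩
  letI := ZMod.algebra K 2
  let e : (K ≃ₐ[ZMod 2] K) ≃ (K ≃+* K) :=
    { toFun := fun f => f.toRingEquiv
      invFun := fun f => AlgEquiv.ofRingEquiv (f := f) fun x => by
        have : (f : K →+* K).comp (algebraMap (ZMod 2) K) = algebraMap (ZMod 2) K := Subsingleton.elim _ _
        exact RingHom.congr_fun this x
      left_inv := fun f => AlgEquiv.ext fun x => rfl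
      right_inv := fun f => RingEquiv.ext fun x => rfl }
  rw [← Nat.card_congr e, IsGalois.card_aut_eq_finrank]
  have h := Module.natCard_eq_pow_finrank (K := ZMod 2) (V := K)
  rw [hn, Nat.card_zmod] at h
  exact (Nat.pow_right_injective le_rfl h).symm

/-- An automorphism fixing only `0` and `1` has order the degree. -/
theorem orderOf_aut (hK : Gen K l) {n : ℕ} (hn : Nat.card K = 2 ^ n) (σ : K ≃+* K)
    (hfix : ∀ x : K, σ x = x → x = 0 ∨ x = 1) : orderOf σ = n := by
  haveI := hK.fin
  haveI := hK.charP
  haveI : Fact (Nat.Prime 2) := ⟨Nat.prime_two⟩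
  letI := ZMod.algebra K 2
  let e : (K ≃ₐ[ZMod 2] K) →* (K ≃+* K) :=
    { toFun := fun f => f.toRingEquiv, map_one' := rfl, map_mul' := fun f g => rfl }
  have hinj : Function.Injective e := fun f g h => AlgEquiv.ext fun x => RingEquiv.congr_fun h x
  let τ : K ≃ₐ[ZMod 2] K := AlgEquiv.ofRingEquiv (f := σ) fun x => by
    have : (σ : K →+* K).comp (algebraMap (ZMod 2) K) = algebraMap (ZMod 2) K := Subsingleton.elim _ _
    exact RingHom.congr_fun this x
  have hτ : e τ = σ := RingEquiv.ext fun x => rfl
  rw [← hτ, orderOf_injective e hinj, ← card_aut hK hn]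
  have hbot : IntermediateField.fixedField (Subgroup.zpowers τ) = (⊥ : IntermediateField (ZMod 2) K) := by
    refine eq_bot_iff.2 fun x hx => ?_
    have hx' : σ x = x := hx ⟨τ, Subgroup.mem_zpowers τ⟩
    rcases hfix x hx' with rfl | rfl
    · exact zero_mem _
    · exact one_mem _
  have h := IntermediateField.fixingSubgroup_fixedField (Subgroup.zpowers τ)
  rw [hbot, IntermediateField.fixingSubgroup_bot] at h
  rw [← Nat.card_zpowers, ← h, Subgroup.card_top]
  exact Nat.card_congr
    { toFun := fun f => f.toRingEquiv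
      invFun := fun f => AlgEquiv.ofRingEquiv (f := f) fun x => by
        have : (f : K →+* K).comp (algebraMap (ZMod 2) K) = algebraMap (ZMod 2) K := Subsingleton.elim _ _
        exact RingHom.congr_fun this x
      left_inv := fun f => AlgEquiv.ext fun x => rfl
      right_inv := fun f => RingEquiv.ext fun x => rfl }

end Cfsg.Agent.TimesPSL
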