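import Mathlib
import Cfsg.Agent.TimesPSL.Basic
import Cfsg.Agent.TimesPSL.Transfer
import Cfsg.Agent.TimesPSL.Forms

/-!
The case of an elementary abelian Sylow 2-subgroup `⟨t⟩ × E` of the centralizer, with an element of the
centralizer acting on `E` as a generator of the multiplicative group of a field.
-/

set_option autoImplicit false
set_option linter.unusedSectionVars false
set_option linter.style.haveILetI false

namespace Cfsg.Agent.TimesPSL

open Subgroup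
open Cfsg.Agent.SingerTwo (Gen)

variable {G : Type*} [Group G] [Finite G]

/-- The data of the elementary case. -/
structure Elem (B : Base G) (K : Type*) [Field K] where
  l : K
  hK : Gen K l
  big : 4 ≤ Nat.card K
  E : Subgroup G
  ET : E ≤ B.T
  tE : B.t ∉ E
  esq : ∀ e ∈ E, e * e = 1
  split : ∀ x ∈ B.T, x ∈ E ∨ B.t * x ∈ E
  κ : G → K
  add : ∀ a ∈ E, ∀ b ∈ E, κ (a * b) = κ a + κ b
  inj : ∀ a ∈ E, ∀ b ∈ E, κ a = κ b → a = b
  surj : ∀ x : K, ∃ e ∈ E, κ e = x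
  d : G
  dt : d * B.t = B.t * d
  dE : ∀ e ∈ E, d * e * d⁻¹ ∈ E
  dκ : ∀ e ∈ E, κ (d * e * d⁻¹) = l * κ e
  semil : ∀ c : G, c * B.t = B.t * c → (∀ e ∈ E, c * e * c⁻¹ ∈ E) →
    ∃ (ν : K) (σ : K ≃+* K), ∀ e ∈ E, κ (c * e * c⁻¹) = ν * σ (κ e)

namespace Elem

variable {B : Base G} {K : Type*} [Field K] (X : Elem B K)
include X

local notation "t" => B.t

theorem κ_one : X.κ 1 = 0 := by
  have h := X.add 1 (one_mem _) 1 (one_mem _)
  simpa using h

theorem ne_one_iff {e : G} (he : e ∈ X.E) : e ≠ 1 ↔ X.κ e ≠ 0 :=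
  ⟨fun h h0 => h (X.inj e he 1 (one_mem _) (h0.trans X.κ_one.symm)), fun h h1 => h (by rw [h1, X.κ_one])⟩

theorem einv {e : G} (he : e ∈ X.E) : e⁻¹ = e := inv_eq_of_mul_eq_one_right (X.esq e he)

theorem ecomm {a b : G} (ha : a ∈ X.E) (hb : b ∈ X.E) : a * b = b * a := by
  rw [← X.einv (mul_mem ha hb), mul_inv_rev, X.einv ha, X.einv hb]

theorem card_E : Nat.card X.E = Nat.card K :=
  Nat.card_congr (Equiv.ofBijective (fun e : X.E => X.κ e.1)
    ⟨fun a b h => Subtype.ext (X.inj _ a.2 _ b.2 h), fun x => by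
      obtain ⟨e, he, hex⟩ := X.surj x
      exact ⟨⟨e, he⟩, hex⟩⟩)

theorem split_eq {x : G} (hx : x ∈ B.T) : ∃ e ∈ X.E, x = e ∨ x = t * e := by
  rcases X.split x hx with h | h
  · exact ⟨x, h, Or.inl rfl⟩
  · exact ⟨t * x, h, Or.inr (by rw [← mul_assoc, B.tt, one_mul])⟩

theorem te {e : G} (he : e ∈ X.E) : e * t = t * e := B.Tt e (X.ET he)

theorem T_sq {x : G} (hx : x ∈ B.T) : x * x = 1 := by
  obtain ⟨e, he, rfl | rfl⟩ := X.split_eq hx
  · exact X.esq _ he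
  · rw [show t * e * (t * e) = t * (e * t) * e by group, X.te he, ← mul_assoc t, B.tt, one_mul, X.esq e he]

theorem T_comm {x y : G} (hx : x ∈ B.T) (hy : y ∈ B.T) : x * y = y * x := by
  have hinv : ∀ z ∈ B.T, z⁻¹ = z := fun z hz => inv_eq_of_mul_eq_one_right (X.T_sq hz)
  rw [← hinv _ (mul_mem hx hy), mul_inv_rev, hinv x hx, hinv y hy]

/-- the powers of `d` -/
theorem d_pow (i : ℕ) : X.d ^ i * t = t * X.d ^ i ∧
    ∀ e ∈ X.E, X.d ^ i * e * (X.d ^ i)⁻¹ ∈ X.E ∧ X.κ (X.d ^ i * e * (X.d ^ i)⁻¹) = X.l ^ i * X.κ e := by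
  induction i with
  | zero => simp
  | succ i ih =>
    refine ⟨((show Commute X.d t from X.dt).pow_left _).eq, fun e he => ?_⟩
    obtain ⟨h1, h2⟩ := ih.2 e he
    rw [pow_succ', show X.d * X.d ^ i * e * (X.d * X.d ^ i)⁻¹ = X.d * (X.d ^ i * e * (X.d ^ i)⁻¹) * X.d⁻¹ by group]
    exact ⟨X.dE _ h1, by rw [X.dκ _ h1, h2, pow_succ', mul_assoc]⟩

theorem trans {a b : G} (ha : a ∈ X.E) (ha1 : a ≠ 1) (hb : b ∈ X.E) (hb1 : b ≠ 1) :
    ∃ i : ℕ, X.d ^ i * a * (X.d ^ i)⁻¹ = b := by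
  have h0 := (X.ne_one_iff ha).1 ha1
  obtain ⟨i, hi⟩ := X.hK.gen (X.κ b / X.κ a) (div_ne_zero ((X.ne_one_iff hb).1 hb1) h0)
  obtain ⟨h1, h2⟩ := (X.d_pow i).2 a ha
  exact ⟨i, X.inj _ h1 _ hb (by rw [h2, hi, div_mul_cancel₀ _ h0])⟩

theorem d_normT (i : ℕ) {x : G} (hx : x ∈ B.T) : X.d ^ i * x * (X.d ^ i)⁻¹ ∈ B.T := by
  obtain ⟨hc, hE⟩ := X.d_pow i
  obtain ⟨e, he, rfl | rfl⟩ := X.split_eq hx
  · exact X.ET (hE _ he).1
  · rw [show X.d ^ i * (t * e) * (X.d ^ i)⁻¹ = X.d ^ i * t * (X.d ^ i)⁻¹ * (X.d ^ i * e * (X.d ^ i)⁻¹) by group,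
      hc, mul_inv_cancel_right]
    exact mul_mem B.tT (X.ET (hE _ he).1)

/-- the coset `tE` is one class as soon as it has a conjugate besides `t` -/
theorem conj_coset {P : G → Prop} (hP : ∀ (i : ℕ) (x : G), P x → P (X.d ^ i * x * (X.d ^ i)⁻¹))
    {e : G} (he : e ∈ X.E) (he1 : e ≠ 1) :
    (P e → ∀ f ∈ X.E, f ≠ 1 → P f) ∧ (P (t * e) → ∀ f ∈ X.E, f ≠ 1 → P (t * f)) := by
  refine ⟨fun h f hf hf1 => ?_, fun h f hf hf1 => ?_⟩
  · obtain ⟨i, rfl⟩ := X.trans he he1 hf hf1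
    exact hP i e h
  · obtain ⟨i, rfl⟩ := X.trans he he1 hf hf1
    have h2 := hP i _ h
    rwa [show X.d ^ i * (t * e) * (X.d ^ i)⁻¹ = X.d ^ i * t * (X.d ^ i)⁻¹ * (X.d ^ i * e * (X.d ^ i)⁻¹) by group,
      (X.d_pow i).1, mul_inv_cancel_right] at h2

/-- `T` is normal in its normalizer: orbits -/
theorem orbit_card (P : G → Prop)
    (hP : ∀ x, P x ↔ x ∈ B.T ∧ ∃ n : G, (∀ y ∈ B.T, n * y * n⁻¹ ∈ B.T) ∧ n * t * n⁻¹ = x) :
    ∃ H : Subgroup G, (∀ n, n ∈ H ↔ ∀ y ∈ B.T, n * y * n⁻¹ ∈ B.T) ∧ B.T ≤ H ∧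
      Nat.card {x : G // P x} = (centralizer ({t} : Set G)).relIndex H := by
  refine ⟨normalizer (B.T : Set G), fun n => ?_, le_normalizer, ?_⟩
  · exact ⟨fun hn y hy => (mem_normalizer_iff.1 hn y).1 hy, fun hn => Invol.mem_normalizer_of_conj_le (by
      rintro _ ⟨y, hy, rfl⟩
      exact hn y hy)⟩
  set H := normalizer (B.T : Set G) with hH
  letI : MulAction ↥H {x : G // P x} :=
    { smul := fun g x => ⟨g.1 * x.1 * g.1⁻¹, by
        obtain ⟨hx, n, hn, hnx⟩ := (hP x.1).1 x.2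
        refine (hP _).2 ⟨(mem_normalizer_iff.1 g.2 x.1).1 hx, g.1 * n, fun y hy => ?_, by rw [← hnx]; group⟩
        rw [show g.1 * n * y * (g.1 * n)⁻¹ = g.1 * (n * y * n⁻¹) * g.1⁻¹ by group]
        exact (mem_normalizer_iff.1 g.2 _).1 (hn y hy)⟩
      one_smul := fun x => Subtype.ext (show (1 : G) * x.1 * (1 : G)⁻¹ = x.1 by simp)
      mul_smul := fun a b x => Subtype.ext
        (show a.1 * b.1 * x.1 * (a.1 * b.1)⁻¹ = a.1 * (b.1 * x.1 * b.1⁻¹) * a.1⁻¹ by group) }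
  let x0 : {x : G // P x} := ⟨t, (hP t).2 ⟨B.tT, 1, fun y hy => by simpa using hy, by simp⟩⟩
  haveI : MulAction.IsPretransitive ↥H {x : G // P x} := by
    refine ⟨fun a b => ?_⟩
    obtain ⟨-, n, hn, hna⟩ := (hP a.1).1 a.2
    obtain ⟨-, m, hm, hmb⟩ := (hP b.1).1 b.2
    have hn' : n ∈ H := Invol.mem_normalizer_of_conj_le (by
      rintro _ ⟨y, hy, rfl⟩
      exact hn y hy)
    have hm' : m ∈ H := Invol.mem_normalizer_of_conj_le (by
      rintro _ ⟨y, hy, rfl⟩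
      exact hm y hy)
    refine ⟨⟨m * n⁻¹, mul_mem hm' (inv_mem hn')⟩, Subtype.ext ?_⟩
    show m * n⁻¹ * a.1 * (m * n⁻¹)⁻¹ = b.1
    rw [← hna, ← hmb]
    group
  rw [← MulAction.index_stabilizer_of_transitive ↥H x0, relIndex]
  congr 1
  ext g
  rw [MulAction.mem_stabilizer_iff, Subtype.ext_iff, mem_subgroupOf, mem_centralizer_singleton_iff,
    ← mul_inv_eq_iff_eq_mul]
  rfl

/-- if the centralizer's Sylow 2-subgroup is not a Sylow 2-subgroup of the group -/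
theorem bigger (S : Sylow 2 G) (hTS : B.T ≤ S) (hne : (S : Subgroup G) ≠ B.T) :
    (∀ n : G, (∀ y ∈ B.T, n * y * n⁻¹ ∈ B.T) → ∀ e ∈ X.E, n * e * n⁻¹ ∈ X.E) ∧
    (∀ e ∈ X.E, ¬ IsConj t e) ∧
    ∀ e ∈ X.E, ∃ n : G, (∀ y ∈ B.T, n * y * n⁻¹ ∈ B.T) ∧ n * t * n⁻¹ = t * e := by
  classical
  haveI : Fact (Nat.Prime 2) := ⟨Nat.prime_two⟩
  haveI := X.hK.fin
  haveI : Group.IsNilpotent (S : Subgroup G) := S.2.isNilpotent
  have hlt : B.T.subgroupOf (S : Subgroup G) < ⊤ := lt_top_iff_ne_top.2 fun h =>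
    hne (le_antisymm (subgroupOf_eq_top.1 h) hTS)
  obtain ⟨u, hu, hu'⟩ := SetLike.exists_of_lt (Group.normalizerCondition_of_isNilpotent _ hlt)
  have hun : ∀ y ∈ B.T, (u : G) * y * (u : G)⁻¹ ∈ B.T := fun y hy =>
    mem_subgroupOf.1 ((mem_normalizer_iff.1 hu ⟨y, hTS hy⟩).1 (mem_subgroupOf.2 hy))
  have huT : (u : G) ∉ B.T := fun h => hu' (mem_subgroupOf.2 h)
  let P : G → Prop := fun x => x ∈ B.T ∧ ∃ n : G, (∀ y ∈ B.T, n * y * n⁻¹ ∈ B.T) ∧ n * t * n⁻¹ = x
  obtain ⟨H, hH, hTH, hcard⟩ := X.orbit_card P (fun x => Iff.rfl)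
  have huH : (u : G) ∈ H := (hH _).2 hun
  have hPd : ∀ (i : ℕ) (x : G), P x → P (X.d ^ i * x * (X.d ^ i)⁻¹) := by
    rintro i x ⟨hx, n, hn, rfl⟩
    refine ⟨X.d_normT i hx, X.d ^ i * n, fun y hy => ?_, by group⟩
    rw [show X.d ^ i * n * y * (X.d ^ i * n)⁻¹ = X.d ^ i * (n * y * n⁻¹) * (X.d ^ i)⁻¹ by group]
    exact X.d_normT i (hn y hy)
  have heven : 2 ∣ Nat.card {x : G // P x} := by
    rw [hcard]
    by_contra hodd
    set C := centralizer ({t} : Set G) ⊓ H with hC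
    have hTC : B.T ≤ C := le_inf (fun y hy => mem_centralizer_singleton_iff.2 (B.Tt y hy)) hTH
    have hrel : C.relIndex H = (centralizer ({t} : Set G)).relIndex H := inf_relIndex_right _ _
    obtain ⟨R, hR⟩ : ∃ R : Subgroup G, R = zpowers (u : G) ⊔ B.T := ⟨_, rfl⟩
    obtain ⟨k, hk⟩ := IsPGroup.iff_orderOf.1 S.2 u
    have hRp : IsPGroup 2 R := hR ▸ isPGroup_sup_zpowers B.T2 (k := k) (by
      rw [← hk, ← SubmonoidClass.coe_pow, pow_orderOf_eq_one, OneMemClass.coe_one]) hun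
    have hRH : R ≤ H := hR ▸ sup_le (zpowers_le.2 huH) hTH
    -- the 2-part of `C ⊓ H` is that of `T`
    obtain ⟨Q, hQ⟩ := (B.T2.comap_subtype (K := C)).exists_le_sylow
    have hQT : (Q : Subgroup C).map C.subtype = B.T := B.eq_T (Q.2.map _)
      (by
        rintro _ ⟨y, -, rfl⟩
        exact mem_centralizer_singleton_iff.1 y.2.1)
      (fun y hy => ⟨⟨y, hTC hy⟩, hQ hy, rfl⟩)
    have h1 : ¬ 2 ∣ B.T.relIndex C := by
      have h := Q.not_dvd_index
      rw [← hQT, relIndex, subgroupOf, comap_map_eq_self_of_injective C.subtype_injective]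
      exact h
    have h2 : ¬ 2 ∣ B.T.relIndex H := by
      rw [← relIndex_mul_relIndex B.T C H hTC inf_le_right, hrel]
      exact fun h => (Nat.prime_two.dvd_mul.1 h).elim h1 hodd
    have hTR : B.T ≤ R := hR ▸ le_sup_right
    have h3 : B.T.relIndex R ∣ B.T.relIndex H :=
      ⟨R.relIndex H, (relIndex_mul_relIndex _ _ _ hTR hRH).symm⟩
    obtain ⟨a, ha⟩ := IsPGroup.iff_card.1 hRp
    obtain ⟨b, -, hb⟩ := (Nat.dvd_prime_pow Nat.prime_two).1 (ha ▸ relIndex_dvd_card B.T R)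
    rcases b with _ | b
    · rw [pow_zero, relIndex_eq_one] at hb
      exact huT (hb (hR ▸ (le_sup_left : zpowers (u : G) ≤ _) (mem_zpowers _)))
    · exact h2 (dvd_trans (dvd_trans (dvd_pow_self 2 (by omega)) hb.symm.dvd) h3)
  have hPmul : ∀ n : G, (∀ y ∈ B.T, n * y * n⁻¹ ∈ B.T) → ∀ x, P x → P (n * x * n⁻¹) := by
    rintro n hn x ⟨hx, m, hm, rfl⟩
    refine ⟨hn _ hx, n * m, fun y hy => ?_, by group⟩
    rw [show n * m * y * (n * m)⁻¹ = n * (m * y * m⁻¹) * n⁻¹ by group]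
    exact hn _ (hm y hy)
  have hPt : P t := ⟨B.tT, 1, fun y hy => by simpa using hy, by simp⟩
  have hP2 : ∀ x, P x → x ≠ 1 := by
    rintro x ⟨-, n, -, rfl⟩ h
    rw [mul_inv_eq_one, mul_eq_left] at h
    exact B.t1 h
  have hcase : (∀ e ∈ X.E, e ≠ 1 → ¬ P e) ∧ (∀ e ∈ X.E, P (t * e)) := by
    by_cases hE : ∃ e ∈ X.E, e ≠ 1 ∧ P e
    · exfalso
      obtain ⟨e, he, he1, hPe⟩ := hE
      have hallE := (X.conj_coset hPd he he1).1 hPe
      by_cases hTE : ∃ f ∈ X.E, f ≠ 1 ∧ P (t * f)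
      · -- all non-identity elements: odd number
        obtain ⟨f, hf, hf1, hPf⟩ := hTE
        have hallT := (X.conj_coset hPd hf hf1).2 hPf
        have h : Nat.card {x : G // P x} + 1 = 2 * Nat.card K := by
          rw [← X.card_E, show Nat.card {x : G // P x} + 1 = Nat.card (Option {x : G // P x}) from
            (Finite.card_option).symm, show 2 * Nat.card X.E = Nat.card (X.E ⊕ X.E) by rw [Nat.card_sum]; ring]
          refine (Nat.card_congr (Equiv.ofBijective (fun s : X.E ⊕ X.E => ?_) ⟨?_, ?_⟩)).symm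
          · exact Sum.elim (fun a => if h : a.1 = 1 then none else some ⟨a.1, hallE a.1 a.2 h⟩)
              (fun a => some ⟨t * a.1, if h : a.1 = 1 then by rw [h, mul_one]; exact hPt else hallT a.1 a.2 h⟩) s
          · rintro (a | a) (b | b) h <;> simp only [Sum.elim_inl, Sum.elim_inr] at h
            · by_cases ha : a.1 = 1 <;> by_cases hb : b.1 = 1
              · rw [Subtype.ext (ha.trans hb.symm)]
              · simp [ha, hb] at h
              · simp [ha, hb] at h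
              · simp only [dif_neg ha, dif_neg hb, Option.some.injEq, Subtype.mk.injEq] at h
                rw [Subtype.ext h]
            · by_cases ha : a.1 = 1
              · simp [ha] at h
              · simp only [dif_neg ha, Option.some.injEq, Subtype.mk.injEq] at h
                refine absurd ?_ X.tE
                have e2 := mul_mem a.2 (inv_mem b.2)
                rwa [h, mul_inv_cancel_right] at e2
            · by_cases hb : b.1 = 1
              · simp [hb] at h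
              · simp only [dif_neg hb, Option.some.injEq, Subtype.mk.injEq] at h
                refine absurd ?_ X.tE
                have e2 := mul_mem b.2 (inv_mem a.2)
                rwa [← h, mul_inv_cancel_right] at e2
            · simp only [Option.some.injEq, Subtype.mk.injEq, mul_right_inj] at h
              rw [Subtype.ext h]
          · rintro (_ | ⟨x, hx⟩)
            · exact ⟨Sum.inl ⟨1, one_mem _⟩, by simp⟩
            · obtain ⟨a, ha, rfl | rfl⟩ := X.split_eq hx.1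
              · exact ⟨Sum.inl ⟨_, ha⟩, by simp [hP2 _ hx]⟩
              · exact ⟨Sum.inr ⟨a, ha⟩, by simp⟩
        omega
      push Not at hTE
      -- `{t} ∪ E#`
      obtain ⟨-, g, hg, hge⟩ := hPe
      obtain ⟨f, hf, hf1, hfe⟩ : ∃ f ∈ X.E, f ≠ 1 ∧ f ≠ e := by
        by_contra hno
        push Not at hno
        have hsub : Nat.card X.E ≤ Nat.card (Fin 2) := Nat.card_le_card_of_injective
          (fun a : X.E => if a.1 = 1 then (0 : Fin 2) else 1) (fun a b h => by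
            by_cases ha : a.1 = 1 <;> by_cases hb : b.1 = 1
            · exact Subtype.ext (ha.trans hb.symm)
            · simp [ha, hb] at h
            · simp [ha, hb] at h
            · exact Subtype.ext ((hno _ a.2 ha).trans (hno _ b.2 hb).symm))
        rw [X.card_E, Nat.card_fin] at hsub
        have := X.big
        omega
      have hgH : g⁻¹ ∈ H := inv_mem ((hH _).2 hg)
      have hgi := (hH _).1 hgH
      have hef1 : e * f ≠ 1 := fun h => hfe (by rw [eq_inv_of_mul_eq_one_right h, X.einv he])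
      have h1 := hPmul g⁻¹ hgi _ (hallE f hf hf1)
      have h2 := hPmul g⁻¹ hgi _ (hallE (e * f) (mul_mem he hf) hef1)
      have h3 : g⁻¹ * (e * f) * g⁻¹⁻¹ = t * (g⁻¹ * f * g⁻¹⁻¹) := by rw [← hge]; group
      rw [h3] at h2
      obtain ⟨a, ha, ha' | ha'⟩ := X.split_eq h1.1
      · rw [ha'] at h1 h2
        exact hTE a ha (hP2 _ h1) h2
      · rw [ha'] at h1 h2
        rcases eq_or_ne a 1 with rfl | ha1
        · exact hP2 _ h2 (by rw [mul_one, B.tt])
        · exact hTE a ha ha1 h1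
    · push Not at hE
      refine ⟨hE, fun e he => ?_⟩
      obtain ⟨a, ha, ha1, hPa⟩ : ∃ a ∈ X.E, a ≠ 1 ∧ P (t * a) := by
        have hPu := hPmul _ hun _ hPt
        obtain ⟨a, ha, h | h⟩ := X.split_eq hPu.1
        · rw [h] at hPu
          exact absurd hPu (hE a ha (hP2 _ hPu))
        · refine ⟨a, ha, fun ha1 => huT (B.inter S.2 hTS u.2 ?_), h ▸ hPu⟩
          rw [ha1, mul_one] at h
          exact mul_inv_eq_iff_eq_mul.1 h
      rcases eq_or_ne e 1 with rfl | he1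
      · rwa [mul_one]
      · exact (X.conj_coset hPd ha ha1).2 hPa e he he1
  obtain ⟨hE, hTE⟩ := hcase
  have hinv : ∀ n : G, (∀ y ∈ B.T, n * y * n⁻¹ ∈ B.T) → ∀ e ∈ X.E, n * e * n⁻¹ ∈ X.E := by
    intro n hn e he
    rcases eq_or_ne e 1 with rfl | he1
    · simp
    obtain ⟨a, ha, h | h⟩ := X.split_eq (hn e (X.ET he))
    · rwa [h]
    · exfalso
      have h1 := hPmul n⁻¹ ((hH _).1 (inv_mem ((hH _).2 hn))) _ (hTE a ha)
      rw [← h, show n⁻¹ * (n * e * n⁻¹) * n⁻¹⁻¹ = e by group] at h1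
      exact hE e he he1 h1
  refine ⟨hinv, ?_, fun e he => (hTE e he).2⟩
  -- `u` fixes an element of `E`
  letI : MulAction ↥(zpowers (u : G)) X.E :=
    { smul := fun g e => ⟨g.1 * e.1 * g.1⁻¹, hinv g.1 (fun y hy => by
          have : g.1 ∈ H := (zpowers_le.2 huH : zpowers (u : G) ≤ H) g.2
          exact (hH _).1 this y hy) _ e.2⟩
      one_smul := fun e => Subtype.ext (show (1 : G) * e.1 * (1 : G)⁻¹ = e.1 by simp)
      mul_smul := fun a b e => Subtype.ext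
        (show a.1 * b.1 * e.1 * (a.1 * b.1)⁻¹ = a.1 * (b.1 * e.1 * b.1⁻¹) * a.1⁻¹ by group) }
  have hz : IsPGroup 2 (zpowers (u : G)) := S.2.to_le (zpowers_le.2 u.2)
  have hdvd : 2 ∣ Nat.card X.E := by
    obtain ⟨k, hk⟩ := IsPGroup.iff_card.1 (B.T2.to_le X.ET)
    rw [hk]
    refine dvd_pow_self 2 fun h0 => ?_
    rw [h0, pow_zero, X.card_E] at hk
    have := X.big
    omega
  obtain ⟨e, hefix, hene⟩ := hz.exists_fixed_point_of_prime_dvd_card_of_fixed_point (α := X.E) hdvd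
    (a := (1 : X.E)) (fun g => Subtype.ext (show g.1 * (1 : G) * g.1⁻¹ = 1 by simp))
  have heu : (u : G) * e.1 = e.1 * u := by
    have h := congrArg Subtype.val (hefix ⟨u, mem_zpowers _⟩)
    exact mul_inv_eq_iff_eq_mul.1 h
  have hne' : ¬ IsConj t e.1 := by
    intro h
    obtain ⟨g, hg⟩ := isConj_iff.1 h
    obtain ⟨k, hk⟩ := IsPGroup.iff_orderOf.1 S.2 u
    have hR : IsPGroup 2 ↥(zpowers (u : G) ⊔ B.T) := isPGroup_sup_zpowers B.T2 (k := k) (by
      rw [← hk, ← SubmonoidClass.coe_pow, pow_orderOf_eq_one, OneMemClass.coe_one]) hun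
    have hRe : ∀ x ∈ zpowers (u : G) ⊔ B.T, x * e.1 = e.1 * x := sup_comm (fun y hy => by
      obtain ⟨n, rfl⟩ := hy
      exact ((show Commute (u : G) e.1 from heu).zpow_left n).eq) fun y hy => X.T_comm hy (X.ET e.2)
    obtain ⟨c, -, hc⟩ := B.syl _ (hR.map (MulAut.conj g⁻¹).toMonoidHom) (by
      rintro _ ⟨x, hx, rfl⟩
      show g⁻¹ * x * g⁻¹⁻¹ * t = t * (g⁻¹ * x * g⁻¹⁻¹)
      have h1 := hRe x hx
      rw [← hg] at h1
      rw [inv_inv, show g⁻¹ * x * g * t = g⁻¹ * (x * (g * t * g⁻¹)) * g by group, h1]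
      group)
    have hle : ((zpowers (u : G) ⊔ B.T).map (MulAut.conj g⁻¹).toMonoidHom).map (MulAut.conj c).toMonoidHom ≤ B.T := by
      rintro _ ⟨x, hx, rfl⟩
      exact hc x hx
    have hcd := Subgroup.card_le_of_le hle
    rw [Subgroup.card_map_of_injective (MulAut.conj c).injective,
      Subgroup.card_map_of_injective (MulAut.conj g⁻¹).injective] at hcd
    have := Subgroup.eq_of_le_of_card_ge (le_sup_right : B.T ≤ zpowers (u : G) ⊔ B.T) hcd
    exact huT (this ▸ (le_sup_left : zpowers (u : G) ≤ _) (mem_zpowers _))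
  intro f hf h
  have hf1 : f ≠ 1 := fun h1 => B.t1 (isConj_one_left.1 (h1 ▸ h))
  have he1 : e.1 ≠ 1 := fun h1 => hene.symm (Subtype.ext h1)
  obtain ⟨i, hi⟩ := X.trans hf hf1 e.2 he1
  exact hne' (h.trans (isConj_iff.2 ⟨X.d ^ i, hi⟩))

end Elem

end Cfsg.Agent.TimesPSL
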