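import Mathlib
import Cfsg.Agent.TimesPSL.Elem

/-!
The levels of the chain above `⟨t⟩ × E`: an abelian 2-subgroup `Q` inverted by `t`, its group `Q⟨t⟩`, the affine
action on the field, and the two ways of ending the chain.
-/

set_option autoImplicit false
set_option linter.unusedSectionVars false
set_option linter.style.haveILetI false

namespace Cfsg.Agent.TimesPSL

open Subgroup
open Cfsg.Agent.SingerTwo (Gen)

variable {G : Type*} [Group G] [Finite G]

namespace Elem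

variable {B : Base G} {K : Type*} [Field K] (X : Elem B K)
include X

theorem two_eq : (2 : K) = 0 := X.hK.two

theorem add_self (a : K) : a + a = 0 := X.hK.add_self a

theorem l_ne_one : X.l ≠ 1 := by
  intro h
  haveI := X.hK.fin
  have hle : Nat.card K ≤ Nat.card (Fin 2) := Nat.card_le_card_of_surjective
    (fun i : Fin 2 => if i = 0 then (0 : K) else 1) fun a => by
      rcases eq_or_ne a 0 with rfl | ha
      · exact ⟨0, rfl⟩
      · obtain ⟨i, hi⟩ := X.hK.gen a ha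
        exact ⟨1, by simp [← hi, h]⟩
  rw [Nat.card_fin] at hle
  have := X.big
  omega

theorem card_T : Nat.card B.T = 2 * Nat.card K := by
  rw [← X.card_E, show 2 * Nat.card X.E = Nat.card (X.E ⊕ X.E) by rw [Nat.card_sum]; ring]
  refine (Nat.card_congr (Equiv.ofBijective
    (Sum.elim (fun a : X.E => (⟨a.1, X.ET a.2⟩ : ↥B.T)) (fun a : X.E => ⟨B.t * a.1, mul_mem B.tT (X.ET a.2)⟩))
    ⟨?_, ?_⟩)).symm
  · rintro (a | a) (b | b) h <;> simp only [Sum.elim_inl, Sum.elim_inr, Subtype.mk.injEq] at h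
    · rw [Subtype.ext h]
    · refine absurd ?_ X.tE
      have e2 := mul_mem a.2 (inv_mem b.2)
      rwa [h, mul_inv_cancel_right] at e2
    · refine absurd ?_ X.tE
      have e2 := mul_mem b.2 (inv_mem a.2)
      rwa [← h, mul_inv_cancel_right] at e2
    · rw [Subtype.ext (mul_left_cancel h)]
  · intro x
    obtain ⟨a, ha, h | h⟩ := X.split_eq x.2
    · exact ⟨Sum.inl ⟨a, ha⟩, Subtype.ext h.symm⟩
    · exact ⟨Sum.inr ⟨a, ha⟩, Subtype.ext h.symm⟩

/-- an element centralized by a 2-group larger than `T` is no conjugate of `t` -/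
theorem not_conj_of_big {v : G} {W : Subgroup G} (hW : IsPGroup 2 W) (hWv : ∀ w ∈ W, w * v = v * w)
    (hbig : 2 * Nat.card K < Nat.card W) : ¬ IsConj B.t v := by
  intro h
  obtain ⟨g, hg⟩ := isConj_iff.1 h
  obtain ⟨c, -, hc⟩ := B.syl _ (hW.map (MulAut.conj g⁻¹).toMonoidHom) (by
    rintro _ ⟨x, hx, rfl⟩
    show g⁻¹ * x * g⁻¹⁻¹ * B.t = B.t * (g⁻¹ * x * g⁻¹⁻¹)
    have h1 := hWv x hx
    rw [← hg] at h1
    rw [inv_inv, show g⁻¹ * x * g * B.t = g⁻¹ * (x * (g * B.t * g⁻¹)) * g by group, h1]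
    group)
  have hle : (W.map (MulAut.conj g⁻¹).toMonoidHom).map (MulAut.conj c).toMonoidHom ≤ B.T := by
    rintro _ ⟨x, hx, rfl⟩
    exact hc x hx
  have hcd := Subgroup.card_le_of_le hle
  rw [Subgroup.card_map_of_injective (MulAut.conj c).injective,
    Subgroup.card_map_of_injective (MulAut.conj g⁻¹).injective, X.card_T] at hcd
  omega

/-- The chain stops: `W` has a subgroup of index two free of conjugates of `t` and controls them. -/
theorem terminal [IsSimpleGroup G] (hG : ¬ IsMulCommutative G) {W R : Subgroup G} (hW : IsPGroup 2 W)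
    (hTW : B.T ≤ W) (htR : B.t ∉ R) (hsplit : ∀ w ∈ W, w ∈ R ∨ B.t * w ∈ R)
    (hno : ∀ v ∈ R, ¬ IsConj B.t v)
    (hfus : ∀ s : G, (∀ y ∈ W, s * y * s⁻¹ ∈ W) → ∃ y ∈ W, y * B.t * y⁻¹ = s * B.t * s⁻¹) : False := by
  classical
  haveI : Fact (Nat.Prime 2) := ⟨Nat.prime_two⟩
  obtain ⟨S, hWS⟩ := hW.exists_le_sylow
  have hSW : (S : Subgroup G) = W := by
    by_contra hne
    haveI : Group.IsNilpotent (S : Subgroup G) := S.2.isNilpotent
    have hlt : W.subgroupOf (S : Subgroup G) < ⊤ := lt_top_iff_ne_top.2 fun h =>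
      hne (le_antisymm (subgroupOf_eq_top.1 h) hWS)
    obtain ⟨s, hs, hs'⟩ := SetLike.exists_of_lt (Group.normalizerCondition_of_isNilpotent _ hlt)
    obtain ⟨y, hy, hyt⟩ := hfus s fun x hx =>
      mem_subgroupOf.1 ((mem_normalizer_iff.1 hs ⟨x, hWS hx⟩).1 (mem_subgroupOf.2 hx))
    have hT := B.inter S.2 (hTW.trans hWS) (mul_mem (inv_mem (hWS hy)) s.2) (by
      calc y⁻¹ * (s : G) * B.t = y⁻¹ * ((s : G) * B.t * (s : G)⁻¹) * s := by group
        _ = B.t * (y⁻¹ * s) := by rw [← hyt]; group)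
    refine hs' (mem_subgroupOf.2 ?_)
    have := mul_mem hy (hTW hT)
    rwa [mul_inv_cancel_left] at this
  have hmem : ∀ {x : G}, x ∈ (S : Subgroup G) → x ∈ W := fun h => hSW ▸ h
  have hidx : (R.subgroupOf (S : Subgroup G)).index = 2 := by
    refine index_eq_two_iff'.2 ⟨⟨B.t, hWS (hTW B.tT)⟩, fun b => ?_⟩
    simp only [mem_subgroupOf, Subgroup.coe_mul]
    rcases hsplit b (hmem b.2) with h | h
    · refine Or.inr ⟨h, fun h2 => htR ?_⟩
      have h3 := mul_mem h2 (inv_mem h)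
      rwa [mul_inv_cancel_right] at h3
    · refine Or.inl ⟨h, fun h2 => htR ?_⟩
      have h3 := mul_mem h (inv_mem h2)
      rwa [mul_inv_cancel_right] at h3
  haveI := normal_of_index_eq_two hidx
  haveI : IsCyclic (↥(S : Subgroup G) ⧸ R.subgroupOf (S : Subgroup G)) :=
    isCyclic_of_prime_card (p := 2) (by rw [← index_eq_card, hidx])
  have hcomm : IsMulCommutative (↥(S : Subgroup G) ⧸ R.subgroupOf (S : Subgroup G)) := inferInstance
  letI : CommGroup (↥(S : Subgroup G) ⧸ R.subgroupOf (S : Subgroup G)) :=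
    { (inferInstance : Group (↥(S : Subgroup G) ⧸ R.subgroupOf (S : Subgroup G))) with
      mul_comm := fun a b => hcomm.1.1 a b }
  refine no_char hG S B.tt (hWS (hTW B.tT)) (QuotientGroup.mk' (R.subgroupOf (S : Subgroup G))) ?_ ?_
  · rw [QuotientGroup.mk'_apply, ne_eq, QuotientGroup.eq_one_iff]
    exact fun h => htR h
  · intro g h
    refine QuotientGroup.eq.2 ?_
    simp only [mem_subgroupOf, Subgroup.coe_mul, InvMemClass.coe_inv]
    rcases hsplit _ (hmem h) with h1 | h1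
    · exact absurd (isConj_iff.2 ⟨g, rfl⟩) (hno _ h1)
    · have h2 := inv_mem h1
      rwa [mul_inv_rev, B.ti] at h2

end Elem

/-- A level of the chain. -/
structure Level {B : Base G} {K : Type*} [Field K] (X : Elem B K) where
  k : ℕ
  hk : 1 ≤ k
  Q : Subgroup G
  Q2 : IsPGroup 2 Q
  comm : ∀ a ∈ Q, ∀ b ∈ Q, a * b = b * a
  inv : ∀ a ∈ Q, B.t * a * B.t = a⁻¹
  tQ : B.t ∉ Q
  EQ : X.E ≤ Q
  omega : ∀ a ∈ Q, a * a = 1 → a ∈ X.E
  pwE : ∀ a ∈ Q, a ^ 2 ^ (k - 1) ∈ X.E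
  pwsurj : ∀ e ∈ X.E, ∃ a ∈ Q, a ^ 2 ^ (k - 1) = e
  pwker : ∀ a ∈ Q, a ^ 2 ^ (k - 1) = 1 → ∃ y ∈ Q, y * y = a
  d : G
  dt : d * B.t = B.t * d
  dQ : ∀ a ∈ Q, d * a * d⁻¹ ∈ Q
  dE : ∀ e ∈ X.E, d * e * d⁻¹ = X.d * e * X.d⁻¹
  char : ∀ s : G, (∀ a : G, a ∈ Q ∨ B.t * a ∈ Q → s * a * s⁻¹ ∈ Q ∨ B.t * (s * a * s⁻¹) ∈ Q) →
    ∀ a ∈ Q, s * a * s⁻¹ ∈ Q

namespace Level

variable {B : Base G} {K : Type*} [Field K] {X : Elem B K} (L : Level X)
include L

local notation "t" => B.t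

/-- the coordinate on `Q` modulo squares -/
noncomputable def pw (a : G) : K := X.κ (a ^ 2 ^ (L.k - 1))

theorem pw_add {a b : G} (ha : a ∈ L.Q) (hb : b ∈ L.Q) : L.pw (a * b) = L.pw a + L.pw b := by
  rw [pw, (show Commute a b from L.comm a ha b hb).mul_pow, X.add _ (L.pwE a ha) _ (L.pwE b hb)]
  rfl

theorem pw_one : L.pw 1 = 0 := by rw [pw, one_pow, X.κ_one]

theorem pw_inv {a : G} (ha : a ∈ L.Q) : L.pw a⁻¹ = L.pw a := by
  have h := L.pw_add ha (inv_mem ha)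
  rw [mul_inv_cancel, L.pw_one] at h
  have h2 := X.add_self (L.pw a)
  exact add_left_cancel (h.symm.trans h2.symm)

theorem pw_sq {a : G} (ha : a ∈ L.Q) : L.pw (a * a) = 0 := by rw [L.pw_add ha ha, X.add_self]

theorem pw_exists (x : K) : ∃ a ∈ L.Q, L.pw a = x := by
  obtain ⟨e, he, rfl⟩ := X.surj x
  obtain ⟨a, ha, hae⟩ := L.pwsurj e he
  exact ⟨a, ha, by rw [pw, hae]⟩

theorem sq_of_pw {a : G} (ha : a ∈ L.Q) (h : L.pw a = 0) : ∃ y ∈ L.Q, y * y = a :=
  L.pwker a ha (X.inj _ (L.pwE a ha) 1 (one_mem _) (by rw [X.κ_one]; exact h))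

theorem conj_E {s e : G} (hs : ∀ a ∈ L.Q, s * a * s⁻¹ ∈ L.Q) (he : e ∈ X.E) : s * e * s⁻¹ ∈ X.E :=
  L.omega _ (hs e (L.EQ he)) (by
    rw [show s * e * s⁻¹ * (s * e * s⁻¹) = s * (e * e) * s⁻¹ by group, X.esq e he, mul_one, mul_inv_cancel])

theorem pw_conj {s a : G} (hs : ∀ b ∈ L.Q, s * b * s⁻¹ ∈ L.Q) (hsE : ∀ e ∈ X.E, s * e = e * s) (ha : a ∈ L.Q) :
    L.pw (s * a * s⁻¹) = L.pw a := by
  rw [pw, pw, conj_pow, hsE _ (L.pwE a ha), mul_inv_cancel_right]

theorem d_pw {a : G} (ha : a ∈ L.Q) : L.pw (L.d * a * L.d⁻¹) = X.l * L.pw a := by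
  rw [pw, pw, conj_pow, L.dE _ (L.pwE a ha), X.dκ _ (L.pwE a ha)]

theorem Qe {a e : G} (ha : a ∈ L.Q) (he : e ∈ X.E) : a * e = e * a := L.comm a ha e (L.EQ he)

theorem inv' {a : G} (ha : a ∈ L.Q) : t * a = a⁻¹ * t := by
  rw [← L.inv a ha, mul_assoc (t * a), B.tt, mul_one]

theorem conj_sq {y : G} (hy : y ∈ L.Q) : y⁻¹ * t * y = t * (y * y) := by
  rw [← L.inv' hy, mul_assoc]

/-- the group `Q⟨t⟩` -/
def U : Subgroup G where
  carrier := {a | a ∈ L.Q ∨ t * a ∈ L.Q}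
  one_mem' := Or.inl (one_mem _)
  mul_mem' := by
    rintro a b (ha | ha) (hb | hb)
    · exact Or.inl (mul_mem ha hb)
    · right
      rw [← mul_assoc, L.inv' ha, mul_assoc]
      exact mul_mem (inv_mem ha) hb
    · right
      rw [← mul_assoc]
      exact mul_mem ha hb
    · left
      have h := L.inv _ ha
      rw [show t * (t * a) * t = t * t * a * t by group, B.tt, one_mul] at h
      have e : a * b = (t * a)⁻¹ * (t * b) := by
        rw [← h, mul_assoc a, ← mul_assoc t t b, B.tt, one_mul]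
      rw [e]
      exact mul_mem (inv_mem ha) hb
  inv_mem' := by
    rintro a (ha | ha)
    · exact Or.inl (inv_mem ha)
    · right
      have e : t * a⁻¹ = t * a := by
        have h := L.inv _ ha
        rw [show t * (t * a) * t = t * t * a * t by group, B.tt, one_mul, mul_inv_rev, B.ti] at h
        rw [← mul_right_cancel (b := t) h]
      rw [e]
      exact ha

theorem mem_U {a : G} : a ∈ L.U ↔ a ∈ L.Q ∨ t * a ∈ L.Q := Iff.rfl

theorem tU : t ∈ L.U := Or.inr (by rw [B.tt]; exact one_mem _)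

theorem T_le : B.T ≤ L.U := fun x hx => by
  rcases X.split x hx with h | h
  · exact Or.inl (L.EQ h)
  · exact Or.inr (L.EQ h)

theorem U_two : IsPGroup 2 L.U := by
  refine (isPGroup_sup_zpowers L.Q2 (v := t) (k := 1) (by rw [pow_one, pow_two, B.tt]) fun x hx => ?_).to_le ?_
  · rw [B.ti, L.inv x hx]
    exact inv_mem hx
  · rintro a (ha | ha)
    · exact le_sup_right (a := zpowers t) ha
    · rw [show a = t * (t * a) by rw [← mul_assoc, B.tt, one_mul]]
      exact mul_mem (le_sup_left (b := L.Q) (mem_zpowers t)) (le_sup_right (a := zpowers t) ha)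

theorem U_split {a : G} (ha : a ∈ L.U) : a ∈ L.Q ∨ ∃ w ∈ L.Q, a = t * w :=
  ha.imp id fun h => ⟨t * a, h, by rw [← mul_assoc, B.tt, one_mul]⟩

theorem tw_sq {w : G} (hw : w ∈ L.Q) : t * w * (t * w) = 1 := by
  rw [← mul_assoc, L.inv w hw, inv_mul_cancel]

/-- the stabilizer `M` of the coset `tQ` in the normalizer of `Q` -/
def M : Subgroup G where
  carrier := {s | (∀ a ∈ L.Q, s * a * s⁻¹ ∈ L.Q) ∧ t * (s * t * s⁻¹) ∈ L.Q}
  one_mem' := ⟨fun a ha => by simpa using ha, by simp [B.tt]⟩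
  mul_mem' := by
    rintro s r ⟨hs, hst⟩ ⟨hr, hrt⟩
    refine ⟨fun a ha => ?_, ?_⟩
    · rw [show s * r * a * (s * r)⁻¹ = s * (r * a * r⁻¹) * s⁻¹ by group]
      exact hs _ (hr a ha)
    · have e : t * (s * r * t * (s * r)⁻¹) = t * (s * t * s⁻¹) * (s * (t * (r * t * r⁻¹)) * s⁻¹) := by
        calc t * (s * r * t * (s * r)⁻¹) = t * (s * (t * t) * (r * t * r⁻¹) * s⁻¹) := by rw [B.tt]; group
          _ = _ := by group
      rw [e]
      exact mul_mem hst (hs _ hrt)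
  inv_mem' := by
    rintro s ⟨hs, hst⟩
    have hi : ∀ a ∈ L.Q, s⁻¹ * a * s⁻¹⁻¹ ∈ L.Q := fun a ha =>
      (mem_normalizer_iff.1 (inv_mem (Invol.mem_normalizer_of_conj_le (H := L.Q) (g := s) (by
        rintro _ ⟨x, hx, rfl⟩
        exact hs x hx))) a).1 ha
    refine ⟨hi, ?_⟩
    have h := hi _ (inv_mem hst)
    simpa only [mul_inv_rev, inv_inv, B.ti, mul_assoc, inv_mul_cancel_left] using h

theorem M_E {s e : G} (hs : s ∈ L.M) (he : e ∈ X.E) : s * e * s⁻¹ ∈ X.E := L.conj_E hs.1 he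

/-- the translation part -/
noncomputable def c (s : G) : K := L.pw (t * (s * t * s⁻¹))

theorem c_mul {s r : G} (hs : s ∈ L.M) (hr : r ∈ L.M) :
    L.c (s * r) = L.c s + X.κ (s * (t * (r * t * r⁻¹)) ^ 2 ^ (L.k - 1) * s⁻¹) := by
  have e : t * (s * r * t * (s * r)⁻¹) = t * (s * t * s⁻¹) * (s * (t * (r * t * r⁻¹)) * s⁻¹) := by
    calc t * (s * r * t * (s * r)⁻¹) = t * (s * (t * t) * (r * t * r⁻¹) * s⁻¹) := by rw [B.tt]; group
      _ = _ := by group
  rw [c, e, L.pw_add hs.2 (hs.1 _ hr.2)]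
  congr 1
  rw [pw, conj_pow]

theorem c_mul' {s r e : G} (hs : s ∈ L.M) (hr : r ∈ L.M) (he : e ∈ X.E) (hre : X.κ e = L.c r) :
    L.c (s * r) = L.c s + X.κ (s * e * s⁻¹) := by
  rw [L.c_mul hs hr, ← X.inj _ he _ (L.pwE _ hr.2) hre]

theorem c_one : L.c 1 = 0 := by simp [c, B.tt, L.pw_one]

theorem d_mem : L.d ∈ L.M := ⟨L.dQ, by rw [L.dt, mul_inv_cancel_right, B.tt]; exact one_mem _⟩

theorem c_d : L.c L.d = 0 := by rw [c, L.dt, mul_inv_cancel_right, B.tt, L.pw_one]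

theorem Q_le_M {y : G} (hy : y ∈ L.Q) : y ∈ L.M := by
  refine ⟨fun a ha => mul_mem (mul_mem hy ha) (inv_mem hy), ?_⟩
  rw [← mul_assoc, ← mul_assoc, L.inv y hy]
  exact mul_mem (inv_mem hy) (inv_mem hy)

theorem U_le_M : L.U ≤ L.M := fun a ha => by
  rcases L.U_split ha with h | ⟨w, hw, rfl⟩
  · exact L.Q_le_M h
  · refine mul_mem ⟨fun b hb => ?_, ?_⟩ (L.Q_le_M hw)
    · rw [B.ti, L.inv b hb]
      exact inv_mem hb
    · rw [mul_inv_cancel_right, B.tt]
      exact one_mem _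

/-- an element fixing the origin is one of the centralizer times one of `Q` -/
theorem adjust {s : G} (hs : s ∈ L.M) (h0 : L.c s = 0) :
    ∃ y ∈ L.Q, y * s * t = t * (y * s) ∧ y * s ∈ L.M := by
  obtain ⟨y, hy, hys⟩ := L.sq_of_pw hs.2 h0
  refine ⟨y, hy, ?_, mul_mem (L.Q_le_M hy) hs⟩
  have e : s * t * s⁻¹ = y⁻¹ * t * y := by
    rw [L.conj_sq hy, hys, ← mul_assoc, B.tt, one_mul]
  calc y * s * t = y * (s * t * s⁻¹) * s := by group
    _ = t * (y * s) := by rw [e]; group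

/-- an element of `U` is determined by being a 2-element of `M` fixing the origin and `E` -/
theorem mem_U_of_two {W : Subgroup G} (hW : IsPGroup 2 W) (hUW : L.U ≤ W) {u : G} (hu : u ∈ W) (huM : u ∈ L.M)
    (h0 : L.c u = 0) : u ∈ L.U := by
  obtain ⟨y, hy, hyt, -⟩ := L.adjust huM h0
  have h := L.T_le (B.inter hW (L.T_le.trans hUW) (mul_mem (hUW (Or.inl hy)) hu) hyt)
  have := mul_mem (inv_mem (show y ∈ L.U from Or.inl hy)) h
  rwa [inv_mul_cancel_left] at this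

/-- coprime action on `Q`: trivial on `E` is trivial -/
theorem odd_centralizes {b : G} (hb : ∀ a ∈ L.Q, b * a * b⁻¹ ∈ L.Q) (hbE : ∀ e ∈ X.E, b * e = e * b)
    (hodd : Odd (orderOf b)) : ∀ a ∈ L.Q, b * a = a * b := by
  suffices h : ∀ (j : ℕ), ∀ a ∈ L.Q, a ^ 2 ^ j = 1 → b * a = a * b by
    intro a ha
    obtain ⟨j, hj⟩ := L.Q2 ⟨a, ha⟩
    exact h j a ha (congrArg Subtype.val hj)
  intro j
  induction j with
  | zero =>
    intro a _ h
    rw [pow_zero, pow_one] at h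
    rw [h, mul_one, one_mul]
  | succ j ih =>
    intro a ha h
    have h2 : b * (a * a) = a * a * b := ih _ (mul_mem ha ha) (by rw [← pow_two, ← pow_mul, ← pow_succ', h])
    set e := a⁻¹ * (b * a * b⁻¹) with he
    have heQ : e ∈ L.Q := mul_mem (inv_mem ha) (hb a ha)
    have heE : e ∈ X.E := L.omega e heQ (by
      rw [he, show a⁻¹ * (b * a * b⁻¹) * (a⁻¹ * (b * a * b⁻¹)) =
          a⁻¹ * ((b * a * b⁻¹) * a⁻¹) * (b * a * b⁻¹) by group,
        L.comm _ (hb a ha) _ (inv_mem ha)]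
      rw [show a⁻¹ * (a⁻¹ * (b * a * b⁻¹)) * (b * a * b⁻¹) = a⁻¹ * a⁻¹ * (b * (a * a) * b⁻¹) by group, h2]
      group)
    have hiter : ∀ m : ℕ, b ^ m * a * (b ^ m)⁻¹ = a * e ^ m := by
      intro m
      induction m with
      | zero => simp
      | succ m ihm =>
        rw [pow_succ', show b * b ^ m * a * (b * b ^ m)⁻¹ = b * (b ^ m * a * (b ^ m)⁻¹) * b⁻¹ by group, ihm,
          show b * (a * e ^ m) * b⁻¹ = b * a * b⁻¹ * (b * e ^ m * b⁻¹) by group, hbE _ (pow_mem heE m),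
          mul_inv_cancel_right, pow_succ', ← mul_assoc, he]
        congr 1
        group
    have h3 := hiter (orderOf b)
    rw [pow_orderOf_eq_one, one_mul, inv_one, mul_one, left_eq_mul] at h3
    obtain ⟨m, hm⟩ := hodd
    rw [hm, pow_succ, pow_mul, pow_two, X.esq e heE, one_pow, one_mul, he, inv_mul_eq_one] at h3
    exact mul_inv_eq_iff_eq_mul.1 h3.symm

/-- an element of the centralizer fixing `Q` modulo the odd part centralizing `U` -/
theorem split_odd {z : G} (hz : z * t = t * z) (hzQ : ∀ a ∈ L.Q, z * a * z⁻¹ ∈ L.Q)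
    (hzE : ∀ e ∈ X.E, z * e = e * z) :
    ∃ a ∈ B.T, ∃ b : G, z = b * a ∧ b * t = t * b ∧ ∀ y ∈ L.Q, b * y = y * b := by
  obtain ⟨m, r, hr, hord⟩ := Nat.exists_eq_pow_mul_and_not_dvd (orderOf_pos z).ne' 2 (by decide)
  have hcop : Nat.Coprime (2 ^ m) r := Nat.Coprime.pow_left _ ((Nat.prime_two.coprime_iff_not_dvd).2 hr)
  have hzT : ∀ n : ℤ, ∀ y ∈ B.T, z ^ n * y = y * z ^ n := by
    intro n y hy
    refine ((show Commute z y from ?_).zpow_left n).eq
    rcases X.split_eq hy with ⟨e, he, rfl | rfl⟩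
    · exact hzE _ he
    · exact (show Commute z t from hz).mul_right (hzE e he)
  obtain ⟨p, q, hpq⟩ := Nat.isCoprime_iff_coprime.2 hcop
  refine ⟨z ^ (q * r), ?_, z ^ (p * 2 ^ m), ?_, ?_, ?_⟩
  · refine B.mem_T_of_comm (k := m) ?_ (hzT _)
    rw [← zpow_natCast, ← zpow_mul]
    refine orderOf_dvd_iff_zpow_eq_one.1 ⟨q, ?_⟩
    rw [hord]
    push_cast
    ring
  · rw [← zpow_add]
    push_cast at hpq
    rw [hpq, zpow_one]
  · exact ((show Commute z t from hz).zpow_left _).eq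
  · have hn : zpowers z ≤ normalizer (L.Q : Set G) := zpowers_le.2 (Invol.mem_normalizer_of_conj_le (by
      rintro _ ⟨x, hx, rfl⟩
      exact hzQ x hx))
    refine L.odd_centralizes (fun a ha => (mem_normalizer_iff.1 (hn ⟨p * 2 ^ m, rfl⟩) a).1 ha)
      (fun e he => hzT _ e (X.ET he)) ?_
    refine Odd.of_dvd_nat (Nat.odd_iff.2 (Nat.two_dvd_ne_zero.1 hr)) (orderOf_dvd_of_pow_eq_one ?_)
    rw [← zpow_natCast, ← zpow_mul]
    refine orderOf_dvd_iff_zpow_eq_one.1 ⟨p, ?_⟩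
    rw [hord]
    push_cast
    ring

/-- if all elements of `M` fix the origin the chain stops -/
theorem fixed_stop [IsSimpleGroup G] (hG : ¬ IsMulCommutative G) (hE : ∀ e ∈ X.E, ¬ IsConj t e)
    (h0 : ∀ s ∈ L.M, L.c s = 0) : False := by
  refine X.terminal hG L.U_two L.T_le L.tQ (fun w hw => hw) ?_ ?_
  · intro v hv h
    refine hE v (L.omega v hv ?_) h
    obtain ⟨g, hg⟩ := isConj_iff.1 h
    rw [← hg, show g * t * g⁻¹ * (g * t * g⁻¹) = g * (t * t) * g⁻¹ by group, B.tt, mul_one, mul_inv_cancel]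
  · intro s hs
    have hsQ := L.char s fun a ha => hs a ha
    have hst : t * (s * t * s⁻¹) ∈ L.Q := by
      rcases hs t L.tU with h | h
      · exfalso
        refine L.tQ ?_
        have hn : s ∈ normalizer (L.Q : Set G) := Invol.mem_normalizer_of_conj_le (by
          rintro _ ⟨x, hx, rfl⟩
          exact hsQ x hx)
        exact (mem_normalizer_iff.1 hn t).2 h
      · exact h
    obtain ⟨y, hy, hys⟩ := L.sq_of_pw hst (h0 s ⟨hsQ, hst⟩)
    refine ⟨y⁻¹, Or.inl (inv_mem hy), ?_⟩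
    rw [inv_inv, L.conj_sq hy, hys, ← mul_assoc, B.tt, one_mul]

/-- one element moving the origin gives transitivity -/
theorem transitive (h : ∃ s ∈ L.M, L.c s ≠ 0) : ∀ x : K, ∃ s ∈ L.M, L.c s = x := by
  obtain ⟨s, hs, hs0⟩ := h
  have hpow : ∀ i : ℕ, L.c (L.d ^ i * s) = X.l ^ i * L.c s := by
    intro i
    induction i with
    | zero => simp
    | succ i ih =>
      obtain ⟨e, he, hee⟩ := X.surj (L.c (L.d ^ i * s))
      rw [pow_succ', mul_assoc, L.c_mul' L.d_mem (mul_mem (pow_mem L.d_mem i) hs) he hee, L.c_d, zero_add,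
        L.dE e he, X.dκ e he, hee, ih, pow_succ', mul_assoc]
  intro x
  rcases eq_or_ne x 0 with rfl | hx
  · exact ⟨1, one_mem _, L.c_one⟩
  · obtain ⟨i, hi⟩ := X.hK.gen (x / L.c s) (div_ne_zero hx hs0)
    exact ⟨L.d ^ i * s, mul_mem (pow_mem L.d_mem i) hs, by rw [hpow, hi, div_mul_cancel₀ _ hs0]⟩

/-- under transitivity every element of `tQ` is conjugate to `t` -/
theorem conj_tQ (h : ∀ x : K, ∃ s ∈ L.M, L.c s = x) {w : G} (hw : w ∈ L.Q) : IsConj t (t * w) := by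
  obtain ⟨s, hs, hsw⟩ := h (L.pw w)
  obtain ⟨y, hy, hys⟩ := L.sq_of_pw (mul_mem (inv_mem hs.2) hw) (by
    rw [L.pw_add (inv_mem hs.2) hw, L.pw_inv hs.2]
    show L.c s + L.pw w = 0
    rw [hsw, X.add_self])
  refine isConj_iff.2 ⟨y⁻¹ * s, ?_⟩
  calc y⁻¹ * s * t * (y⁻¹ * s)⁻¹ = y⁻¹ * (s * t * s⁻¹) * y := by group
    _ = y⁻¹ * t * (t * (s * t * s⁻¹)) * y := by simp only [mul_assoc]; rw [← mul_assoc t t, B.tt, one_mul]
    _ = y⁻¹ * t * y * (t * (s * t * s⁻¹)) := by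
        rw [mul_assoc (y⁻¹ * t), L.comm _ hs.2 y hy, ← mul_assoc]
    _ = t * w := by
        rw [L.conj_sq hy, hys, mul_assoc, L.comm _ (mul_mem (inv_mem hs.2) hw) _ hs.2, mul_inv_cancel_left]

theorem two_card (hk : 2 ≤ L.k) : Nat.card K * Nat.card K ≤ Nat.card L.Q := by
  haveI := X.hK.fin
  choose f hf hfx using L.pw_exists
  rw [← Nat.card_prod]
  refine Nat.card_le_card_of_injective
    (fun p : K × K => (⟨f p.1 * Classical.choose (X.surj p.2),
      mul_mem (hf p.1) (L.EQ (Classical.choose_spec (X.surj p.2)).1)⟩ : L.Q)) ?_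
  have hz : ∀ e ∈ X.E, L.pw e = 0 := fun e he => by
    rw [pw, show L.k - 1 = L.k - 2 + 1 by omega, pow_succ', pow_mul, pow_two, X.esq e he, one_pow, X.κ_one]
  rintro ⟨a, a'⟩ ⟨b, b'⟩ h
  have h := congrArg Subtype.val h
  simp only at h
  have h1 := congrArg L.pw h
  rw [L.pw_add (hf a) (L.EQ (Classical.choose_spec (X.surj a')).1),
    L.pw_add (hf b) (L.EQ (Classical.choose_spec (X.surj b')).1), hfx, hfx, hz _ (Classical.choose_spec (X.surj a')).1,
    hz _ (Classical.choose_spec (X.surj b')).1, add_zero, add_zero] at h1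
  subst h1
  have h2 := congrArg X.κ (mul_left_cancel h)
  rw [(Classical.choose_spec (X.surj a')).2, (Classical.choose_spec (X.surj b')).2] at h2
  rw [h2]

end Level

end Cfsg.Agent.TimesPSL
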