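import Mathlib
import Cfsg.Agent.TimesPSL.Level
import Cfsg.Agent.TimesPSL.Forms

/-!
A level with all translations: the lifted 2-group `W` above `Q⟨t⟩`, an element normalizing it that induces the
scalar, and the candidate `R` for the next level.
-/

set_option autoImplicit false
set_option linter.unusedSectionVars false
set_option linter.style.haveILetI false

namespace Cfsg.Agent.TimesPSL

open Subgroup
open scoped Pointwise
open Cfsg.Agent.SingerTwo (Gen)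

variable {G : Type*} [Group G] [Finite G]

/-- a biadditive map on two groups factors through additive coordinates whose kernels it kills -/
theorem factor_form {K : Type*} [Field K] {l : K} {d : G} {P P' : Subgroup G} (φ ψ : G → K) (β : G → G → K)
    (hφ : ∀ x ∈ P, ∀ y ∈ P, φ (x * y) = φ x + φ y) (hψ : ∀ x ∈ P', ∀ y ∈ P', ψ (x * y) = ψ x + ψ y)
    (hφs : ∀ a, ∃ x ∈ P, φ x = a) (hψs : ∀ a, ∃ x ∈ P', ψ x = a)
    (hb1 : ∀ x ∈ P, ∀ x' ∈ P, ∀ y ∈ P', β (x * x') y = β x y + β x' y)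
    (hb2 : ∀ x ∈ P, ∀ y ∈ P', ∀ y' ∈ P', β x (y * y') = β x y + β x y')
    (hk1 : ∀ x ∈ P, φ x = 0 → ∀ y ∈ P', β x y = 0) (hk2 : ∀ y ∈ P', ψ y = 0 → ∀ x ∈ P, β x y = 0)
    (hdP : ∀ x ∈ P, d * x * d⁻¹ ∈ P ∧ φ (d * x * d⁻¹) = l * φ x)
    (hdP' : ∀ y ∈ P', d * y * d⁻¹ ∈ P' ∧ ψ (d * y * d⁻¹) = l * ψ y)
    (hd : ∀ x ∈ P, ∀ y ∈ P', β (d * x * d⁻¹) (d * y * d⁻¹) = l * β x y) :
    ∃ g : K → K → K, (∀ a a' b, g (a + a') b = g a b + g a' b) ∧ (∀ a b b', g a (b + b') = g a b + g a b') ∧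
      (∀ a b, g (l * a) (l * b) = l * g a b) ∧ ∀ x ∈ P, ∀ y ∈ P', β x y = g (φ x) (ψ y) := by
  choose r hr hrφ using hφs
  choose f hf hfψ using hψs
  have e1 : ∀ x ∈ P, ∀ x' ∈ P, φ x = φ x' → ∀ y ∈ P', β x y = β x' y := by
    intro x hx x' hx' h y hy
    have hz : φ (x⁻¹ * x') = 0 := by
      have h2 := hφ x hx _ (mul_mem (inv_mem hx) hx')
      rw [mul_inv_cancel_left, ← h, left_eq_add] at h2
      exact h2
    have h2 := hb1 x hx _ (mul_mem (inv_mem hx) hx') y hy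
    rw [mul_inv_cancel_left, hk1 _ (mul_mem (inv_mem hx) hx') hz y hy, add_zero] at h2
    exact h2.symm
  have e2 : ∀ y ∈ P', ∀ y' ∈ P', ψ y = ψ y' → ∀ x ∈ P, β x y = β x y' := by
    intro y hy y' hy' h x hx
    have hz : ψ (y⁻¹ * y') = 0 := by
      have h2 := hψ y hy _ (mul_mem (inv_mem hy) hy')
      rw [mul_inv_cancel_left, ← h, left_eq_add] at h2
      exact h2
    have h2 := hb2 x hx y hy _ (mul_mem (inv_mem hy) hy')
    rw [mul_inv_cancel_left, hk2 _ (mul_mem (inv_mem hy) hy') hz x hx, add_zero] at h2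
    exact h2.symm
  have key : ∀ x ∈ P, ∀ y ∈ P', β x y = β (r (φ x)) (f (ψ y)) := fun x hx y hy => by
    rw [e1 x hx _ (hr _) (hrφ _).symm y hy, e2 y hy _ (hf _) (hfψ _).symm _ (hr _)]
  refine ⟨fun a b => β (r a) (f b), fun a a' b => ?_, fun a b b' => ?_, fun a b => ?_, key⟩
  · show β (r (a + a')) (f b) = _
    rw [e1 _ (hr _) _ (mul_mem (hr a) (hr a')) (by rw [hrφ, hφ _ (hr a) _ (hr a'), hrφ, hrφ]) _ (hf b),
      hb1 _ (hr a) _ (hr a') _ (hf b)]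
  · show β (r a) (f (b + b')) = _
    rw [e2 _ (hf _) _ (mul_mem (hf b) (hf b')) (by rw [hfψ, hψ _ (hf b) _ (hf b'), hfψ, hfψ]) _ (hr a),
      hb2 _ (hr a) _ (hf b) _ (hf b')]
  · show β (r (l * a)) (f (l * b)) = _
    rw [e1 _ (hr _) _ (hdP _ (hr a)).1 (by rw [hrφ, (hdP _ (hr a)).2, hrφ]) _ (hf _),
      e2 _ (hf _) _ (hdP' _ (hf b)).1 (by rw [hfψ, (hdP' _ (hf b)).2, hfψ]) _ (hdP _ (hr a)).1,
      hd _ (hr a) _ (hf b)]

namespace Level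

variable {B : Base G} {K : Type*} [Field K] {X : Elem B K} (L : Level X)
include L

local notation "t" => B.t

/-- the elements of `M` centralizing `E` -/
def N : Subgroup G where
  carrier := {s | s ∈ L.M ∧ ∀ e ∈ X.E, s * e = e * s}
  one_mem' := ⟨one_mem _, fun e _ => by rw [one_mul, mul_one]⟩
  mul_mem' := fun {a b} ha hb => ⟨mul_mem ha.1 hb.1, fun e he => by
    rw [mul_assoc, hb.2 e he, ← mul_assoc, ha.2 e he, mul_assoc]⟩
  inv_mem' := fun {a} ha => ⟨inv_mem ha.1, fun e he =>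
    ((show Commute a e from ha.2 e he).inv_left).eq⟩

theorem U_le_N : L.U ≤ L.N := fun a ha => ⟨L.U_le_M ha, fun e he => by
  rcases L.U_split ha with h | ⟨w, hw, rfl⟩
  · exact L.Qe h he
  · rw [mul_assoc, L.Qe hw he, ← mul_assoc, ← X.te he, mul_assoc]⟩

theorem c_N {s r : G} (hs : s ∈ L.N) (hr : r ∈ L.M) : L.c (s * r) = L.c s + L.c r := by
  obtain ⟨e, he, hee⟩ := X.surj (L.c r)
  rw [L.c_mul' hs.1 hr he hee, hs.2 e he, mul_inv_cancel_right, hee]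

theorem c_right {s r : G} (hs : s ∈ L.M) (hr : r ∈ L.M) (h0 : L.c r = 0) : L.c (s * r) = L.c s := by
  rw [L.c_mul' hs hr (one_mem X.E) (by rw [X.κ_one, h0]), mul_one, mul_inv_cancel, X.κ_one, add_zero]

theorem c_inv {s : G} (hs : s ∈ L.N) : L.c s⁻¹ = L.c s := by
  have h := L.c_N hs (inv_mem hs.1)
  rw [mul_inv_cancel, L.c_one] at h
  exact add_left_cancel (h.symm.trans (X.add_self (L.c s)).symm)

theorem c_conj_N {s r : G} (hs : s ∈ L.N) (hr : r ∈ L.N) : L.c (s * r * s⁻¹) = L.c r := by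
  rw [mul_assoc, L.c_N hs (mul_mem hr.1 (inv_mem hs.1)), L.c_N hr (inv_mem hs.1), L.c_inv hs, add_left_comm,
    X.add_self, add_zero]

theorem c_pow_odd {s : G} (hs : s ∈ L.N) (i : ℕ) : L.c (s ^ (2 * i + 1)) = L.c s := by
  induction i with
  | zero => rw [pow_one]
  | succ i ih =>
    rw [show 2 * (i + 1) + 1 = 1 + (1 + (2 * i + 1)) by omega, pow_add, pow_add, pow_one,
      L.c_N hs (mul_mem hs.1 (pow_mem hs.1 _)), L.c_N hs (pow_mem hs.1 _), ih, X.add_self, add_zero]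

theorem conj_scalar {d s : G} (hd : d ∈ L.M) (hd0 : L.c d = 0)
    (hdE : ∀ e ∈ X.E, d * e * d⁻¹ = X.d * e * X.d⁻¹) (hs : s ∈ L.N) :
    d * s * d⁻¹ ∈ L.N ∧ L.c (d * s * d⁻¹) = X.l * L.c s := by
  refine ⟨⟨mul_mem (mul_mem hd hs.1) (inv_mem hd), fun e he => ?_⟩, ?_⟩
  · have h1 : d⁻¹ * e * d ∈ X.E := by
      have h := L.M_E (inv_mem hd) he
      rwa [inv_inv] at h
    calc d * s * d⁻¹ * e = d * (s * (d⁻¹ * e * d)) * d⁻¹ := by group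
      _ = d * ((d⁻¹ * e * d) * s) * d⁻¹ := by rw [hs.2 _ h1]
      _ = e * (d * s * d⁻¹) := by group
  · have hd' : L.c d⁻¹ = 0 := by
      rw [← L.c_right (inv_mem hd) hd hd0, inv_mul_cancel, L.c_one]
    obtain ⟨e, he, hee⟩ := X.surj (L.c (s * d⁻¹))
    rw [mul_assoc, L.c_mul' hd (mul_mem hs.1 (inv_mem hd)) he hee, hd0, zero_add, hdE e he, X.dκ e he, hee,
      L.c_N hs (inv_mem hd), hd', add_zero]

/-- the data above a level with all translations -/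
structure Lift where
  W : Subgroup G
  W2 : IsPGroup 2 W
  UW : L.U ≤ W
  WN : W ≤ L.N
  csurj : ∀ x : K, ∃ s ∈ W, L.c s = x
  d : G
  dt : d * B.t = B.t * d
  dM : d ∈ L.M
  dE : ∀ e ∈ X.E, d * e * d⁻¹ = X.d * e * X.d⁻¹
  dW : ∀ s ∈ W, d * s * d⁻¹ ∈ W

theorem exists_lift (hsurj : ∀ x : K, ∃ s ∈ L.N, L.c s = x) : Nonempty L.Lift := by
  classical
  haveI : Fact (Nat.Prime 2) := ⟨Nat.prime_two⟩
  obtain ⟨Q0, hQ0⟩ := (L.U_two.comap_subtype (K := L.N)).exists_le_sylow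
  obtain ⟨W, rfl⟩ : ∃ W, W = (Q0 : Subgroup L.N).map L.N.subtype := ⟨_, rfl⟩
  have hW2 : IsPGroup 2 ↥((Q0 : Subgroup L.N).map L.N.subtype) := Q0.2.map _
  have hUW : L.U ≤ (Q0 : Subgroup L.N).map L.N.subtype := fun a ha => ⟨⟨a, L.U_le_N ha⟩, hQ0 ha, rfl⟩
  have hWN : (Q0 : Subgroup L.N).map L.N.subtype ≤ L.N := map_subtype_le _
  have hconj : ∀ H : Subgroup G, H ≤ L.N → IsPGroup 2 H →
      ∃ n ∈ L.N, ∀ x ∈ H, n * x * n⁻¹ ∈ (Q0 : Subgroup L.N).map L.N.subtype := by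
    intro H hH hH2
    obtain ⟨P, hP⟩ := (hH2.comap_subtype (K := L.N)).exists_le_sylow
    obtain ⟨g, hg⟩ := MulAction.exists_smul_eq L.N P Q0
    refine ⟨g, g.2, fun x hx => ⟨g * ⟨x, hH hx⟩ * g⁻¹, ?_, rfl⟩⟩
    rw [← hg]
    show _ ∈ MulAut.conj g • (P : Subgroup L.N)
    exact Subgroup.smul_mem_pointwise_smul _ (MulAut.conj g) _ (hP (show x ∈ H from hx))
  have hcsurj : ∀ x : K, ∃ s ∈ (Q0 : Subgroup L.N).map L.N.subtype, L.c s = x := by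
    intro x
    obtain ⟨s, hs, hsx⟩ := hsurj x
    obtain ⟨m, r, hr, hord⟩ := Nat.exists_eq_pow_mul_and_not_dvd (orderOf_pos s).ne' 2 (by decide)
    obtain ⟨i, hi⟩ := Nat.odd_iff.2 (Nat.two_dvd_ne_zero.1 hr)
    obtain ⟨n, hn, hnW⟩ := hconj (zpowers (s ^ r)) (zpowers_le.2 (pow_mem hs r))
      (isPGroup_zpowers (k := m) (by rw [← pow_mul, mul_comm, ← hord, pow_orderOf_eq_one]))
    exact ⟨_, hnW _ (mem_zpowers _), by rw [L.c_conj_N hn (pow_mem hs r), hi, L.c_pow_odd hs, hsx]⟩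
  obtain ⟨n, hn, hnW⟩ := hconj (((Q0 : Subgroup L.N).map L.N.subtype).map (MulAut.conj L.d).toMonoidHom)
    (by
      rintro _ ⟨x, hx, rfl⟩
      exact (L.conj_scalar L.d_mem L.c_d L.dE (hWN hx)).1)
    (hW2.map _)
  obtain ⟨u, hu, hux⟩ := hcsurj (L.c n)
  have hc : L.c (u * (n * L.d)) = 0 := by
    rw [L.c_N (hWN hu) (mul_mem hn.1 L.d_mem), L.c_N hn L.d_mem, L.c_d, add_zero, hux, X.add_self]
  obtain ⟨y, hy, hyt, hyM⟩ := L.adjust (mul_mem (hWN hu).1 (mul_mem hn.1 L.d_mem)) hc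
  refine ⟨⟨_, hW2, hUW, hWN, hcsurj, y * (u * (n * L.d)), hyt, hyM, fun e he => ?_, fun s hs => ?_⟩⟩
  · have hyN : y ∈ L.N := L.U_le_N (show y ∈ L.U from Or.inl hy)
    have hA : y * u * n ∈ L.N := mul_mem (mul_mem hyN (hWN hu)) hn
    have hde : X.d * e * X.d⁻¹ ∈ X.E := X.dE e he
    calc y * (u * (n * L.d)) * e * (y * (u * (n * L.d)))⁻¹
        = (y * u * n) * (L.d * e * L.d⁻¹) * (y * u * n)⁻¹ := by group
      _ = X.d * e * X.d⁻¹ := by rw [L.dE e he, hA.2 _ hde, mul_inv_cancel_right]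
  · have h1 := hnW _ ⟨s, hs, rfl⟩
    have hyu := mul_mem (hUW (show y ∈ L.U from Or.inl hy)) hu
    have h2 := mul_mem (mul_mem hyu h1) (inv_mem hyu)
    simpa [mul_assoc] using h2

namespace Lift

variable {L} (V : L.Lift)
include V

theorem WM {s : G} (hs : s ∈ V.W) : s ∈ L.M := (V.WN hs).1

theorem WQ {s a : G} (hs : s ∈ V.W) (ha : a ∈ L.Q) : s * a * s⁻¹ ∈ L.Q := (V.WM hs).1 a ha

theorem QW {a : G} (ha : a ∈ L.Q) : a ∈ V.W := V.UW (Or.inl ha)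

theorem tW : t ∈ V.W := V.UW L.tU

theorem WE {s e : G} (hs : s ∈ V.W) (he : e ∈ X.E) : s * e * s⁻¹ = e := by
  rw [(V.WN hs).2 e he, mul_inv_cancel_right]

theorem pw_conj {s a : G} (hs : s ∈ V.W) (ha : a ∈ L.Q) : L.pw (s * a * s⁻¹) = L.pw a :=
  L.pw_conj (V.WM hs).1 (V.WN hs).2 ha

theorem c_mul {s r : G} (hs : s ∈ V.W) (hr : r ∈ V.W) : L.c (s * r) = L.c s + L.c r :=
  L.c_N (V.WN hs) (V.WM hr)

theorem c_Q {a : G} (ha : a ∈ L.Q) : L.c a = 0 := by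
  rw [Level.c, ← mul_assoc, ← mul_assoc, L.inv a ha, L.pw_add (inv_mem ha) (inv_mem ha), X.add_self]

theorem c_t : L.c t = 0 := by rw [Level.c, mul_inv_cancel_right, B.tt, L.pw_one]

theorem ker {s : G} (hs : s ∈ V.W) (h0 : L.c s = 0) : s ∈ L.U := L.mem_U_of_two V.W2 V.UW hs (V.WM hs) h0

theorem dc {s : G} (hs : s ∈ V.W) : L.c (V.d * s * V.d⁻¹) = X.l * L.c s := by
  refine (L.conj_scalar V.dM ?_ V.dE (V.WN hs)).2
  rw [Level.c, V.dt, mul_inv_cancel_right, B.tt, L.pw_one]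

theorem d_pw {a : G} (ha : a ∈ L.Q) : L.pw (V.d * a * V.d⁻¹) = X.l * L.pw a := by
  rw [Level.pw, Level.pw, conj_pow, V.dE _ (L.pwE a ha), X.dκ _ (L.pwE a ha)]

/-- `W` is transitive on `tQ` -/
theorem moves {w : G} (hw : w ∈ L.Q) : ∃ g ∈ V.W, g * t * g⁻¹ = t * w := by
  obtain ⟨s, hs, hsw⟩ := V.csurj (L.pw w)
  have hsQ : t * (s * t * s⁻¹) ∈ L.Q := (V.WM hs).2
  obtain ⟨y, hy, hys⟩ := L.sq_of_pw (mul_mem (inv_mem hsQ) hw) (by
    rw [L.pw_add (inv_mem hsQ) hw, L.pw_inv hsQ]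
    show L.c s + L.pw w = 0
    rw [hsw, X.add_self])
  refine ⟨y⁻¹ * s, mul_mem (inv_mem (V.QW hy)) hs, ?_⟩
  calc y⁻¹ * s * t * (y⁻¹ * s)⁻¹ = y⁻¹ * (s * t * s⁻¹) * y := by group
    _ = y⁻¹ * t * (t * (s * t * s⁻¹)) * y := by simp only [mul_assoc]; rw [← mul_assoc t t, B.tt, one_mul]
    _ = y⁻¹ * t * y * (t * (s * t * s⁻¹)) := by
        rw [mul_assoc (y⁻¹ * t), L.comm _ hsQ y hy, ← mul_assoc]
    _ = t * w := by
        rw [L.conj_sq hy, hys, mul_assoc, L.comm _ (mul_mem (inv_mem hsQ) hw) _ hsQ, mul_inv_cancel_left]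

/-- `W/Q` is elementary abelian -/
theorem sq {s : G} (hs : s ∈ V.W) : s * s ∈ L.Q := by
  rcases V.ker (mul_mem hs hs) (by rw [V.c_mul hs hs, X.add_self]) with h | h
  · exact h
  · exfalso
    obtain ⟨g, hg, hgt⟩ := V.moves h
    rw [← mul_assoc t t, B.tt, one_mul] at hgt
    have hrr : g⁻¹ * s * g * (g⁻¹ * s * g) = t := by
      calc g⁻¹ * s * g * (g⁻¹ * s * g) = g⁻¹ * (s * s) * g := by group
        _ = t := by rw [← hgt]; group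
    have hT := B.inter V.W2 (L.T_le.trans V.UW) (mul_mem (mul_mem (inv_mem hg) hs) hg)
      (by rw [← hrr]; simp only [mul_assoc])
    exact B.t1 (hrr.symm.trans (X.T_sq hT))

theorem comm_Q {s r : G} (hs : s ∈ V.W) (hr : r ∈ V.W) : s * r * s⁻¹ * r⁻¹ ∈ L.Q := by
  rw [show s * r * s⁻¹ * r⁻¹ = s * r * (s * r) * (r⁻¹ * (s * s)⁻¹ * r⁻¹⁻¹) * (r * r)⁻¹ by group]
  exact mul_mem (mul_mem (V.sq (mul_mem hs hr)) (V.WQ (inv_mem hr) (inv_mem (V.sq hs)))) (inv_mem (V.sq hr))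

theorem delta_mul {r s : G} (hr : r ∈ V.W) (hs : s ∈ V.W) : ∃ w ∈ L.Q,
    V.d * r * V.d⁻¹ * r⁻¹ * (V.d * s * V.d⁻¹ * s⁻¹) = V.d * (r * s) * V.d⁻¹ * (r * s)⁻¹ * w := by
  have hb : (V.d * s * V.d⁻¹ * s⁻¹) ∈ V.W := mul_mem (V.dW s hs) (inv_mem hs)
  refine ⟨r * (V.d * s * V.d⁻¹ * s⁻¹)⁻¹ * r⁻¹ * (V.d * s * V.d⁻¹ * s⁻¹), ?_, by group⟩
  have h := V.comm_Q hr (inv_mem hb)
  rwa [inv_inv] at h

/-- the candidate for the next level: `[W, d] Q` -/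
def R : Subgroup G where
  carrier := {x | ∃ r ∈ V.W, ∃ w ∈ L.Q, x = V.d * r * V.d⁻¹ * r⁻¹ * w}
  one_mem' := ⟨1, one_mem _, 1, one_mem _, by group⟩
  mul_mem' := by
    rintro _ _ ⟨r, hr, w, hw, rfl⟩ ⟨s, hs, w', hw', rfl⟩
    obtain ⟨z, hz, hze⟩ := V.delta_mul hr hs
    have hb : (V.d * s * V.d⁻¹ * s⁻¹) ∈ V.W := mul_mem (V.dW s hs) (inv_mem hs)
    have hw2 : (V.d * s * V.d⁻¹ * s⁻¹)⁻¹ * w * (V.d * s * V.d⁻¹ * s⁻¹) ∈ L.Q := by
      have h := V.WQ (inv_mem hb) hw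
      rwa [inv_inv] at h
    refine ⟨r * s, mul_mem hr hs, z * ((V.d * s * V.d⁻¹ * s⁻¹)⁻¹ * w * (V.d * s * V.d⁻¹ * s⁻¹)) * w',
      mul_mem (mul_mem hz hw2) hw', ?_⟩
    calc V.d * r * V.d⁻¹ * r⁻¹ * w * (V.d * s * V.d⁻¹ * s⁻¹ * w')
        = V.d * r * V.d⁻¹ * r⁻¹ * (V.d * s * V.d⁻¹ * s⁻¹) *
          ((V.d * s * V.d⁻¹ * s⁻¹)⁻¹ * w * (V.d * s * V.d⁻¹ * s⁻¹)) * w' := by group
      _ = _ := by rw [hze]; simp only [mul_assoc]
  inv_mem' := by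
    rintro _ ⟨r, hr, w, hw, rfl⟩
    obtain ⟨z, hz, hze⟩ := V.delta_mul hr (inv_mem hr)
    have hb : (V.d * r * V.d⁻¹ * r⁻¹) ∈ V.W := mul_mem (V.dW r hr) (inv_mem hr)
    have hb' : (V.d * r⁻¹ * V.d⁻¹ * r⁻¹⁻¹) ∈ V.W := mul_mem (V.dW _ (inv_mem hr)) (inv_mem (inv_mem hr))
    simp only [mul_inv_cancel, mul_one, inv_one, one_mul] at hze
    refine ⟨r⁻¹, inv_mem hr,
      (V.d * r⁻¹ * V.d⁻¹ * r⁻¹⁻¹)⁻¹ * w⁻¹ * (V.d * r⁻¹ * V.d⁻¹ * r⁻¹⁻¹)⁻¹⁻¹ * z⁻¹,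
      mul_mem (V.WQ (inv_mem hb') (inv_mem hw)) (inv_mem hz), ?_⟩
    rw [← hze]
    group

theorem R_le {x : G} (hx : x ∈ V.R) : x ∈ V.W := by
  obtain ⟨r, hr, w, hw, rfl⟩ := hx
  exact mul_mem (mul_mem (V.dW r hr) (inv_mem hr)) (V.QW hw)

theorem Q_le {a : G} (ha : a ∈ L.Q) : a ∈ V.R := ⟨1, one_mem _, a, ha, by group⟩

theorem tR : t ∉ V.R := by
  rintro ⟨r, hr, w, hw, he⟩
  have hdr := V.dW r hr
  have h0 : L.c (V.d * r * V.d⁻¹ * r⁻¹ * w) = X.l * L.c r + L.c r := by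
    rw [V.c_mul (mul_mem hdr (inv_mem hr)) (V.QW hw), V.c_mul hdr (inv_mem hr), V.dc hr, L.c_inv (V.WN hr),
      V.c_Q hw, add_zero]
  rw [← he, V.c_t] at h0
  have hc : L.c r = 0 := by
    have h1 : (X.l + 1) * L.c r = 0 := by rw [add_mul, one_mul, ← h0]
    refine (mul_eq_zero.1 h1).resolve_left fun h => X.l_ne_one ?_
    linear_combination h - X.add_self 1
  refine L.tQ (he ▸ mul_mem ?_ hw)
  rcases L.U_split (V.ker hr hc) with h | ⟨v, hv, rfl⟩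
  · exact mul_mem (V.dM.1 r h) (inv_mem h)
  · rw [show V.d * (t * v) * V.d⁻¹ * (t * v)⁻¹ = V.d * t * V.d⁻¹ * (V.d * v * V.d⁻¹) * v⁻¹ * t⁻¹ by group, V.dt,
      mul_inv_cancel_right, B.ti, mul_assoc t, L.inv _ (mul_mem (V.dM.1 v hv) (inv_mem hv))]
    exact inv_mem (mul_mem (V.dM.1 v hv) (inv_mem hv))

theorem R_ker {x : G} (hx : x ∈ V.R) (h0 : L.c x = 0) : x ∈ L.Q := by
  rcases L.U_split (V.ker (V.R_le hx) h0) with h | ⟨v, hv, rfl⟩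
  · exact h
  · refine absurd ?_ V.tR
    have h2 := mul_mem hx (inv_mem (V.Q_le hv))
    rwa [mul_inv_cancel_right] at h2

theorem R_surj (a : K) : ∃ x ∈ V.R, L.c x = a := by
  have hne : X.l + 1 ≠ 0 := fun h => X.l_ne_one (by linear_combination h - X.add_self 1)
  obtain ⟨r, hr, hra⟩ := V.csurj (a / (X.l + 1))
  refine ⟨V.d * r * V.d⁻¹ * r⁻¹, ⟨r, hr, 1, one_mem _, by rw [mul_one]⟩, ?_⟩
  rw [V.c_mul (V.dW r hr) (inv_mem hr), V.dc hr, L.c_inv (V.WN hr), hra]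
  rw [show X.l * (a / (X.l + 1)) + a / (X.l + 1) = a / (X.l + 1) * (X.l + 1) by ring, div_mul_cancel₀ _ hne]

theorem R_conj {s x : G} (hs : s ∈ V.W) (hx : x ∈ V.R) : s * x * s⁻¹ ∈ V.R := by
  rw [show s * x * s⁻¹ = s * x * s⁻¹ * x⁻¹ * x by group]
  exact mul_mem (V.Q_le (V.comm_Q hs (V.R_le hx))) hx

theorem R_dconj {x : G} (hx : x ∈ V.R) : V.d * x * V.d⁻¹ ∈ V.R := by
  obtain ⟨r, hr, w, hw, rfl⟩ := hx
  exact ⟨V.d * r * V.d⁻¹, V.dW r hr, V.d * w * V.d⁻¹, V.dM.1 w hw, by group⟩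

theorem R_split {s : G} (hs : s ∈ V.W) : s ∈ V.R ∨ t * s ∈ V.R := by
  obtain ⟨x, hx, hxs⟩ := V.R_surj (L.c s)
  have hxi := inv_mem (V.R_le hx)
  rcases L.U_split (V.ker (mul_mem hxi hs) (by
    rw [V.c_mul hxi hs, L.c_inv (V.WN (V.R_le hx)), hxs, X.add_self])) with h | ⟨v, hv, he⟩
  · left
    have h2 := mul_mem hx (V.Q_le h)
    rwa [mul_inv_cancel_left] at h2
  · right
    have h2 : t * s = t * x * t⁻¹ * v := by
      calc t * s = t * x * (x⁻¹ * s) := by group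
        _ = t * x * t⁻¹ * v := by rw [he, B.ti, ← mul_assoc]
    rw [h2]
    exact mul_mem (V.R_conj V.tW hx) (V.Q_le hv)

theorem R_two : IsPGroup 2 V.R := V.W2.to_le fun _ hx => V.R_le hx

theorem R_card : Nat.card K * Nat.card L.Q ≤ Nat.card V.R := by
  haveI := X.hK.fin
  choose f hf hfc using V.R_surj
  rw [← Nat.card_prod]
  refine Nat.card_le_card_of_injective (fun p : K × L.Q => (⟨f p.1 * p.2.1, mul_mem (hf p.1) (V.Q_le p.2.2)⟩ : V.R))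
    ?_
  rintro ⟨a, x⟩ ⟨b, y⟩ h
  have h := congrArg Subtype.val h
  simp only at h
  have h1 := congrArg L.c h
  rw [V.c_mul (V.R_le (hf a)) (V.QW x.2), V.c_mul (V.R_le (hf b)) (V.QW y.2), hfc, hfc, V.c_Q x.2, V.c_Q y.2,
    add_zero, add_zero] at h1
  subst h1
  rw [Subtype.ext (mul_left_cancel h)]

end Lift

end Level

end Cfsg.Agent.TimesPSL
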