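import Mathlib
import Cfsg.Agent.TimesPSL.Lift

/-!
A level with all translations either stops the chain or gives a larger level.
-/

set_option autoImplicit false
set_option linter.unusedSectionVars false
set_option linter.style.haveILetI false

namespace Cfsg.Agent.TimesPSL

open Subgroup

variable {G : Type*} [Group G] [Finite G] {B : Base G} {K : Type*} [Field K] {X : Elem B K}

namespace Level

variable (L : Level X)
include L

local notation "t" => B.t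

theorem pow_E {a : G} (ha : a ∈ L.Q) {j : ℕ} (h : a ^ 2 ^ (j + 1) = 1) : a ^ 2 ^ j ∈ X.E :=
  L.omega _ (pow_mem ha _) (by rw [← pow_add, ← two_mul, ← pow_succ', h])

theorem pw_pow {a : G} (ha : a ∈ L.Q) (h : L.pw a = 0) : a ^ 2 ^ (L.k - 1) = 1 :=
  X.inj _ (L.pwE a ha) 1 (one_mem _) (by rw [X.κ_one]; exact h)

theorem card_Q : Nat.card K ≤ Nat.card L.Q := by
  rw [← X.card_E]
  exact Subgroup.card_le_of_le L.EQ

namespace Lift

variable {L} (V : L.Lift)
include V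

theorem R_W {x : G} (hx : x ∈ V.R) : x ∈ V.W := V.R_le hx

theorem dR {x : G} (hx : x ∈ V.R) : V.d * x * V.d⁻¹ ∈ V.R ∧ L.c (V.d * x * V.d⁻¹) = X.l * L.c x :=
  ⟨V.R_dconj hx, V.dc (V.R_le hx)⟩

theorem dQ {a : G} (ha : a ∈ L.Q) : V.d * a * V.d⁻¹ ∈ L.Q ∧ L.pw (V.d * a * V.d⁻¹) = X.l * L.pw a :=
  ⟨V.dM.1 a ha, V.d_pw ha⟩

theorem dκ {e : G} (he : e ∈ X.E) : X.κ (V.d * e * V.d⁻¹) = X.l * X.κ e := by rw [V.dE e he, X.dκ e he]

theorem cR {x y : G} (hx : x ∈ V.R) (hy : y ∈ V.R) : L.c (x * y) = L.c x + L.c y :=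
  V.c_mul (V.R_le hx) (V.R_le hy)

theorem pw_comm_Q {x w : G} (hx : x ∈ V.R) (hw : w ∈ L.Q) : L.pw (x * w * x⁻¹ * w⁻¹) = 0 := by
  rw [L.pw_add (V.WQ (V.R_le hx) hw) (inv_mem hw), V.pw_conj (V.R_le hx) hw, L.pw_inv hw, X.add_self]

/-- additive maps on `R` killing `Q` and commuting with the scalar are multiples of the coordinate -/
theorem scalar (f : G → K) (hadd : ∀ x ∈ V.R, ∀ y ∈ V.R, f (x * y) = f x + f y) (hQ : ∀ a ∈ L.Q, f a = 0)
    (hd : ∀ x ∈ V.R, f (V.d * x * V.d⁻¹) = X.l * f x) : ∃ ε : K, ∀ x ∈ V.R, f x = ε * L.c x := by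
  choose r hr hrc using V.R_surj
  have key : ∀ x ∈ V.R, f x = f (r (L.c x)) := by
    intro x hx
    have hz := mul_mem (inv_mem hx) (hr (L.c x))
    have h0 : L.c (x⁻¹ * r (L.c x)) = 0 := by
      have h := V.cR hx hz
      rw [mul_inv_cancel_left, hrc, left_eq_add] at h
      exact h
    have h := hadd x hx _ hz
    rw [mul_inv_cancel_left, hQ _ (V.R_ker hz h0), add_zero] at h
    exact h.symm
  have hlin := linear_of_equivariant X.hK (fun a => f (r a))
    (fun a b => by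
      show f (r (a + b)) = f (r a) + f (r b)
      rw [← hadd _ (hr a) _ (hr b), key _ (mul_mem (hr a) (hr b)), V.cR (hr a) (hr b), hrc, hrc])
    (fun a => by
      show f (r (X.l * a)) = X.l * f (r a)
      rw [← hd _ (hr a), key _ (V.dR (hr a)).1, (V.dR (hr a)).2, hrc])
  exact ⟨f (r 1), fun x hx => by rw [key x hx]; exact hlin _⟩

/-- commutators of `R` are squares in `Q` -/
theorem comm_pw {x y : G} (hx : x ∈ V.R) (hy : y ∈ V.R) : L.pw (x * y * x⁻¹ * y⁻¹) = 0 := by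
  have hQ : ∀ {a b : G}, a ∈ V.R → b ∈ V.R → a * b * a⁻¹ * b⁻¹ ∈ L.Q := fun ha hb =>
    V.comm_Q (V.R_le ha) (V.R_le hb)
  obtain ⟨g, h1, h2, hl, hg⟩ := factor_form (l := X.l) (d := V.d) L.c L.c (fun a b => L.pw (a * b * a⁻¹ * b⁻¹))
    (P := V.R) (P' := V.R)
    (fun a ha b hb => V.cR ha hb) (fun a ha b hb => V.cR ha hb) V.R_surj V.R_surj
    (fun a ha a' ha' b hb => by
      show L.pw _ = L.pw _ + L.pw _
      rw [show a * a' * b * (a * a')⁻¹ * b⁻¹ = a * (a' * b * a'⁻¹ * b⁻¹) * a⁻¹ * (a * b * a⁻¹ * b⁻¹) by group,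
        L.pw_add (V.WQ (V.R_le ha) (hQ ha' hb)) (hQ ha hb), V.pw_conj (V.R_le ha) (hQ ha' hb), add_comm])
    (fun a ha b hb b' hb' => by
      show L.pw _ = L.pw _ + L.pw _
      rw [show a * (b * b') * a⁻¹ * (b * b')⁻¹ = a * b * a⁻¹ * b⁻¹ * (b * (a * b' * a⁻¹ * b'⁻¹) * b⁻¹) by group,
        L.pw_add (hQ ha hb) (V.WQ (V.R_le hb) (hQ ha hb')), V.pw_conj (V.R_le hb) (hQ ha hb')])
    (fun a ha h0 b hb => by
      have hq := V.R_ker ha h0
      show L.pw _ = 0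
      rw [show a * b * a⁻¹ * b⁻¹ = a * (b * a⁻¹ * b⁻¹) by group, L.pw_add hq (V.WQ (V.R_le hb) (inv_mem hq)),
        V.pw_conj (V.R_le hb) (inv_mem hq), L.pw_inv hq, X.add_self])
    (fun b hb h0 a ha => V.pw_comm_Q ha (V.R_ker hb h0))
    (fun a ha => V.dR ha) (fun a ha => V.dR ha)
    (fun a ha b hb => by
      show L.pw _ = X.l * L.pw _
      rw [show V.d * a * V.d⁻¹ * (V.d * b * V.d⁻¹) * (V.d * a * V.d⁻¹)⁻¹ * (V.d * b * V.d⁻¹)⁻¹
        = V.d * (a * b * a⁻¹ * b⁻¹) * V.d⁻¹ by group, V.d_pw (hQ ha hb)])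
  have h := hg x hx y hy
  rw [alt_zero X.hK g h1 h2 hl (fun a => ?_) _ _] at h
  · exact h
  · obtain ⟨z, hz, rfl⟩ := V.R_surj a
    rw [← hg z hz z hz, show z * z * z⁻¹ * z⁻¹ = 1 by group, L.pw_one]

/-- squaring from `R` to `Q` -/
theorem sq_scalar : ∃ γ : K, ∀ x ∈ V.R, L.pw (x * x) = γ * L.c x := by
  refine V.scalar (fun x => L.pw (x * x)) (fun x hx y hy => ?_) (fun a ha => L.pw_sq ha) (fun x hx => ?_)
  · have hxx := V.sq (V.R_le hx)
    have hc := V.comm_Q (V.R_le hy) (V.R_le hx)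
    show L.pw (x * y * (x * y)) = _
    rw [show x * y * (x * y) = x * (y * x * y⁻¹ * x⁻¹) * x⁻¹ * (x * x * (y * y)) by group,
      L.pw_add (V.WQ (V.R_le hx) hc) (mul_mem hxx (V.sq (V.R_le hy))), V.pw_conj (V.R_le hx) hc, V.comm_pw hy hx,
      zero_add, L.pw_add hxx (V.sq (V.R_le hy))]
  · show L.pw _ = X.l * L.pw _
    rw [show V.d * x * V.d⁻¹ * (V.d * x * V.d⁻¹) = V.d * (x * x) * V.d⁻¹ by group, V.d_pw (V.sq (V.R_le hx))]

/-- the pairing of `R` and `Q` at depth `j` -/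
theorem beta {j : ℕ} (H : ∀ x ∈ V.R, ∀ w ∈ L.Q, (x * w * x⁻¹ * w⁻¹) ^ 2 ^ (j + 1) = 1) :
    ∃ g : K → K → K, (∀ a a' b, g (a + a') b = g a b + g a' b) ∧ (∀ a b b', g a (b + b') = g a b + g a b') ∧
      (∀ a b, g (X.l * a) (X.l * b) = X.l * g a b) ∧
      ∀ x ∈ V.R, ∀ w ∈ L.Q, X.κ ((x * w * x⁻¹ * w⁻¹) ^ 2 ^ j) = g (L.c x) (L.pw w) := by
  have hQ : ∀ {x w : G}, x ∈ V.R → w ∈ L.Q → x * w * x⁻¹ * w⁻¹ ∈ L.Q := fun hx hw =>
    mul_mem (V.WQ (V.R_le hx) hw) (inv_mem hw)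
  have hE : ∀ {x w : G}, x ∈ V.R → w ∈ L.Q → (x * w * x⁻¹ * w⁻¹) ^ 2 ^ j ∈ X.E := fun hx hw =>
    L.pow_E (hQ hx hw) (H _ hx _ hw)
  refine factor_form (l := X.l) (d := V.d) L.c L.pw (fun x w => X.κ ((x * w * x⁻¹ * w⁻¹) ^ 2 ^ j))
    (fun a ha b hb => V.cR ha hb) (fun a ha b hb => L.pw_add ha hb) V.R_surj L.pw_exists
    (fun a ha a' ha' w hw => ?_) (fun a ha w hw w' hw' => ?_) (fun a ha h0 w hw => ?_) (fun w hw h0 a ha => ?_)
    (fun a ha => V.dR ha) (fun a ha => V.dQ ha) (fun a ha w hw => ?_)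
  · show X.κ _ = X.κ _ + X.κ _
    rw [show a * a' * w * (a * a')⁻¹ * w⁻¹ = a * (a' * w * a'⁻¹ * w⁻¹) * a⁻¹ * (a * w * a⁻¹ * w⁻¹) by group,
      (show Commute (a * (a' * w * a'⁻¹ * w⁻¹) * a⁻¹) (a * w * a⁻¹ * w⁻¹) from
        L.comm _ (V.WQ (V.R_le ha) (hQ ha' hw)) _ (hQ ha hw)).mul_pow,
      conj_pow, V.WE (V.R_le ha) (hE ha' hw), X.add _ (hE ha' hw) _ (hE ha hw), add_comm]
  · show X.κ _ = X.κ _ + X.κ _
    rw [show a * (w * w') * a⁻¹ * (w * w')⁻¹ = a * w * a⁻¹ * w⁻¹ * (w * (a * w' * a⁻¹ * w'⁻¹) * w⁻¹) by group,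
      L.comm w hw _ (hQ ha hw'), mul_inv_cancel_right,
      (show Commute (a * w * a⁻¹ * w⁻¹) (a * w' * a⁻¹ * w'⁻¹) from L.comm _ (hQ ha hw) _ (hQ ha hw')).mul_pow,
      X.add _ (hE ha hw) _ (hE ha hw')]
  · show X.κ _ = 0
    rw [L.comm a (V.R_ker ha h0) w hw, mul_inv_cancel_right, mul_inv_cancel, one_pow, X.κ_one]
  · show X.κ _ = 0
    obtain ⟨u, hu, rfl⟩ := L.sq_of_pw hw h0
    rw [show a * (u * u) * a⁻¹ * (u * u)⁻¹ = a * u * a⁻¹ * u⁻¹ * (u * (a * u * a⁻¹ * u⁻¹) * u⁻¹) by group,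
      L.comm u hu _ (hQ ha hu), mul_inv_cancel_right, ← pow_two, ← pow_mul, ← pow_succ', H a ha u hu, X.κ_one]
  · show X.κ _ = X.l * X.κ _
    rw [show V.d * a * V.d⁻¹ * (V.d * w * V.d⁻¹) * (V.d * a * V.d⁻¹)⁻¹ * (V.d * w * V.d⁻¹)⁻¹
      = V.d * (a * w * a⁻¹ * w⁻¹) * V.d⁻¹ by group, conj_pow, V.dκ (hE ha hw)]

/-- descending through the depths -/
theorem descend (P : ℕ → Prop) (h0 : P (L.k - 1)) (hs : ∀ j, j + 1 ≤ L.k - 1 → P (j + 1) → P j) : P 0 := by
  have h : ∀ i, i ≤ L.k - 1 → P (L.k - 1 - i) := by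
    intro i
    induction i with
    | zero => exact fun _ => h0
    | succ i ih =>
      intro hi
      refine hs _ (by omega) ?_
      rw [show L.k - 1 - (i + 1) + 1 = L.k - 1 - i by omega]
      exact ih (by omega)
  simpa using h (L.k - 1) le_rfl

/-- if squaring is the coordinate, `Q` is central in `R` -/
theorem central (hγ : L.k = 1 ∨ ∀ x ∈ V.R, L.pw (x * x) = L.c x) {x w : G} (hx : x ∈ V.R) (hw : w ∈ L.Q) :
    x * w = w * x := by
  have h : ∀ x ∈ V.R, ∀ w ∈ L.Q, (x * w * x⁻¹ * w⁻¹) ^ 2 ^ 0 = 1 := by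
    refine V.descend (fun j => ∀ x ∈ V.R, ∀ w ∈ L.Q, (x * w * x⁻¹ * w⁻¹) ^ 2 ^ j = 1) ?_ ?_
    · exact fun x hx w hw => L.pw_pow (mul_mem (V.WQ (V.R_le hx) hw) (inv_mem hw)) (V.pw_comm_Q hx hw)
    · intro j hj H x hx w hw
      have hγ' := hγ.resolve_left (by omega)
      obtain ⟨g, h1, h2, hl, hg⟩ := V.beta H
      refine X.inj _ (L.pow_E (mul_mem (V.WQ (V.R_le hx) hw) (inv_mem hw)) (H x hx w hw)) 1 (one_mem _) ?_
      rw [hg x hx w hw, X.κ_one]
      refine alt_zero X.hK g h1 h2 hl (fun a => ?_) _ _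
      obtain ⟨z, hz, rfl⟩ := V.R_surj a
      have e := hg z hz _ (V.sq (V.R_le hz))
      rw [hγ' z hz, show z * (z * z) * z⁻¹ * (z * z)⁻¹ = 1 by group, one_pow, X.κ_one] at e
      exact e.symm
  have e := h x hx w hw
  rw [pow_zero, pow_one, mul_inv_eq_one] at e
  exact mul_inv_eq_iff_eq_mul.1 e

/-- if `Q` is central, `R` is abelian -/
theorem R_comm (hc : ∀ x ∈ V.R, ∀ w ∈ L.Q, x * w = w * x) {x y : G} (hx : x ∈ V.R) (hy : y ∈ V.R) :
    x * y = y * x := by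
  have hQ : ∀ {a b : G}, a ∈ V.R → b ∈ V.R → a * b * a⁻¹ * b⁻¹ ∈ L.Q := fun ha hb =>
    V.comm_Q (V.R_le ha) (V.R_le hb)
  have h : ∀ a ∈ V.R, ∀ b ∈ V.R, (a * b * a⁻¹ * b⁻¹) ^ 2 ^ 0 = 1 := by
    refine V.descend (fun j => ∀ a ∈ V.R, ∀ b ∈ V.R, (a * b * a⁻¹ * b⁻¹) ^ 2 ^ j = 1) ?_ ?_
    · exact fun a ha b hb => L.pw_pow (hQ ha hb) (V.comm_pw ha hb)
    · intro j _ H a ha b hb
      have hE : ∀ {a b : G}, a ∈ V.R → b ∈ V.R → (a * b * a⁻¹ * b⁻¹) ^ 2 ^ j ∈ X.E := fun ha hb =>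
        L.pow_E (hQ ha hb) (H _ ha _ hb)
      obtain ⟨g, h1, h2, hl, hg⟩ := factor_form (l := X.l) (d := V.d) L.c L.c
        (fun a b => X.κ ((a * b * a⁻¹ * b⁻¹) ^ 2 ^ j))
        (P := V.R) (P' := V.R)
        (fun a ha b hb => V.cR ha hb) (fun a ha b hb => V.cR ha hb) V.R_surj V.R_surj
        (fun a ha a' ha' b hb => by
          show X.κ _ = X.κ _ + X.κ _
          rw [show a * a' * b * (a * a')⁻¹ * b⁻¹ = a * (a' * b * a'⁻¹ * b⁻¹) * a⁻¹ * (a * b * a⁻¹ * b⁻¹) by group,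
            hc a ha _ (hQ ha' hb), mul_inv_cancel_right,
            (show Commute (a' * b * a'⁻¹ * b⁻¹) (a * b * a⁻¹ * b⁻¹) from L.comm _ (hQ ha' hb) _ (hQ ha hb)).mul_pow,
            X.add _ (hE ha' hb) _ (hE ha hb), add_comm])
        (fun a ha b hb b' hb' => by
          show X.κ _ = X.κ _ + X.κ _
          rw [show a * (b * b') * a⁻¹ * (b * b')⁻¹ = a * b * a⁻¹ * b⁻¹ * (b * (a * b' * a⁻¹ * b'⁻¹) * b⁻¹) by group,
            hc b hb _ (hQ ha hb'), mul_inv_cancel_right,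
            (show Commute (a * b * a⁻¹ * b⁻¹) (a * b' * a⁻¹ * b'⁻¹) from L.comm _ (hQ ha hb) _ (hQ ha hb')).mul_pow,
            X.add _ (hE ha hb) _ (hE ha hb')])
        (fun a ha h0 b hb => by
          show X.κ _ = 0
          rw [← hc b hb a (V.R_ker ha h0), mul_inv_cancel_right, mul_inv_cancel, one_pow, X.κ_one])
        (fun b hb h0 a ha => by
          show X.κ _ = 0
          rw [hc a ha b (V.R_ker hb h0), mul_inv_cancel_right, mul_inv_cancel, one_pow, X.κ_one])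
        (fun a ha => V.dR ha) (fun a ha => V.dR ha)
        (fun a ha b hb => by
          show X.κ _ = X.l * X.κ _
          rw [show V.d * a * V.d⁻¹ * (V.d * b * V.d⁻¹) * (V.d * a * V.d⁻¹)⁻¹ * (V.d * b * V.d⁻¹)⁻¹
            = V.d * (a * b * a⁻¹ * b⁻¹) * V.d⁻¹ by group, conj_pow, V.dκ (hE ha hb)])
      refine X.inj _ (hE ha hb) 1 (one_mem _) ?_
      rw [hg a ha b hb, X.κ_one]
      refine alt_zero X.hK g h1 h2 hl (fun z => ?_) _ _
      obtain ⟨z, hz, rfl⟩ := V.R_surj z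
      rw [← hg z hz z hz, show z * z * z⁻¹ * z⁻¹ = 1 by group, one_pow, X.κ_one]
  have e := h x hx y hy
  rw [pow_zero, pow_one, mul_inv_eq_one] at e
  exact mul_inv_eq_iff_eq_mul.1 e

/-- the diagonal of the pairing just below the top -/
theorem beta_diag {γ : K} (hγ : ∀ x ∈ V.R, L.pw (x * x) = γ * L.c x) (hk : 2 ≤ L.k) {g : K → K → K}
    (hg : ∀ x ∈ V.R, ∀ w ∈ L.Q, X.κ ((x * w * x⁻¹ * w⁻¹) ^ 2 ^ (L.k - 2)) = g (L.c x) (L.pw w)) :
    (∀ a, g a a = (1 + γ) * a) ∧ ∀ a, g a (γ * a) = 0 := by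
  refine ⟨fun a => ?_, fun a => ?_⟩
  · obtain ⟨x, hx, rfl⟩ := V.R_surj a
    have hw : t * (x * t * x⁻¹) ∈ L.Q := (V.WM (V.R_le hx)).2
    have hs := V.sq (V.R_le hx)
    have e := hg x hx _ hw
    set w := t * (x * t * x⁻¹) with hwdef
    have h1 : t * x * t = w * x := by rw [hwdef]; group
    have h0 : (x * x)⁻¹ = w * x * (w * x) := by
      calc (x * x)⁻¹ = t * (x * x) * t := (L.inv _ hs).symm
        _ = t * x * (t * t) * x * t := by rw [B.tt, mul_one]; group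
        _ = t * x * t * (t * x * t) := by group
        _ = _ := by rw [h1]
    have h2 : x * w * x⁻¹ * w⁻¹ = (w * (x * x))⁻¹ * (w * (x * x))⁻¹ := by
      calc x * w * x⁻¹ * w⁻¹ = w⁻¹ * (w * x * (w * x)) * (x * x)⁻¹ * w⁻¹ := by group
        _ = w⁻¹ * (x * x)⁻¹ * ((x * x)⁻¹ * w⁻¹) := by rw [← h0]; group
        _ = (x * x)⁻¹ * w⁻¹ * ((x * x)⁻¹ * w⁻¹) := by rw [L.comm _ (inv_mem hw) _ (inv_mem hs)]
        _ = _ := by simp only [mul_inv_rev]
    rw [h2, ← pow_two, ← pow_mul, ← pow_succ', show L.k - 2 + 1 = L.k - 1 by omega] at e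
    rw [show L.pw w = L.c x from rfl] at e
    rw [← e]
    show L.pw _ = _
    rw [L.pw_inv (mul_mem hw hs), L.pw_add hw hs, hγ x hx, show L.pw w = L.c x from rfl]
    ring
  · obtain ⟨x, hx, rfl⟩ := V.R_surj a
    have e := hg x hx _ (V.sq (V.R_le hx))
    rw [hγ x hx, show x * (x * x) * x⁻¹ * (x * x)⁻¹ = 1 by group, one_pow, X.κ_one] at e
    exact e.symm

/-- the two cases for squaring above level one -/
theorem gamma_cases {γ : K} (hγ : ∀ x ∈ V.R, L.pw (x * x) = γ * L.c x) (hk : 2 ≤ L.k) :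
    γ = 1 ∨ (γ = 0 ∧ L.k = 2) := by
  haveI := X.hK.fin
  have H : ∀ x ∈ V.R, ∀ w ∈ L.Q, (x * w * x⁻¹ * w⁻¹) ^ 2 ^ (L.k - 2 + 1) = 1 := fun x hx w hw => by
    rw [show L.k - 2 + 1 = L.k - 1 by omega]
    exact L.pw_pow (mul_mem (V.WQ (V.R_le hx) hw) (inv_mem hw)) (V.pw_comm_Q hx hw)
  obtain ⟨g, h1, h2, hl, hg⟩ := V.beta H
  obtain ⟨hdiag, hgγ⟩ := V.beta_diag hγ hk hg
  have hsq := diag_sqrt X.hK g h1 h2 hl hdiag
  have e := hsq 1 (γ * 1)
  rw [hgγ, mul_zero] at e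
  rcases mul_eq_zero.1 e.symm with h | h
  · left
    have h' : 1 + γ = 0 := (mul_eq_zero.1 h).elim id id
    linear_combination h' - X.add_self 1
  have h0 : γ = 0 := by simpa using h
  refine Or.inr ⟨h0, ?_⟩
  by_contra hk2
  -- the pairing would fix all its values
  have hfix : ∀ a b, g a (g a b) = g a b := by
    intro a b
    obtain ⟨x, hx, rfl⟩ := V.R_surj a
    obtain ⟨w, hw, rfl⟩ := L.pw_exists b
    have hD : x * w * x⁻¹ * w⁻¹ ∈ L.Q := mul_mem (V.WQ (V.R_le hx) hw) (inv_mem hw)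
    obtain ⟨y, hy, hyD⟩ := L.sq_of_pw hD (V.pw_comm_Q hx hw)
    have hxx : x * x * w = w * (x * x) := L.comm _ (V.sq (V.R_le hx)) w hw
    have hconj : x * (y * y) * x⁻¹ = (y * y)⁻¹ := by
      rw [hyD]
      refine eq_inv_of_mul_eq_one_left ?_
      rw [show x * (x * w * x⁻¹ * w⁻¹) * x⁻¹ * (x * w * x⁻¹ * w⁻¹) = x * x * w * (x * x)⁻¹ * w⁻¹ by group, hxx]
      group
    have hDy : x * y * x⁻¹ * y⁻¹ ∈ L.Q := mul_mem (V.WQ (V.R_le hx) hy) (inv_mem hy)
    have hsq' : (x * y * x⁻¹ * y⁻¹) ^ 2 = ((y * y)⁻¹) ^ 2 := by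
      rw [pow_two, pow_two]
      calc x * y * x⁻¹ * y⁻¹ * (x * y * x⁻¹ * y⁻¹)
          = x * y * x⁻¹ * (y⁻¹ * (x * y * x⁻¹)) * y⁻¹ := by group
        _ = x * y * x⁻¹ * (x * y * x⁻¹ * y⁻¹) * y⁻¹ := by rw [L.comm _ (inv_mem hy) _ (V.WQ (V.R_le hx) hy)]
        _ = x * (y * y) * x⁻¹ * (y⁻¹ * y⁻¹) := by group
        _ = (y * y)⁻¹ * (y * y)⁻¹ := by rw [hconj, mul_inv_rev]
    have hpow : (x * y * x⁻¹ * y⁻¹) ^ 2 ^ (L.k - 2) = ((x * w * x⁻¹ * w⁻¹) ^ 2 ^ (L.k - 2))⁻¹ := by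
      rw [show L.k - 2 = L.k - 3 + 1 by omega, pow_succ', pow_mul, hsq', ← pow_mul, ← pow_succ', hyD, inv_pow]
    have hy' : L.pw y = g (L.c x) (L.pw w) := by
      rw [← hg x hx w hw, Level.pw, ← hyD, ← pow_two, ← pow_mul, ← pow_succ',
        show L.k - 2 + 1 = L.k - 1 by omega]
    rw [← hy', ← hg x hx y hy, hpow, X.einv (L.pow_E hD (H x hx w hw)), hy', hg x hx w hw]
  have hab : ∀ b : K, b = 0 ∨ b = 1 := by
    intro b
    have hc1 := hsq 1 b
    have hc2 := hsq 1 (g 1 b)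
    rw [hfix 1 b] at hc2
    simp only [h0, add_zero, one_mul] at hc1 hc2
    rcases eq_or_ne (g 1 b) 0 with h | h
    · left; rw [← hc1, h, mul_zero]
    · right
      rw [← hc1, mul_right_cancel₀ h (hc2.trans (one_mul (g 1 b)).symm), mul_one]
  have hle : Nat.card K ≤ Nat.card (Fin 2) := Nat.card_le_card_of_surjective
    (fun i : Fin 2 => if i = 0 then (0 : K) else 1) fun b => by
      rcases hab b with rfl | rfl
      · exact ⟨0, rfl⟩
      · exact ⟨1, rfl⟩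
  rw [Nat.card_fin] at hle
  have := X.big
  omega

/-- the chain stops at `W` -/
theorem stop [IsSimpleGroup G] (hG : ¬ IsMulCommutative G) (hE : ∀ e ∈ X.E, ¬ IsConj t e)
    (hbig : ∀ v ∈ V.R, v * v = 1 → v ∉ L.Q → ¬ IsConj t v)
    (hout : ∀ x ∈ V.R, t * x * (t * x) = 1 → x ∈ L.Q) : False := by
  have hinvol : ∀ g : G, g * t * g⁻¹ * (g * t * g⁻¹) = 1 := fun g => by
    rw [show g * t * g⁻¹ * (g * t * g⁻¹) = g * (t * t) * g⁻¹ by group, B.tt, mul_one, mul_inv_cancel]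
  have hno : ∀ v ∈ V.R, ¬ IsConj t v := by
    intro v hv h
    obtain ⟨g, hg⟩ := isConj_iff.1 h
    have hv2 : v * v = 1 := hg ▸ hinvol g
    by_cases hvQ : v ∈ L.Q
    · exact hE v (L.omega v hvQ hv2) h
    · exact hbig v hv hv2 hvQ h
  refine X.terminal hG V.W2 (L.T_le.trans V.UW) V.tR (fun w hw => V.R_split hw) hno fun s hs => ?_
  rcases V.R_split (hs t V.tW) with h | h
  · exact absurd (isConj_iff.2 ⟨s, rfl⟩) (hno _ h)
  · have hx := hout _ h (by rw [← mul_assoc t t, B.tt, one_mul, hinvol])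
    obtain ⟨y, hy, hyt⟩ := V.moves hx
    exact ⟨y, hy, by rw [hyt, ← mul_assoc, B.tt, one_mul]⟩

end Lift

/-- a level with all translations gives a larger one -/
theorem step [IsSimpleGroup G] (hG : ¬ IsMulCommutative G) (hE : ∀ e ∈ X.E, ¬ IsConj t e)
    (hsurj : ∀ x : K, ∃ s ∈ L.N, L.c s = x) : ∃ L' : Level X, Nat.card L.Q < Nat.card L'.Q := by
  obtain ⟨V⟩ := L.exists_lift hsurj
  haveI := X.hK.fin
  obtain ⟨γ, hγ⟩ := V.sq_scalar
  have hbig := X.big
  have hcardR := V.R_card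
  have hcardQ := L.card_Q
  have hDx : ∀ x : G, t * x * (t * x) = t * (x * t * x⁻¹) * (x * x) := fun x => by group
  have hcase : (L.k = 1 ∨ γ = 1) ∨ (γ = 0 ∧ L.k = 2) := by
    rcases Nat.lt_or_ge L.k 2 with h | h
    · exact Or.inl (Or.inl (by have := L.hk; omega))
    · exact (V.gamma_cases hγ h).imp Or.inr id
  rcases hcase with hcase | ⟨hg0, hk⟩
  · have hab : ∀ x ∈ V.R, ∀ y ∈ V.R, x * y = y * x := fun x hx y hy =>
      V.R_comm (fun a ha w hw => V.central (hcase.imp id fun h z hz => by rw [hγ z hz, h, one_mul]) ha hw) hx hy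
    have hfQ : ∀ x ∈ V.R, t * x * (t * x) ∈ L.Q := fun x hx => by
      rw [hDx]
      exact mul_mem (V.WM (V.R_le hx)).2 (V.sq (V.R_le hx))
    have htx : ∀ x ∈ V.R, t * x * t ∈ V.R := fun x hx => by
      have h := V.R_conj V.tW hx
      rwa [B.ti] at h
    have hfE : ∀ x ∈ V.R, t * x * (t * x) ∈ X.E := fun x hx => by
      refine L.omega _ (hfQ x hx) ?_
      have h1 := L.inv _ (hfQ x hx)
      rw [show t * (t * x * (t * x)) * t = t * t * (x * (t * x * t)) by group, B.tt, one_mul,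
        hab x hx _ (htx x hx), show t * x * t * x = t * x * (t * x) by group] at h1
      exact eq_inv_iff_mul_eq_one.1 h1
    obtain ⟨ε, hε⟩ := V.scalar (fun x => X.κ (t * x * (t * x)))
      (fun x hx y hy => by
        show X.κ _ = X.κ _ + X.κ _
        rw [show t * (x * y) * (t * (x * y)) = t * x * t * ((t⁻¹ * y * t) * x) * y by group, B.ti,
          hab _ (htx y hy) x hx,
          show t * x * t * (x * (t * y * t)) * y = t * x * (t * x) * (t * y * (t * y)) by group,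
          X.add _ (hfE x hx) _ (hfE y hy)])
      (fun a ha => by
        show X.κ _ = 0
        rw [show t * a * (t * a) = t * a * t * a by group, L.inv a ha, inv_mul_cancel, X.κ_one])
      (fun x hx => by
        show X.κ _ = X.l * X.κ _
        have h1 : t * (V.d * x * V.d⁻¹) = V.d * (t * x) * V.d⁻¹ := by
          rw [← mul_assoc, ← mul_assoc, ← V.dt, mul_assoc V.d]
        rw [h1, show V.d * (t * x) * V.d⁻¹ * (V.d * (t * x) * V.d⁻¹) = V.d * (t * x * (t * x)) * V.d⁻¹ by group,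
          V.dκ (hfE x hx)])
    rcases eq_or_ne ε 0 with rfl | hε0
    · -- the next level
      have hinv : ∀ x ∈ V.R, t * x * t = x⁻¹ := fun x hx => by
        refine eq_inv_of_mul_eq_one_left ?_
        have h := hε x hx
        rw [zero_mul] at h
        rw [mul_assoc (t * x)]
        exact X.inj _ (hfE x hx) 1 (one_mem _) (h.trans X.κ_one.symm)
      have hγ1 : ∀ x ∈ V.R, L.pw (x * x) = L.c x := fun x hx => by
        have h := hinv x hx
        have e : t * (x * t * x⁻¹) = (x * x)⁻¹ := by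
          rw [← mul_assoc, ← mul_assoc, h, mul_inv_rev]
        rw [Level.c, e, L.pw_inv (V.sq (V.R_le hx))]
      have homega : ∀ x ∈ V.R, x * x = 1 → x ∈ X.E := fun x hx h => by
        refine L.omega x (V.R_ker hx ?_) h
        rw [← hγ1 x hx, h, L.pw_one]
      have hpow : ∀ x : G, x ^ 2 ^ (L.k + 1 - 1) = (x * x) ^ 2 ^ (L.k - 1) := fun x => by
        rw [← pow_two, ← pow_mul, ← pow_succ']
        congr 2
        have := L.hk
        omega
      have hroot : ∀ e ∈ X.E, ∃ z ∈ V.R, z * z = e := fun e he => by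
        obtain ⟨z, hz, hze⟩ := V.R_surj (X.κ e)
        refine ⟨z ^ 2 ^ (L.k - 1), pow_mem hz _, ?_⟩
        rw [← (show Commute z z from Commute.refl z).mul_pow]
        exact X.inj _ (L.pwE _ (V.sq (V.R_le hz))) e he ((hγ1 z hz).trans hze)
      refine ⟨{
        k := L.k + 1
        hk := by omega
        Q := V.R
        Q2 := V.R_two
        comm := hab
        inv := hinv
        tQ := V.tR
        EQ := fun e he => V.Q_le (L.EQ he)
        omega := homega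
        pwE := fun x hx => by
          rw [hpow]
          exact L.pwE _ (V.sq (V.R_le hx))
        pwsurj := fun e he => by
          obtain ⟨x, hx, hxe⟩ := V.R_surj (X.κ e)
          refine ⟨x, hx, ?_⟩
          rw [hpow]
          exact X.inj _ (L.pwE _ (V.sq (V.R_le hx))) e he ((hγ1 x hx).trans hxe)
        pwker := fun x hx h => by
          rw [hpow] at h
          have hxQ : x ∈ L.Q := V.R_ker hx (by rw [← hγ1 x hx, Level.pw, h, X.κ_one])
          obtain ⟨z, hz, hzx⟩ := V.R_surj (L.pw x)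
          obtain ⟨u, hu, hue⟩ := L.sq_of_pw (mul_mem hxQ (inv_mem (V.sq (V.R_le hz)))) (by
            rw [L.pw_add hxQ (inv_mem (V.sq (V.R_le hz))), L.pw_inv (V.sq (V.R_le hz)), hγ1 z hz, hzx,
              X.add_self])
          refine ⟨u * z, mul_mem (V.Q_le hu) hz, ?_⟩
          rw [show u * z * (u * z) = u * (z * u) * z by group, hab z hz u (V.Q_le hu),
            show u * (u * z) * z = u * u * (z * z) by group, hue, inv_mul_cancel_right]
        d := V.d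
        dt := V.dt
        dQ := fun a ha => V.R_dconj ha
        dE := V.dE
        char := fun s hs => ?_ }, ?_⟩
      · have key : ∀ z ∈ V.R, s * (z * z) * s⁻¹ ∈ V.R := by
          intro z hz
          rw [show s * (z * z) * s⁻¹ = s * z * s⁻¹ * (s * z * s⁻¹) by group]
          rcases hs z (Or.inl hz) with h | h
          · exact mul_mem h h
          · have h2 := hinv _ h
            rw [show t * (t * (s * z * s⁻¹)) * t = t * t * (s * z * s⁻¹) * t by group, B.tt, one_mul, mul_inv_rev,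
              B.ti, mul_left_inj] at h2
            rw [mul_eq_one_iff_eq_inv.2 h2]
            exact one_mem _
        intro a ha
        rcases hs a (Or.inl ha) with h | h
        · exact h
        · have h2 := hinv _ h
          rw [show t * (t * (s * a * s⁻¹)) * t = t * t * (s * a * s⁻¹) * t by group, B.tt, one_mul, mul_inv_rev,
            B.ti, mul_left_inj] at h2
          have h3 : a * a = 1 := by
            have h4 := mul_eq_one_iff_eq_inv.2 h2
            rwa [show s * a * s⁻¹ * (s * a * s⁻¹) = s * (a * a) * s⁻¹ by group, mul_inv_eq_one, mul_eq_left] at h4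
          obtain ⟨z, hz, rfl⟩ := hroot a (homega a ha h3)
          exact key z hz
      · show Nat.card L.Q < Nat.card V.R
        refine lt_of_lt_of_le ?_ hcardR
        exact lt_mul_of_one_lt_left Nat.card_pos (by omega)
    · exfalso
      refine V.stop hG hE (fun v hv _ _ => X.not_conj_of_big V.R_two (fun w hw => hab w hw v hv) ?_) fun x hx h => ?_
      · nlinarith
      · refine V.R_ker hx ?_
        have h' := hε x hx
        rw [h, X.κ_one] at h'
        exact (mul_eq_zero.1 h'.symm).resolve_left hε0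
  · exfalso
    subst hg0
    have hsqE : ∀ a ∈ L.Q, L.pw a = 0 → a ∈ X.E := fun a ha h => by
      obtain ⟨u, hu, rfl⟩ := L.sq_of_pw ha h
      have h2 := L.pwE u hu
      rwa [hk, show (2 : ℕ) - 1 = 1 from rfl, pow_one, pow_two] at h2
    refine V.stop hG hE (fun v hv hv2 hvQ => ?_) fun x hx h => ?_
    · have hf : ∀ y : V.R, v * y.1 * v⁻¹ * y.1⁻¹ ∈ X.E := fun y =>
        hsqE _ (V.comm_Q (V.R_le hv) (V.R_le y.2)) (V.comm_pw hv y.2)
      let f : V.R →* X.E := MonoidHom.mk' (fun y => ⟨v * y.1 * v⁻¹ * y.1⁻¹, hf y⟩) fun y z => Subtype.ext (by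
        simp only [Subgroup.coe_mul]
        rw [show v * (y.1 * z.1) * v⁻¹ * (y.1 * z.1)⁻¹
            = v * y.1 * v⁻¹ * y.1⁻¹ * (y.1 * (v * z.1 * v⁻¹ * z.1⁻¹) * y.1⁻¹) by group,
          V.WE (V.R_le y.2) (hf z)])
      refine X.not_conj_of_big (W := f.ker.map V.R.subtype) (V.R_two.to_le (map_subtype_le _)) ?_ ?_
      · rintro _ ⟨y, hy, rfl⟩
        have h : v * y.1 * v⁻¹ * y.1⁻¹ = 1 := congrArg Subtype.val hy
        rw [mul_inv_eq_one] at h
        exact (mul_inv_eq_iff_eq_mul.1 h).symm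
      · rw [Subgroup.card_map_of_injective (subtype_injective _)]
        have h1 := f.ker.card_mul_index
        have h2 : f.ker.index ≤ Nat.card X.E := by
          rw [Subgroup.index_ker]
          exact Subgroup.card_le_card_group _
        rw [X.card_E] at h2
        have h3 := L.two_card (by omega)
        nlinarith
    · refine V.R_ker hx ?_
      have h' := congrArg L.pw ((hDx x).symm.trans h)
      rw [L.pw_add (V.WM (V.R_le hx)).2 (V.sq (V.R_le hx)), L.pw_one, hγ x hx, zero_mul, add_zero] at h'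
      exact h'

end Level

end Cfsg.Agent.TimesPSL
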