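import Mathlib
import Cfsg.Agent.TimesPSL.Step
import Cfsg.Agent.TimesPSL.Elem

/-!
The chain of levels starting at `⟨t⟩ × E` cannot go on for ever.
-/

set_option autoImplicit false
set_option linter.unusedSectionVars false
set_option linter.style.haveILetI false

namespace Cfsg.Agent.TimesPSL

open Subgroup

variable {G : Type*} [Group G] [Finite G] {B : Base G} {K : Type*} [Field K] {X : Elem B K}

/-- the first level -/
theorem exists_level (hinv : ∀ n : G, (∀ y ∈ B.T, n * y * n⁻¹ ∈ B.T) → ∀ e ∈ X.E, n * e * n⁻¹ ∈ X.E) :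
    Nonempty (Level X) := by
  refine ⟨{
    k := 1
    hk := le_rfl
    Q := X.E
    Q2 := B.T2.to_le X.ET
    comm := fun a ha b hb => X.ecomm ha hb
    inv := fun a ha => by rw [← X.te ha, mul_assoc, B.tt, mul_one, X.einv ha]
    tQ := X.tE
    EQ := le_rfl
    omega := fun a ha _ => ha
    pwE := fun a ha => pow_mem ha _
    pwsurj := fun e he => ⟨e, he, by simp⟩
    pwker := fun a _ h => ⟨1, one_mem _, by simpa using h.symm⟩
    d := X.d
    dt := X.dt
    dQ := X.dE
    dE := fun e _ => rfl
    char := fun s hs => hinv s fun y hy => ?_ }⟩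
  rcases hs y (X.split y hy) with h | h
  · exact X.ET h
  · have h2 := mul_mem B.tT (X.ET h)
    rwa [← mul_assoc, B.tt, one_mul] at h2

/-- no level exists, given that the case without translations is impossible -/
theorem no_level [IsSimpleGroup G] (hG : ¬ IsMulCommutative G) (hE : ∀ e ∈ X.E, ¬ IsConj B.t e)
    (hstop : ∀ L : Level X, (∀ x : K, ∃ s ∈ L.M, L.c s = x) →
      (∀ s ∈ L.M, (∀ e ∈ X.E, s * e = e * s) → L.c s = 0) → False) (L : Level X) : False := by
  generalize hm : Nat.card G - Nat.card L.Q = m
  induction m using Nat.strong_induction_on generalizing L with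
  | _ m ih =>
    by_cases h0 : ∃ s ∈ L.M, L.c s ≠ 0
    · by_cases hN : ∃ s ∈ L.N, L.c s ≠ 0
      · obtain ⟨L', hL'⟩ := L.step hG hE (by
          obtain ⟨s, hs, hs0⟩ := hN
          have hpow : ∀ i : ℕ, ∃ r ∈ L.N, L.c r = X.l ^ i * L.c s := by
            intro i
            induction i with
            | zero => exact ⟨s, hs, by simp⟩
            | succ i ihi =>
              obtain ⟨r, hr, hrc⟩ := ihi
              obtain ⟨h1, h2⟩ := L.conj_scalar L.d_mem L.c_d L.dE hr
              exact ⟨_, h1, by rw [h2, hrc, pow_succ', mul_assoc]⟩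
          intro x
          rcases eq_or_ne x 0 with rfl | hx
          · exact ⟨1, one_mem _, L.c_one⟩
          · obtain ⟨i, hi⟩ := X.hK.gen (x / L.c s) (div_ne_zero hx hs0)
            obtain ⟨r, hr, hrc⟩ := hpow i
            exact ⟨r, hr, by rw [hrc, hi, div_mul_cancel₀ _ hs0]⟩)
        have hle := Subgroup.card_le_card_group L'.Q
        exact ih (Nat.card G - Nat.card L'.Q) (by omega) L' rfl
      · push Not at hN
        exact hstop L (L.transitive h0) fun s hs hc => hN s ⟨hs, hc⟩
    · push Not at h0
      exact L.fixed_stop hG hE h0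

end Cfsg.Agent.TimesPSL
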