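import Mathlib
import Cfsg.Agent.TimesPSL.Basic
import Cfsg.Agent.TimesPSL.Transfer
import Cfsg.Agent.TwoTransfer.Basic

/-!
An involution whose centralizer has Sylow 2-subgroup `⟨t⟩ × P`, `P` dihedral of order at least eight with all
involutions fused in the centralizer: the group is not simple.
-/

set_option autoImplicit false
set_option linter.unusedSectionVars false
set_option linter.style.haveILetI false

namespace Cfsg.Agent.TimesPSL

open Subgroup MulAction

variable {G : Type*} [Group G] [Finite G]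

/-- A finite set with an action all of whose orbits have size divisible by four. -/
theorem four_dvd_of_orbits {H X : Type*} [Group H] [MulAction H X] [Finite X]
    (h : ∀ x : X, 4 ∣ Nat.card (orbit H x)) : 4 ∣ Nat.card X := by
  classical
  haveI : Fintype (Quotient (orbitRel H X)) := Fintype.ofFinite _
  rw [Nat.card_congr (selfEquivSigmaOrbits H X), Nat.card_sigma]
  exact Finset.dvd_sum fun o _ => h o.out

/-- The dihedral data. -/
structure Dih (B : Base G) where
  P : Subgroup G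
  PT : P ≤ B.T
  tP : B.t ∉ P
  split : ∀ x ∈ B.T, x ∈ P ∨ B.t * x ∈ P
  z : G
  zP : z ∈ P
  zz : z * z = 1
  z1 : z ≠ 1
  zc : ∀ p ∈ P, z * p = p * z
  zsq : ∃ y ∈ P, y * y = z
  sq : ∀ p ∈ P, p * p * (p * p) = 1 → p * p = 1 ∨ p * p = z
  zuniq : ∀ x ∈ P, x * x = 1 → (∀ p ∈ P, x * p = p * x) → x = 1 ∨ x = z
  gen : ∀ H : Subgroup G, (∀ p ∈ P, p * p = 1 → p ∈ H) → P ≤ H
  count : Nat.card {p : G // p ∈ P ∧ p * p = 1} % 4 = 2
  refl : ∃ w ∈ P, w * w = 1 ∧ w ≠ 1 ∧ ∀ p ∈ P, p * p = z → w * p * w = p⁻¹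
  conj : ∀ p ∈ P, p * p = 1 → p ≠ 1 → ∃ c : G, c * B.t = B.t * c ∧ c * z * c⁻¹ = p

namespace Dih

variable {B : Base G} (D : Dih B)
include D

local notation "t" => B.t

theorem tc {x : G} (hx : x ∈ B.T) : x * t = t * x := B.Tt x hx

theorem split_eq {x : G} (hx : x ∈ B.T) : ∃ p ∈ D.P, x = p ∨ x = t * p := by
  rcases D.split x hx with h | h
  · exact ⟨x, h, Or.inl rfl⟩
  · exact ⟨t * x, h, Or.inr (by rw [← mul_assoc, B.tt, one_mul])⟩

theorem t_mul_mem {p : G} (hp : p ∈ D.P) : t * p ∈ B.T := mul_mem B.tT (D.PT hp)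

theorem sq_T {x : G} (hx : x ∈ B.T) : ∃ p ∈ D.P, x * x = p * p := by
  obtain ⟨p, hp, rfl | rfl⟩ := D.split_eq hx
  · exact ⟨_, hp, rfl⟩
  · refine ⟨p, hp, ?_⟩
    calc t * p * (t * p) = t * (p * t) * p := by group
      _ = p * p := by rw [B.Tt p (D.PT hp), ← mul_assoc t, B.tt, one_mul]

theorem tp_sq {p : G} (hp : p ∈ D.P) (h : p * p = 1) : t * p * (t * p) = 1 := by
  calc t * p * (t * p) = t * (p * t) * p := by group
    _ = p * p := by rw [B.Tt p (D.PT hp), ← mul_assoc t, B.tt, one_mul]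
    _ = 1 := h

/-- the central involutions of `T` -/
theorem center_T {x : G} (hx : x ∈ B.T) (hx2 : x * x = 1) (hc : ∀ y ∈ B.T, x * y = y * x) :
    x = 1 ∨ x = D.z ∨ x = t ∨ x = t * D.z := by
  obtain ⟨p, hp, rfl | rfl⟩ := D.split_eq hx
  · rcases D.zuniq _ hp hx2 (fun q hq => hc q (D.PT hq)) with h | h
    · exact Or.inl h
    · exact Or.inr (Or.inl h)
  · have hp2 : p * p = 1 := by
      calc p * p = t * p * (t * p) := by
            rw [show t * p * (t * p) = t * (p * t) * p by group, B.Tt p (D.PT hp), ← mul_assoc t, B.tt, one_mul]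
        _ = 1 := hx2
    rcases D.zuniq p hp hp2 (fun q hq => by
      have h := hc q (D.PT hq)
      rw [mul_assoc, ← mul_assoc q, B.Tt q (D.PT hq), mul_assoc] at h
      exact mul_left_cancel h) with h | h
    · exact Or.inr (Or.inr (Or.inl (by rw [h, mul_one])))
    · exact Or.inr (Or.inr (Or.inr (by rw [h])))

/-- a conjugation stabilizing `T` fixes `z` -/
theorem fix_z {n : G} (hn : ∀ y ∈ B.T, n * y * n⁻¹ ∈ B.T) : n * D.z * n⁻¹ = D.z := by
  obtain ⟨y, hy, hyz⟩ := D.zsq
  obtain ⟨p, hp, hpe⟩ := D.sq_T (hn y (D.PT hy))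
  have e : n * D.z * n⁻¹ = p * p := by rw [← hpe, ← hyz]; group
  rcases D.sq p hp (by
    rw [← e, show n * D.z * n⁻¹ * (n * D.z * n⁻¹) = n * (D.z * D.z) * n⁻¹ by group, D.zz, mul_one,
      mul_inv_cancel]) with h | h
  · rw [h, mul_inv_eq_one, mul_eq_left] at e
    exact absurd e D.z1
  · rw [e, h]

theorem z_comm_T {y : G} (hy : y ∈ B.T) : D.z * y = y * D.z := by
  obtain ⟨p, hp, rfl | rfl⟩ := D.split_eq hy
  · exact D.zc _ hp
  · rw [← mul_assoc, B.Tt _ (D.PT D.zP), mul_assoc, D.zc p hp, mul_assoc]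

theorem z_ne_t : D.z ≠ t := fun h => D.tP (h ▸ D.zP)

/-- the conjugates of `t` in `t P` -/
theorem isConj_tp (htz : IsConj t (t * D.z)) {p : G} (hp : p ∈ D.P) (hp2 : p * p = 1) :
    IsConj t (t * p) := by
  rcases eq_or_ne p 1 with rfl | h1
  · rw [mul_one]
  · obtain ⟨c, hct, hcz⟩ := D.conj p hp hp2 h1
    refine htz.trans (isConj_iff.2 ⟨c, ?_⟩)
    rw [← hcz, show c * (t * D.z) * c⁻¹ = c * t * c⁻¹ * (c * D.z * c⁻¹) by group, hct, mul_inv_cancel_right]

theorem not_isConj_p (hz : ¬ IsConj t D.z) {p : G} (hp : p ∈ D.P) : ¬ IsConj t p := by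
  intro h
  obtain ⟨g, hg⟩ := isConj_iff.1 h
  have hp2 : p * p = 1 := by
    rw [← hg, show g * t * g⁻¹ * (g * t * g⁻¹) = g * (t * t) * g⁻¹ by group, B.tt, mul_one, mul_inv_cancel]
  have hp1 : p ≠ 1 := fun h1 => B.t1 (by rw [h1, mul_inv_eq_one, mul_eq_left] at hg; exact hg)
  obtain ⟨c, -, hcz⟩ := D.conj p hp hp2 hp1
  exact hz (h.trans (isConj_iff.2 ⟨c⁻¹, by rw [← hcz]; group⟩))

/-- the Sylow 2-subgroup is not `T` -/
theorem not_sylow [IsSimpleGroup G] (hG : ¬ IsMulCommutative G) (S : Sylow 2 G) :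
    (S : Subgroup G) ≠ B.T := by
  intro hS
  haveI : Fact (Nat.Prime 2) := ⟨Nat.prime_two⟩
  have hmem : ∀ {x : G}, x ∈ (S : Subgroup G) ↔ x ∈ B.T := fun {x} => by rw [hS]
  have hfuse : ∀ x : G, x ∈ B.T → (∀ y ∈ B.T, x * y = y * x) → IsConj t x →
      ∃ n : G, (∀ y ∈ B.T, n * y * n⁻¹ ∈ B.T) ∧ n * t * n⁻¹ = x := by
    intro x hx hxc h
    obtain ⟨g, hg⟩ := isConj_iff.1 h
    obtain ⟨n, hn, hne⟩ := Sylow.conj_eq_normalizer_conj_of_mem_centralizer S t g⁻¹
      (mem_centralizer_iff.2 fun y hy => B.Tt y (hmem.1 hy))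
      (by
        rw [inv_inv, hg]
        exact mem_centralizer_iff.2 fun y hy => (hxc y (hmem.1 hy)).symm)
    refine ⟨n⁻¹, fun y hy => ?_, ?_⟩
    · exact hmem.1 ((mem_normalizer_iff.1 (inv_mem hn) y).1 (hmem.2 hy))
    · rw [inv_inv] at hne
      rw [inv_inv, ← hne, hg]
  have hz : ¬ IsConj t D.z := by
    intro h
    obtain ⟨n, hn, hne⟩ := hfuse D.z (D.PT D.zP) (fun y hy => D.z_comm_T hy) h
    exact D.z_ne_t (mul_left_cancel (mul_right_cancel ((D.fix_z hn).trans hne.symm)))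
  have htz : ¬ IsConj t (t * D.z) := by
    intro h
    obtain ⟨n, hn, hne⟩ := hfuse (t * D.z) (D.t_mul_mem D.zP) (fun y hy => by
      rw [mul_assoc, D.z_comm_T hy, ← mul_assoc, ← B.Tt y hy, mul_assoc]) h
    -- the 2-part of `n` also swaps `t` and `tz`
    have hz2 := D.fix_z hn
    have hn2 : n * (t * D.z) * n⁻¹ = t := by
      rw [show n * (t * D.z) * n⁻¹ = n * t * n⁻¹ * (n * D.z * n⁻¹) by group, hne, hz2, mul_assoc, D.zz, mul_one]
    obtain ⟨a, m, hm, ha⟩ := Nat.exists_eq_pow_mul_and_not_dvd (orderOf_pos n).ne' 2 (by decide)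
    have hpow : ∀ k : ℕ, n ^ k * t * (n ^ k)⁻¹ = if Even k then t else t * D.z := by
      intro k
      induction k with
      | zero => simp
      | succ k ih =>
        rw [pow_succ', show n * n ^ k * t * (n * n ^ k)⁻¹ = n * (n ^ k * t * (n ^ k)⁻¹) * n⁻¹ by group, ih]
        by_cases hk : Even k
        · rw [if_pos hk, hne, if_neg (Nat.even_add_one.not.2 (not_not.2 hk))]
        · rw [if_neg hk, hn2, if_pos (Nat.even_add_one.2 hk)]
    have hnpow : ∀ (k : ℕ), ∀ y ∈ B.T, n ^ k * y * (n ^ k)⁻¹ ∈ B.T := by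
      intro k
      induction k with
      | zero => simp
      | succ k ih =>
        intro y hy
        rw [pow_succ', show n * n ^ k * y * (n * n ^ k)⁻¹ = n * (n ^ k * y * (n ^ k)⁻¹) * n⁻¹ by group]
        exact hn _ (ih y hy)
    have hm' : ¬ Even m := by
      rw [Nat.even_iff]
      omega
    have hxT : n ^ m ∈ (S : Subgroup G) := by
      have hp := isPGroup_zpowers (v := n ^ m) (k := a) (by
        rw [← pow_mul, mul_comm, ← ha]; exact pow_orderOf_eq_one n)
      have hnorm : zpowers (n ^ m) ≤ normalizer ((S : Subgroup G) : Set G) := by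
        refine zpowers_le.2 (Invol.mem_normalizer_of_conj_le ?_)
        rintro _ ⟨x, hx, rfl⟩
        exact hmem.2 (hnpow m x (hmem.1 hx))
      have hsup := Invol.isPGroup_sup_of_le_normalizer hp S.2 hnorm
      rw [← S.3 hsup le_sup_right]
      exact (le_sup_left : zpowers (n ^ m) ≤ zpowers (n ^ m) ⊔ (S : Subgroup G)) (mem_zpowers _)
    have h3 := hpow m
    rw [if_neg hm', B.Tt _ (hmem.1 hxT), mul_inv_cancel_right, left_eq_mul] at h3
    exact D.z1 h3
  have hall : ∀ v ∈ B.T, IsConj t v → v = t := by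
    intro v hv h
    obtain ⟨p, hp, rfl | rfl⟩ := D.split_eq hv
    · exact absurd h (D.not_isConj_p hz hp)
    · rcases eq_or_ne p 1 with rfl | hp1
      · rw [mul_one]
      · exfalso
        obtain ⟨g, hg⟩ := isConj_iff.1 h
        have hp2 : p * p = 1 := by
          have e : t * p * (t * p) = 1 := by
            rw [← hg, show g * t * g⁻¹ * (g * t * g⁻¹) = g * (t * t) * g⁻¹ by group, B.tt, mul_one,
              mul_inv_cancel]
          rwa [show t * p * (t * p) = t * (p * t) * p by group, B.Tt p (D.PT hp), ← mul_assoc t, B.tt,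
            one_mul] at e
        obtain ⟨c, hct, hcz⟩ := D.conj p hp hp2 hp1
        refine htz (h.trans (isConj_iff.2 ⟨c⁻¹, ?_⟩))
        rw [← hcz, inv_inv]
        calc c⁻¹ * (t * (c * D.z * c⁻¹)) * c = c⁻¹ * (t * c) * D.z := by group
          _ = t * D.z := by rw [← hct, inv_mul_cancel_left]
  set M : Subgroup ↥(S : Subgroup G) := D.P.subgroupOf S with hM
  have hnor : M.Normal := ⟨fun x hx y => by
    rw [hM, mem_subgroupOf] at hx ⊢
    have hy := hmem.1 y.2
    obtain ⟨q, hq, hq' | hq'⟩ := D.split_eq hy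
    · push_cast
      rw [hq']
      exact mul_mem (mul_mem hq hx) (inv_mem hq)
    · push_cast
      rw [hq', show t * q * (x : G) * (t * q)⁻¹ = t * (q * x * q⁻¹) * t⁻¹ by group,
        ← B.Tt _ (D.PT (mul_mem (mul_mem hq hx) (inv_mem hq))), mul_inv_cancel_right]
      exact mul_mem (mul_mem hq hx) (inv_mem hq)⟩
  have hi2 : M.index = 2 := by
    refine index_eq_two_iff.2 ⟨⟨t, hmem.2 B.tT⟩, fun b => ?_⟩
    simp only [hM, mem_subgroupOf, Subgroup.coe_mul]
    have hb := hmem.1 b.2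
    rcases D.split (b : G) hb with h | h
    · refine Or.inr ⟨h, fun h2 => D.tP ?_⟩
      have h3 := mul_mem (inv_mem h) h2
      rwa [inv_mul_cancel_left] at h3
    · refine Or.inl ⟨by rwa [B.Tt _ hb], fun h2 => D.tP ?_⟩
      have h3 := mul_mem h (inv_mem h2)
      rwa [mul_inv_cancel_right] at h3
  have hcomm : IsMulCommutative (↥(S : Subgroup G) ⧸ M) := by
    haveI : IsCyclic (↥(S : Subgroup G) ⧸ M) := isCyclic_of_prime_card (p := 2) (by rw [← index_eq_card, hi2])
    exact IsCyclic.isMulCommutative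
  letI : CommGroup (↥(S : Subgroup G) ⧸ M) :=
    { (inferInstance : Group (↥(S : Subgroup G) ⧸ M)) with mul_comm := fun a b => hcomm.1.1 a b }
  refine no_char hG S B.tt (hmem.2 B.tT) (QuotientGroup.mk' M) ?_ ?_
  · rw [QuotientGroup.mk'_apply, ne_eq, QuotientGroup.eq_one_iff]
    exact fun h => D.tP h
  · intro g h
    exact congrArg _ (Subtype.ext (hall _ (hmem.1 h) (isConj_iff.2 ⟨g, rfl⟩)))

/-- the action of `T` on the conjugates of `t` centralizing `t`: an outside one has a large orbit -/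
theorem four_dvd_index {v : G} (hvt : v * t = t * v) (hv2 : v * v = 1) (hvT : v ∉ B.T) :
    4 ∣ ((centralizer ({v} : Set G)).subgroupOf B.T).index := by
  set M := B.T ⊓ centralizer ({v} : Set G) with hM
  have hrel : ((centralizer ({v} : Set G)).subgroupOf B.T).index = M.relIndex B.T := by
    rw [relIndex, hM, inf_subgroupOf_left]
  rw [hrel]
  obtain ⟨a, ha⟩ := IsPGroup.iff_card.1 B.T2
  have hd : M.relIndex B.T ∣ 2 ^ a := ha ▸ relIndex_dvd_card M B.T
  obtain ⟨k, -, hk⟩ := (Nat.dvd_prime_pow Nat.prime_two).1 hd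
  by_contra h4
  have hk1 : k ≤ 1 := by
    by_contra hk2
    exact h4 (hk ▸ (pow_dvd_pow 2 (show 2 ≤ k by omega)))
  have hMv : ∀ x ∈ M, v * x * v⁻¹ ∈ M := fun x hx => by
    rwa [← mem_centralizer_singleton_iff.1 hx.2, mul_inv_cancel_right]
  set Q := zpowers v ⊔ M with hQ
  have hQp : IsPGroup 2 Q := isPGroup_sup_zpowers (B.T2.to_le inf_le_left) (k := 1) (by
    rw [pow_one, pow_two, hv2]) hMv
  have hQt : ∀ x ∈ Q, x * t = t * x := sup_comm (fun y hy => by
    obtain ⟨n, rfl⟩ := hy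
    exact ((show Commute v t from hvt).zpow_left n).eq) fun y hy => B.Tt y hy.1
  have hQv : ∀ x ∈ Q, x * v = v * x := sup_comm (fun y hy => by
    obtain ⟨n, rfl⟩ := hy
    exact ((Commute.refl v).zpow_left n).eq) fun y hy => mem_centralizer_singleton_iff.1 hy.2
  obtain ⟨c, hct, hc⟩ := B.syl Q hQp hQt
  have hlt : Nat.card M < Nat.card Q := by
    refine lt_of_le_of_ne (Subgroup.card_le_of_le le_sup_right) fun he => hvT ?_
    have e := Subgroup.eq_of_le_of_card_ge (le_sup_right : M ≤ Q) he.ge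
    have : v ∈ Q := (le_sup_left : zpowers v ≤ Q) (mem_zpowers v)
    rw [hQ, ← e] at this
    exact this.1
  have hdQ : Nat.card M ∣ Nat.card Q := card_dvd_of_le le_sup_right
  have hcard : Nat.card M * 2 ≤ Nat.card Q := by
    obtain ⟨e, he⟩ := hdQ
    rw [he]
    rcases e with _ | _ | e
    · simp [he] at hlt
    · simp [he] at hlt
    · exact Nat.mul_le_mul_left _ (by omega)
  have hTM : Nat.card B.T = Nat.card M * M.relIndex B.T := by
    rw [← relIndex_bot_left M, ← relIndex_bot_left B.T, relIndex_mul_relIndex _ _ _ bot_le inf_le_left]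
  have hle : Q.map (MulAut.conj c).toMonoidHom ≤ B.T := by
    rintro _ ⟨x, hx, rfl⟩
    exact hc x hx
  have hQT : Nat.card B.T ≤ Nat.card Q := by
    have : M.relIndex B.T ≤ 2 := by
      rw [hk]
      exact le_trans (Nat.pow_le_pow_right two_pos hk1) (by norm_num)
    rw [hTM]
    exact le_trans (Nat.mul_le_mul_left _ this) hcard
  have heq : Q.map (MulAut.conj c).toMonoidHom = B.T := Subgroup.eq_of_le_of_card_ge hle
    (by rwa [Subgroup.card_map_of_injective (MulAut.conj c).injective])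
  have hcv : ∀ y ∈ B.T, c * v * c⁻¹ * y = y * (c * v * c⁻¹) := by
    intro y hy
    rw [← heq] at hy
    obtain ⟨x, hx, rfl⟩ := hy
    show c * v * c⁻¹ * (c * x * c⁻¹) = c * x * c⁻¹ * (c * v * c⁻¹)
    rw [show c * v * c⁻¹ * (c * x * c⁻¹) = c * (v * x) * c⁻¹ by group, ← hQv x hx]
    group
  have hvQ : v ∈ Q := (le_sup_left : zpowers v ≤ Q) (mem_zpowers v)
  -- squares in `Q` lie in `T`
  have hzin : c⁻¹ * D.z * c ∈ B.T := by
    obtain ⟨y, hy, hyz⟩ := D.zsq
    have hy' : y ∈ Q.map (MulAut.conj c).toMonoidHom := by rw [heq]; exact D.PT hy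
    obtain ⟨x, hx, hxy⟩ := hy'
    have e : c⁻¹ * D.z * c = x * x := by
      rw [← hyz, ← hxy]
      show c⁻¹ * (c * x * c⁻¹ * (c * x * c⁻¹)) * c = x * x
      group
    rw [e]
    have hTQ : Nat.card B.T = Nat.card Q := by
      rw [← heq, Subgroup.card_map_of_injective (MulAut.conj c).injective]
    have hQM : Nat.card Q = Nat.card M * M.relIndex Q := by
      rw [← relIndex_bot_left M, ← relIndex_bot_left Q, relIndex_mul_relIndex _ _ _ bot_le le_sup_right]
    have hrel2 : M.relIndex Q = 2 := by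
      have h1 : M.relIndex Q = M.relIndex B.T :=
        Nat.eq_of_mul_eq_mul_left Nat.card_pos (hQM.symm.trans (hTQ.symm.trans hTM))
      have h2 : 2 ≤ M.relIndex Q := Nat.le_of_mul_le_mul_left (hQM ▸ hcard) Nat.card_pos
      have h3 : M.relIndex B.T ≤ 2 := by
        rw [hk]
        exact le_trans (Nat.pow_le_pow_right two_pos hk1) (by norm_num)
      omega
    exact (mul_self_mem_of_index_two (H := M.subgroupOf Q) hrel2 ⟨x, hx⟩).1
  have hback : v = c⁻¹ * (c * v * c⁻¹) * c := by group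
  have hmemT : c * v * c⁻¹ ∈ B.T := hc v hvQ
  apply hvT
  rcases D.center_T hmemT (by rw [show c * v * c⁻¹ * (c * v * c⁻¹) = c * (v * v) * c⁻¹ by group, hv2, mul_one,
    mul_inv_cancel]) hcv with h | h | h | h
  · rw [hback, h, mul_one, inv_mul_cancel]
    exact one_mem _
  · rw [hback, h]
    exact hzin
  · rw [hback, h, mul_assoc, ← hct, inv_mul_cancel_left]
    exact B.tT
  · rw [hback, h, show c⁻¹ * (t * D.z) * c = c⁻¹ * t * c * (c⁻¹ * D.z * c) by group, mul_assoc c⁻¹ t c, ← hct,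
      inv_mul_cancel_left]
    exact mul_mem B.tT hzin

/-- an element outside `T` normalizing it in a larger 2-group -/
theorem exists_u {S : Subgroup G} (hS : IsPGroup 2 S) (hle : B.T ≤ S) (hne : S ≠ B.T) :
    ∃ u ∈ S, u ∉ B.T ∧ ∀ y ∈ B.T, u * y * u⁻¹ ∈ B.T := by
  haveI : Fact (Nat.Prime 2) := ⟨Nat.prime_two⟩
  haveI : Group.IsNilpotent S := hS.isNilpotent
  have hlt : B.T.subgroupOf S < ⊤ := lt_top_iff_ne_top.2 fun h =>
    hne (le_antisymm (subgroupOf_eq_top.1 h) hle)
  obtain ⟨u, hu, hu'⟩ := SetLike.exists_of_lt (Group.normalizerCondition_of_isNilpotent _ hlt)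
  refine ⟨u, u.2, fun h => hu' (mem_subgroupOf.2 h), fun y hy => ?_⟩
  have h := (mem_normalizer_iff.1 hu ⟨y, hle hy⟩).1 (mem_subgroupOf.2 hy)
  exact mem_subgroupOf.1 h

/-- the image of `t` under a normalizing element outside `T` -/
theorem u_moves {S : Subgroup G} (hS : IsPGroup 2 S) (hle : B.T ≤ S) {u : G} (huS : u ∈ S) (hu : u ∉ B.T)
    (hn : ∀ y ∈ B.T, u * y * u⁻¹ ∈ B.T) : u * t * u⁻¹ = t * D.z := by
  have hx2 : u * t * u⁻¹ * (u * t * u⁻¹) = 1 := by
    rw [show u * t * u⁻¹ * (u * t * u⁻¹) = u * (t * t) * u⁻¹ by group, B.tt, mul_one, mul_inv_cancel]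
  have hmap : B.T.map (MulAut.conj u).toMonoidHom = B.T := Subgroup.eq_of_le_of_card_ge (by
      rintro _ ⟨y, hy, rfl⟩
      exact hn y hy)
    (by rw [Subgroup.card_map_of_injective (MulAut.conj u).injective])
  rcases D.center_T (hn t B.tT) hx2 (fun y hy => by
    rw [← hmap] at hy
    obtain ⟨x, hx, rfl⟩ := hy
    show u * t * u⁻¹ * (u * x * u⁻¹) = u * x * u⁻¹ * (u * t * u⁻¹)
    rw [show u * t * u⁻¹ * (u * x * u⁻¹) = u * (t * x) * u⁻¹ by group, ← B.Tt x hx]
    group) with h | h | h | h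
  · rw [mul_inv_eq_one, mul_eq_left] at h
    exact absurd h B.t1
  · exact absurd (mul_left_cancel (mul_right_cancel ((D.fix_z hn).trans h.symm))) D.z_ne_t
  · exact absurd (B.inter hS hle huS (mul_inv_eq_iff_eq_mul.1 h)) hu
  · exact h

/-- the 2-part of the order of `G` is twice that of `T` -/
theorem card_sylow [IsSimpleGroup G] (hG : ¬ IsMulCommutative G) (S : Sylow 2 G)
    (hz : ¬ IsConj t D.z) (htz : IsConj t (t * D.z)) :
    Nat.card (S : Subgroup G) = 2 * Nat.card B.T := by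
  classical
  haveI : Fact (Nat.Prime 2) := ⟨Nat.prime_two⟩
  letI : MulAction G {v : G // IsConj t v} :=
    { smul := fun g v => ⟨g * v.1 * g⁻¹, v.2.trans (isConj_iff.2 ⟨g, rfl⟩)⟩
      one_smul := fun v => Subtype.ext (show (1 : G) * v.1 * (1 : G)⁻¹ = v.1 by simp)
      mul_smul := fun a b v => Subtype.ext
        (show a * b * v.1 * (a * b)⁻¹ = a * (b * v.1 * b⁻¹) * a⁻¹ by group) }
  have hsmul : ∀ (g : G) (v : {v : G // IsConj t v}), ((g • v : {v : G // IsConj t v}) : G) = g * v.1 * g⁻¹ :=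
    fun g v => rfl
  set t0 : {v : G // IsConj t v} := ⟨t, IsConj.refl t⟩ with ht0
  haveI : MulAction.IsPretransitive G {v : G // IsConj t v} := by
    refine ⟨fun a b => ?_⟩
    obtain ⟨g, hg⟩ := isConj_iff.1 (a.2.symm.trans b.2)
    exact ⟨g, Subtype.ext hg⟩
  have hstab : stabilizer G t0 = centralizer ({t} : Set G) := by
    ext g
    rw [MulAction.mem_stabilizer_iff, Subtype.ext_iff, hsmul, mem_centralizer_singleton_iff,
      mul_inv_eq_iff_eq_mul]
  have hidx : Nat.card {v : G // IsConj t v} = (centralizer ({t} : Set G)).index := by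
    rw [← hstab, MulAction.index_stabilizer_of_transitive]
  -- fixed points of `t`
  have hmoved := four_dvd_moved hG (Ω := {v : G // IsConj t v}) B.tt
  let X := {v : G // IsConj t v ∧ v * t = t * v}
  have e1 : Nat.card {ω : {v : G // IsConj t v} // t • ω = ω} = Nat.card X :=
    Nat.card_congr
      { toFun := fun w => ⟨w.1.1, w.1.2, by
          have h := congrArg Subtype.val w.2
          rw [hsmul, mul_inv_eq_iff_eq_mul] at h
          exact h.symm⟩
        invFun := fun v => ⟨⟨v.1, v.2.1⟩, Subtype.ext (by rw [hsmul, mul_inv_eq_iff_eq_mul]; exact v.2.2.symm)⟩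
        left_inv := fun w => rfl
        right_inv := fun v => rfl }
  let Y := {v : G // (IsConj t v ∧ v * t = t * v) ∧ v ∉ B.T}
  let Z := {v : G // (IsConj t v ∧ v * t = t * v) ∧ v ∈ B.T}
  have e2 : Nat.card X = Nat.card Z + Nat.card Y := by
    rw [← Nat.card_sum]
    exact Nat.card_congr
      ((Equiv.sumCompl fun v : X => v.1 ∈ B.T).symm.trans
        ((Equiv.subtypeSubtypeEquivSubtypeInter _ (fun v : G => v ∈ B.T)).sumCongr
          (Equiv.subtypeSubtypeEquivSubtypeInter _ (fun v : G => v ∉ B.T))))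
  have e3 : Nat.card Z = Nat.card {p : G // p ∈ D.P ∧ p * p = 1} :=
    Nat.card_congr
      { toFun := fun v => ⟨t * v.1, by
          have hv2 : v.1 * v.1 = 1 := by
            obtain ⟨g, hg⟩ := isConj_iff.1 v.2.1.1
            rw [← hg, show g * t * g⁻¹ * (g * t * g⁻¹) = g * (t * t) * g⁻¹ by group, B.tt, mul_one, mul_inv_cancel]
          rcases D.split v.1 v.2.2 with h | h
          · exact absurd v.2.1.1 (D.not_isConj_p hz h)
          · refine ⟨h, ?_⟩
            rw [show t * v.1 * (t * v.1) = t * (v.1 * t) * v.1 by group, B.Tt v.1 v.2.2, ← mul_assoc t,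
              B.tt, one_mul, hv2]⟩
        invFun := fun p => ⟨t * p.1, ⟨D.isConj_tp htz p.2.1 p.2.2, B.Tt _ (D.t_mul_mem p.2.1)⟩,
          D.t_mul_mem p.2.1⟩
        left_inv := fun v => Subtype.ext (by simp [← mul_assoc, B.tt])
        right_inv := fun p => Subtype.ext (by simp [← mul_assoc, B.tt]) }
  letI : MulAction ↥B.T Y :=
    { smul := fun x v => ⟨x.1 * v.1 * x.1⁻¹, ⟨v.2.1.1.trans (isConj_iff.2 ⟨x.1, rfl⟩), by
          have hx : x.1 * t = t * x.1 := B.Tt x.1 x.2
          have hxi : x.1⁻¹ * t = t * x.1⁻¹ := B.Tt _ (inv_mem x.2)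
          calc x.1 * v.1 * x.1⁻¹ * t = x.1 * v.1 * (x.1⁻¹ * t) := by group
            _ = x.1 * (v.1 * t) * x.1⁻¹ := by rw [hxi]; group
            _ = x.1 * t * v.1 * x.1⁻¹ := by rw [v.2.1.2]; group
            _ = t * (x.1 * v.1 * x.1⁻¹) := by rw [hx]; group⟩,
          fun h => v.2.2 (by simpa [mul_assoc] using mul_mem (mul_mem (inv_mem x.2) h) x.2)⟩
      one_smul := fun v => Subtype.ext (show (1 : G) * v.1 * (1 : G)⁻¹ = v.1 by simp)
      mul_smul := fun a b v => Subtype.ext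
        (show a.1 * b.1 * v.1 * (a.1 * b.1)⁻¹ = a.1 * (b.1 * v.1 * b.1⁻¹) * a.1⁻¹ by group) }
  have hY : 4 ∣ Nat.card Y := four_dvd_of_orbits (H := ↥B.T) fun v => by
    have hst : stabilizer ↥B.T v = (centralizer ({v.1} : Set G)).subgroupOf B.T := by
      ext x
      rw [MulAction.mem_stabilizer_iff, Subtype.ext_iff, mem_subgroupOf, mem_centralizer_singleton_iff,
        ← mul_inv_eq_iff_eq_mul]
      rfl
    rw [Nat.card_coe_set_eq, ← MulAction.index_stabilizer, hst]
    refine D.four_dvd_index v.2.1.2 ?_ v.2.2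
    obtain ⟨g, hg⟩ := isConj_iff.1 v.2.1.1
    rw [← hg, show g * t * g⁻¹ * (g * t * g⁻¹) = g * (t * t) * g⁻¹ by group, B.tt, mul_one, mul_inv_cancel]
  rw [e1, e2, e3, hidx] at hmoved
  have hmod : (centralizer ({t} : Set G)).index % 4 = 2 := by
    have := D.count
    omega
  obtain ⟨j, hj, hj2⟩ : ∃ j, Odd j ∧ (centralizer ({t} : Set G)).index = 2 * j :=
    ⟨(centralizer ({t} : Set G)).index / 2, Nat.odd_iff.2 (by omega), by omega⟩
  rw [Sylow.card_eq_multiplicity, B.card_T, ← Subgroup.card_mul_index (centralizer ({t} : Set G)), hj2,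
    Nat.factorization_mul Nat.card_pos.ne' (by obtain ⟨r, hr⟩ := hj; omega),
    Nat.factorization_mul two_ne_zero (by obtain ⟨r, hr⟩ := hj; omega)]
  simp only [Finsupp.coe_add, Pi.add_apply, Nat.prime_two.factorization_self]
  rw [Nat.factorization_eq_zero_of_not_dvd (show ¬ 2 ∣ j by obtain ⟨r, hr⟩ := hj; omega), add_zero, pow_succ,
    mul_comm]

/-- the class of `v x` for a conjugate `v` of `t` outside `T` and a commuting involution `x` of `T` -/
theorem isConj_mul (hz : ¬ IsConj t D.z) (htz : IsConj t (t * D.z)) {v : G} (hv : IsConj t v) (_hvT : v ∉ B.T)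
    {x : G} (_hxT : x ∈ B.T) (hx2 : x * x = 1) (hx1 : x ≠ 1) (hvx : v * x = x * v) :
    IsConj t (v * x) ↔ ¬ IsConj t x := by
  obtain ⟨g, hg⟩ := isConj_iff.1 hv
  set y := g⁻¹ * x * g with hy
  have hyt : y * t = t * y := by
    rw [hy, show t = g⁻¹ * v * g by rw [← hg]; group]
    rw [show g⁻¹ * x * g * (g⁻¹ * v * g) = g⁻¹ * (x * v) * g by group, ← hvx]
    group
  have hy2 : y * y = 1 := by
    rw [hy, show g⁻¹ * x * g * (g⁻¹ * x * g) = g⁻¹ * (x * x) * g by group, hx2, mul_one, inv_mul_cancel]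
  obtain ⟨c, hct, hc⟩ := B.syl (zpowers y) (isPGroup_zpowers (k := 1) (by rw [pow_one, pow_two, hy2]))
    (fun w hw => by
      obtain ⟨n, rfl⟩ := hw
      exact ((show Commute y t from hyt).zpow_left n).eq)
  have hwT := hc y (mem_zpowers y)
  set w := c * y * c⁻¹ with hw
  have hxw : IsConj x w := isConj_iff.2 ⟨c * g⁻¹, by rw [hw, hy]; group⟩
  have hvxw : IsConj (v * x) (t * w) := isConj_iff.2 ⟨c * g⁻¹, by
    rw [hw, hy, ← hg]
    calc c * g⁻¹ * (g * t * g⁻¹ * x) * (c * g⁻¹)⁻¹ = c * t * (g⁻¹ * x * g) * c⁻¹ := by group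
      _ = t * (c * (g⁻¹ * x * g) * c⁻¹) := by rw [hct]; group⟩
  have hw2 : w * w = 1 := by
    rw [hw, show c * y * c⁻¹ * (c * y * c⁻¹) = c * (y * y) * c⁻¹ by group, hy2, mul_one, mul_inv_cancel]
  have hw1 : w ≠ 1 := fun h => hx1 (by
    rw [h] at hxw
    exact isConj_one_left.1 hxw)
  rcases D.split_eq hwT with ⟨p, hp, h | h⟩
  · subst h
    refine iff_of_true ((D.isConj_tp htz hp hw2).trans hvxw.symm) fun h => D.not_isConj_p hz hp (h.trans hxw)
  · have hp2 : p * p = 1 := by
      rwa [h, show t * p * (t * p) = t * (p * t) * p by group, B.Tt p (D.PT hp), ← mul_assoc t, B.tt,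
        one_mul] at hw2
    have hc1 : IsConj t x := ((D.isConj_tp htz hp hp2).trans (h ▸ IsConj.refl w)).trans hxw.symm
    refine iff_of_false (fun h2 => ?_) (not_not.2 hc1)
    have h3 := h2.trans hvxw
    rw [h, ← mul_assoc, B.tt, one_mul] at h3
    exact D.not_isConj_p hz hp h3

/-- the conclusion -/
theorem false_of_simple [IsSimpleGroup G] (hG : ¬ IsMulCommutative G) : False := by
  classical
  haveI : Fact (Nat.Prime 2) := ⟨Nat.prime_two⟩
  obtain ⟨S, hTS⟩ := B.T2.exists_le_sylow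
  obtain ⟨u, huS, huT, hun⟩ := D.exists_u S.2 hTS (D.not_sylow hG S)
  have hut := D.u_moves S.2 hTS huS huT hun
  have htz : IsConj t (t * D.z) := isConj_iff.2 ⟨u, hut⟩
  have hz : ¬ IsConj t D.z := by
    intro h
    obtain ⟨g, hg⟩ := isConj_iff.1 h
    set U := (S : Subgroup G) ⊓ centralizer ({D.z} : Set G) with hU
    have hUg : IsPGroup 2 (U.map (MulAut.conj g⁻¹).toMonoidHom) := (S.2.to_le inf_le_left).map _
    obtain ⟨c, -, hc⟩ := B.syl _ hUg (by
      rintro _ ⟨x, hx, rfl⟩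
      show g⁻¹ * x * g⁻¹⁻¹ * t = t * (g⁻¹ * x * g⁻¹⁻¹)
      have h1 := mem_centralizer_singleton_iff.1 hx.2
      rw [← hg] at h1
      rw [inv_inv, show g⁻¹ * x * g * t = g⁻¹ * (x * (g * t * g⁻¹)) * g by group, h1]
      group)
    have hle : (U.map (MulAut.conj g⁻¹).toMonoidHom).map (MulAut.conj c).toMonoidHom ≤ B.T := by
      rintro _ ⟨x, hx, rfl⟩
      exact hc x hx
    have hcard := Subgroup.card_le_of_le hle
    rw [Subgroup.card_map_of_injective (MulAut.conj c).injective,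
      Subgroup.card_map_of_injective (MulAut.conj g⁻¹).injective] at hcard
    have hTU : B.T ≤ U := le_inf hTS fun y hy => mem_centralizer_singleton_iff.2 (D.z_comm_T hy).symm
    have huU : u ∈ U := ⟨huS, mem_centralizer_singleton_iff.2 (mul_inv_eq_iff_eq_mul.1 (D.fix_z hun))⟩
    exact huT (Subgroup.eq_of_le_of_card_ge hTU hcard ▸ huU)
  have hcard := D.card_sylow hG S hz htz
  have hrel : B.T.relIndex S = 2 := by
    have h := relIndex_mul_relIndex ⊥ B.T (S : Subgroup G) bot_le hTS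
    rw [relIndex_bot_left, relIndex_bot_left, hcard, mul_comm 2] at h
    exact Nat.eq_of_mul_eq_mul_left Nat.card_pos h
  have hsplit : ∀ v ∈ (S : Subgroup G), v ∉ B.T → ∀ x ∈ (S : Subgroup G), x ∈ B.T ∨ v * x ∈ B.T := by
    intro v hv hvT x hx
    by_cases h : x ∈ B.T
    · exact Or.inl h
    · exact Or.inr ((Subgroup.mul_mem_iff_of_index_two (H := B.T.subgroupOf S) hrel
        (a := ⟨v, hv⟩) (b := ⟨x, hx⟩)).2 (iff_of_false hvT h))
  have hPn : ∀ s ∈ (S : Subgroup G), ∀ p ∈ D.P, s * p * s⁻¹ ∈ D.P := by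
    intro s hs p hp
    have hle : D.P ≤ D.P.comap (MulAut.conj s).toMonoidHom := D.gen _ fun q hq hq2 => by
      show s * q * s⁻¹ ∈ D.P
      haveI hn : (B.T.subgroupOf (S : Subgroup G)).Normal := normal_of_index_eq_two hrel
      have hT : s * q * s⁻¹ ∈ B.T :=
        mem_subgroupOf.1 (hn.conj_mem ⟨q, hTS (D.PT hq)⟩ (mem_subgroupOf.2 (D.PT hq)) ⟨s, hs⟩)
      rcases eq_or_ne q 1 with rfl | hq1
      · simp
      · rcases D.split_eq hT with ⟨r, hr, h | h⟩
        · rw [h]; exact hr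
        · exfalso
          have hr2 : r * r = 1 := by
            have h1 : t * r * (t * r) = 1 := by
              rw [← h, show s * q * s⁻¹ * (s * q * s⁻¹) = s * (q * q) * s⁻¹ by group, hq2, mul_one,
                mul_inv_cancel]
            rwa [show t * r * (t * r) = t * (r * t) * r by group, B.Tt r (D.PT hr), ← mul_assoc t, B.tt,
              one_mul] at h1
          exact D.not_isConj_p hz hq ((D.isConj_tp htz hr hr2).trans (h ▸ (isConj_iff.2 ⟨s, rfl⟩ :
            IsConj q (s * q * s⁻¹)).symm))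
    exact hle hp
  have himg : ∀ v ∈ B.T, IsConj t v → t * v ∈ D.P := by
    intro v hv h
    rcases D.split v hv with h1 | h1
    · exact absurd h (D.not_isConj_p hz h1)
    · exact h1
  by_cases hout : ∀ v ∈ (S : Subgroup G), IsConj t v → v ∈ B.T
  · -- all the conjugates lie in the coset `tP`
    set N : Subgroup ↥(S : Subgroup G) := D.P.subgroupOf S with hN
    have hnor : N.Normal := ⟨fun x hx y => mem_subgroupOf.2 (hPn y.1 y.2 _ (mem_subgroupOf.1 hx))⟩
    have hcomm : IsMulCommutative (↥(S : Subgroup G) ⧸ N) := by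
      have hPT2 : D.P.relIndex B.T = 2 := index_eq_two_iff.2 ⟨⟨t, B.tT⟩, fun b => by
        simp only [mem_subgroupOf, Subgroup.coe_mul]
        rcases D.split (b : G) b.2 with h | h
        · refine Or.inr ⟨h, fun h2 => D.tP ?_⟩
          have h3 := mul_mem (inv_mem h) h2
          rwa [inv_mul_cancel_left] at h3
        · refine Or.inl ⟨by rwa [B.Tt _ b.2], fun h2 => D.tP ?_⟩
          have h3 := mul_mem h (inv_mem h2)
          rwa [mul_inv_cancel_right] at h3⟩
      have h4 : Nat.card (↥(S : Subgroup G) ⧸ N) = 2 ^ 2 := by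
        show N.index = 2 ^ 2
        rw [hN, ← relIndex, ← relIndex_mul_relIndex D.P B.T _ D.PT hTS, hPT2, hrel]
        norm_num
      exact IsPGroup.isMulCommutative_of_card_eq_prime_sq h4
    letI : CommGroup (↥(S : Subgroup G) ⧸ N) :=
      { (inferInstance : Group (↥(S : Subgroup G) ⧸ N)) with mul_comm := fun a b => hcomm.1.1 a b }
    refine no_char hG S B.tt (hTS B.tT) (QuotientGroup.mk' N) ?_ ?_
    · rw [QuotientGroup.mk'_apply, ne_eq, QuotientGroup.eq_one_iff]
      exact fun h => D.tP h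
    · intro g h
      have hc : IsConj t (g * t * g⁻¹) := isConj_iff.2 ⟨g, rfl⟩
      have h1 := himg _ (hout _ h hc) hc
      refine (QuotientGroup.eq.2 ?_).symm
      simp only [hN, mem_subgroupOf, Subgroup.coe_mul, InvMemClass.coe_inv]
      rwa [B.ti]
  push Not at hout
  obtain ⟨v1, hv1S, hv1c, hv1T⟩ := hout
  -- a coset of `P` outside `T`
  let Ext : G → Prop := fun v => ∃ g : G, (∀ x ∈ B.T, g⁻¹ * x * g ∈ (S : Subgroup G)) ∧ g⁻¹ * t * g = v
  have key : ∀ c ∈ (S : Subgroup G), c ∉ B.T → c * c ∈ D.P →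
      (∀ v, Ext v → c⁻¹ * v ∈ D.P → False) → False := by
    intro c hc hcT hc2 hno
    have hcT' : ∀ x ∈ D.P, c * x ∉ B.T := fun x hx h => hcT (by
      have := mul_mem h (inv_mem (D.PT hx))
      rwa [mul_inv_cancel_right] at this)
    let M : Subgroup G :=
      { carrier := {x | x ∈ D.P ∨ c⁻¹ * x ∈ D.P}
        one_mem' := Or.inl (one_mem _)
        mul_mem' := by
          rintro a b (ha | ha) (hb | hb)
          · exact Or.inl (mul_mem ha hb)
          · right
            rw [show c⁻¹ * (a * b) = c⁻¹ * a * c⁻¹⁻¹ * (c⁻¹ * b) by group]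
            exact mul_mem (hPn _ (inv_mem hc) _ ha) hb
          · right
            rw [← mul_assoc]
            exact mul_mem ha hb
          · left
            rw [show a * b = c * (c⁻¹ * a) * c⁻¹ * (c * c) * (c⁻¹ * b) by group]
            exact mul_mem (mul_mem (hPn _ hc _ ha) hc2) hb
        inv_mem' := by
          rintro a (ha | ha)
          · exact Or.inl (inv_mem ha)
          · right
            rw [show c⁻¹ * a⁻¹ = (c * c)⁻¹ * (c * (c⁻¹ * a)⁻¹ * c⁻¹) by group]
            exact mul_mem (inv_mem hc2) (hPn _ hc _ (inv_mem ha)) }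
    have hMt : t ∉ M := by
      rintro (h | h)
      · exact D.tP h
      · refine hcT ?_
        have h2 := mul_mem B.tT (inv_mem (D.PT h))
        rwa [mul_inv_rev, inv_inv, mul_inv_cancel_left] at h2
    have hMi : (M.subgroupOf (S : Subgroup G)).index = 2 := by
      refine index_eq_two_iff.2 ⟨⟨t, hTS B.tT⟩, fun b => ?_⟩
      simp only [mem_subgroupOf, Subgroup.coe_mul]
      have hb : (b : G) ∈ M ∨ (b : G) * t ∈ M := by
        rcases hsplit c⁻¹ (inv_mem hc) (fun h => hcT (by simpa using inv_mem h)) b b.2 with h | h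
        · rcases D.split _ h with h1 | h1
          · exact Or.inl (Or.inl h1)
          · refine Or.inr (Or.inl ?_)
            rwa [B.Tt _ h]
        · rcases D.split _ h with h1 | h1
          · exact Or.inl (Or.inr h1)
          · refine Or.inr (Or.inr ?_)
            rw [← mul_assoc, B.Tt _ h]
            exact h1
      rcases hb with h | h
      · refine Or.inr ⟨h, fun h2 => hMt ?_⟩
        have h3 := mul_mem (inv_mem h) h2
        rwa [inv_mul_cancel_left] at h3
      · refine Or.inl ⟨h, fun h2 => hMt ?_⟩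
        have h3 := mul_mem (inv_mem h2) h
        rwa [inv_mul_cancel_left] at h3
    refine no_char_fixed hG S.not_dvd_index B.tt B.T B.T2 B.Tt B.tT
      (TwoTransfer.sgn (M.subgroupOf (S : Subgroup G)) hMi) ?_
    intro g hg
    rw [TwoTransfer.sgn_apply_of_notMem]
    · decide
    · rw [mem_subgroupOf]
      rintro (h | h)
      · exact D.not_isConj_p hz h (isConj_iff.2 ⟨g⁻¹, by rw [inv_inv]⟩)
      · exact hno _ ⟨g, hg, rfl⟩ h
  have hv11 : v1 * v1 = 1 := by
    obtain ⟨g, hg⟩ := isConj_iff.1 hv1c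
    rw [← hg, show g * t * g⁻¹ * (g * t * g⁻¹) = g * (t * t) * g⁻¹ by group, B.tt, mul_one, mul_inv_cancel]
  have hv1i : v1⁻¹ = v1 := inv_eq_of_mul_eq_one_right hv11
  have hv1n : ∀ y ∈ B.T, v1 * y * v1⁻¹ ∈ B.T := fun y hy =>
    mem_subgroupOf.1 ((normal_of_index_eq_two (H := B.T.subgroupOf (S : Subgroup G)) hrel).conj_mem
      ⟨y, hTS hy⟩ (mem_subgroupOf.2 hy) ⟨v1, hv1S⟩)
  -- facts about extremal conjugates
  have hExt : ∀ v, Ext v → IsConj t v ∧ v ∈ (S : Subgroup G) ∧ v * v = 1 := by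
    rintro v ⟨g, hg, rfl⟩
    refine ⟨isConj_iff.2 ⟨g⁻¹, by rw [inv_inv]⟩, hg t B.tT, ?_⟩
    rw [show g⁻¹ * t * g * (g⁻¹ * t * g) = g⁻¹ * (t * t) * g by group, B.tt, mul_one, inv_mul_cancel]
  have hExtC : ∀ v, Ext v → v ∉ B.T → ∀ y ∈ B.T, v * y = y * v ∨ v * (t * y) = t * y * v := by
    rintro v ⟨g, hg, rfl⟩ hvT y hy
    set K := (centralizer ({g⁻¹ * t * g} : Set G)).subgroupOf (S : Subgroup G) with hK
    have hvS : g⁻¹ * t * g ∈ (S : Subgroup G) := hg t B.tT
    have htK : (⟨t, hTS B.tT⟩ : ↥(S : Subgroup G)) ∉ K := fun h =>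
      hvT (B.inter S.2 hTS hvS (mem_centralizer_singleton_iff.1 (mem_subgroupOf.1 h)).symm)
    have hle : B.T.map (MulAut.conj g⁻¹).toMonoidHom ≤ (S : Subgroup G) ⊓ centralizer ({g⁻¹ * t * g} : Set G) := by
      rintro _ ⟨x, hx, rfl⟩
      refine ⟨?_, mem_centralizer_singleton_iff.2 ?_⟩
      · show g⁻¹ * x * g⁻¹⁻¹ ∈ (S : Subgroup G)
        rw [inv_inv]; exact hg x hx
      · show g⁻¹ * x * g⁻¹⁻¹ * (g⁻¹ * t * g) = g⁻¹ * t * g * (g⁻¹ * x * g⁻¹⁻¹)
        rw [inv_inv, show g⁻¹ * x * g * (g⁻¹ * t * g) = g⁻¹ * (x * t) * g by group, B.Tt x hx]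
        group
    have hK2 : K.index = 2 := by
      have h1 := Subgroup.card_le_of_le hle
      rw [Subgroup.card_map_of_injective (MulAut.conj g⁻¹).injective] at h1
      have h2 : Nat.card K = Nat.card ↥((S : Subgroup G) ⊓ centralizer ({g⁻¹ * t * g} : Set G)) := by
        rw [hK, ← inf_subgroupOf_left]
        exact Nat.card_congr (subgroupOfEquivOfLe inf_le_left).toEquiv
      have h3 := K.card_mul_index
      have h4 : K.index ≠ 1 := fun h => htK (by rw [index_eq_one.1 h]; exact mem_top _)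
      have h5 : K.index ≠ 0 := index_ne_zero_of_finite
      rw [hcard] at h3
      by_contra h6
      have h7 : 3 ≤ K.index := by omega
      have h8 : 0 < Nat.card B.T := Nat.card_pos
      nlinarith [Nat.mul_le_mul (h1.trans h2.ge) h7]
    by_cases h : g⁻¹ * t * g * y = y * (g⁻¹ * t * g)
    · exact Or.inl h
    · refine Or.inr (mem_centralizer_singleton_iff.1 (mem_subgroupOf.1
        ((Subgroup.mul_mem_iff_of_index_two hK2 (a := ⟨t, hTS B.tT⟩) (b := ⟨y, hTS hy⟩)).2
          (iff_of_false htK fun h2 => h ?_)))).symm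
      exact (mem_centralizer_singleton_iff.1 (mem_subgroupOf.1 h2)).symm
  by_cases hA : ∀ v, Ext v → v1⁻¹ * v ∈ D.P → False
  · exact key v1 hv1S hv1T (by rw [hv11]; exact one_mem _) hA
  have hc2 : v1 * t * (v1 * t) ∈ D.P := by
    have h := D.u_moves S.2 hTS hv1S hv1T hv1n
    rw [hv1i] at h
    rw [show v1 * t * (v1 * t) = v1 * t * v1 * t by group, h, mul_assoc, D.zc _ D.zP |> fun _ => B.Tt _ (D.PT D.zP),
      ← mul_assoc, B.tt, one_mul]
    exact D.zP
  refine key (v1 * t) (mul_mem hv1S (hTS B.tT)) (fun h => hv1T (by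
    simpa [mul_assoc, B.tt] using mul_mem h B.tT)) hc2 fun w hw hwP => ?_
  push Not at hA
  obtain ⟨v, hv, hvP, -⟩ := hA
  obtain ⟨hvc, hvS, hv2⟩ := hExt v hv
  obtain ⟨hwc, hwS, hw2⟩ := hExt w hw
  have hvT : v ∉ B.T := fun h => hv1T (by
    have := mul_mem h (inv_mem (D.PT hvP))
    rwa [mul_inv_rev, inv_inv, mul_inv_cancel_left] at this)
  have hvi : v⁻¹ = v := inv_eq_of_mul_eq_one_right hv2
  -- `w = v t p`
  obtain ⟨p, hp⟩ : ∃ p, p = t * (v * w) := ⟨_, rfl⟩
  have hpP : p ∈ D.P := by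
    have e : p = t * (v1⁻¹ * v)⁻¹ * t * ((v1 * t)⁻¹ * w) := by
      rw [hp]
      nth_rewrite 1 [← hvi]
      group
    have h : t * (v1⁻¹ * v)⁻¹ * t ∈ D.P := by
      rw [B.Tt _ (D.PT (inv_mem hvP)) |>.symm, mul_assoc, B.tt, mul_one]
      exact inv_mem hvP
    rw [e]
    exact mul_mem h hwP
  have hw' : w = v * t * p := by
    rw [hp, ← mul_assoc, mul_assoc v t t, B.tt, mul_one, ← mul_assoc, hv2, one_mul]
  have hvn : ∀ y ∈ B.T, v * y * v⁻¹ ∈ B.T := fun y hy =>
    mem_subgroupOf.1 ((normal_of_index_eq_two (H := B.T.subgroupOf (S : Subgroup G)) hrel).conj_mem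
      ⟨y, hTS hy⟩ (mem_subgroupOf.2 hy) ⟨v, hvS⟩)
  have hvt : v * t * v = t * D.z := by
    have h := D.u_moves S.2 hTS hvS hvT hvn
    rwa [hvi] at h
  have htT := B.Tt p (D.PT hpP)
  rcases hExtC v hv hvT p (D.PT hpP) with hcase | hcase
  · -- `p * p = z`
    have hpp : p * p = D.z := by
      have h1 : t * D.z * p * t * p = 1 := by
        rw [← hvt]
        calc v * t * v * p * t * p = v * t * (v * p) * t * p := by group
          _ = v * t * p * (v * t * p) := by rw [hcase]; group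
          _ = 1 := by rw [← hw', hw2]
      have h2 : D.z * (p * p) = 1 := by
        calc D.z * (p * p) = t * t * D.z * (p * p) := by rw [B.tt, one_mul]
          _ = t * (D.z * (t * p)) * p := by rw [mul_assoc t t, ← B.Tt D.z (D.PT D.zP)]; group
          _ = t * D.z * p * t * p := by rw [← htT]; group
          _ = 1 := h1
      calc p * p = D.z * D.z * (p * p) := by rw [D.zz, one_mul]
        _ = D.z := by rw [mul_assoc, h2, mul_one]
    obtain ⟨r, hrP, hr2, hr1, hr⟩ := D.refl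
    have hri : r⁻¹ = r := inv_eq_of_mul_eq_one_right hr2
    have hq2 : p⁻¹ * r * (p⁻¹ * r) = 1 := by
      have := hr p hpP hpp
      calc p⁻¹ * r * (p⁻¹ * r) = p⁻¹ * (r * p⁻¹ * r) := by group
        _ = p⁻¹ * p := by
            congr 1
            rw [← this, show r * (r * p * r) * r = r * r * p * (r * r) by group, hr2, one_mul, mul_one]
        _ = 1 := inv_mul_cancel p
    have hq1 : p⁻¹ * r ≠ 1 := fun h => D.z1 (by
      rw [inv_mul_eq_one] at h
      rw [← hpp, h, hr2])
    have hqP : p⁻¹ * r ∈ D.P := mul_mem (inv_mem hpP) hrP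
    have hwT : w ∉ B.T := fun h => hvT (by
      rw [hw'] at h
      have := mul_mem (mul_mem h (inv_mem (D.PT hpP))) B.tT
      rwa [mul_inv_cancel_right, mul_assoc, B.tt, mul_one] at this)
    rcases hExtC v hv hvT r (D.PT hrP) with hrc | hrc
    · have e : w * (t * (p⁻¹ * r)) = v * r := by
        rw [hw', show v * t * p * (t * (p⁻¹ * r)) = v * (t * (p * t)) * (p⁻¹ * r) by group, htT,
          ← mul_assoc t, B.tt, one_mul]
        group
      have hcw : w * (t * (p⁻¹ * r)) = t * (p⁻¹ * r) * w := by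
        have h1 : v * r * (v * r) = 1 := by
          rw [show v * r * (v * r) = v * (r * v) * r by group, ← hrc, ← mul_assoc, hv2, one_mul, hr2]
        rw [← e] at h1
        have h3 := eq_inv_of_mul_eq_one_left h1
        rw [mul_inv_rev, inv_eq_of_mul_eq_one_right hw2,
          inv_eq_of_mul_eq_one_right (D.tp_sq hqP hq2)] at h3
        exact h3
      have ha := (D.isConj_mul hz htz hvc hvT (D.PT hrP) hr2 hr1 hrc).2 (D.not_isConj_p hz hrP)
      rw [← e] at ha
      refine (D.isConj_mul hz htz hwc hwT (D.t_mul_mem hqP) (D.tp_sq hqP hq2) ?_ hcw).1 ha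
        (D.isConj_tp htz hqP hq2)
      intro h
      exact D.tP (by rw [show t = (p⁻¹ * r)⁻¹ from (eq_inv_of_mul_eq_one_left h)]; exact inv_mem hqP)
    · have e : w * (p⁻¹ * r) = v * (t * r) := by rw [hw']; group
      have hcw : w * (p⁻¹ * r) = p⁻¹ * r * w := by
        have h1 : v * (t * r) * (v * (t * r)) = 1 := by
          calc v * (t * r) * (v * (t * r)) = v * ((t * r * v) * (t * r)) := by simp only [mul_assoc]
            _ = v * (v * (t * r) * (t * r)) := by rw [← hrc]
            _ = v * v * (t * r * (t * r)) := by simp only [mul_assoc]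
            _ = 1 := by rw [hv2, one_mul, D.tp_sq hrP hr2]
        rw [← e] at h1
        have h3 := eq_inv_of_mul_eq_one_left h1
        rw [mul_inv_rev, inv_eq_of_mul_eq_one_right hw2, inv_eq_of_mul_eq_one_right hq2] at h3
        exact h3
      have ha := (D.isConj_mul hz htz hwc hwT (D.PT hqP) hq2 hq1 hcw).2 (D.not_isConj_p hz hqP)
      rw [e] at ha
      refine (D.isConj_mul hz htz hvc hvT (D.t_mul_mem hrP) (D.tp_sq hrP hr2) ?_ hrc).1 ha
        (D.isConj_tp htz hrP hr2)
      intro h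
      exact D.tP (by rw [show t = r⁻¹ from eq_inv_of_mul_eq_one_left h]; exact inv_mem hrP)
  · -- `t p` centralizes `v`
    have e : v * (t * p) = w := by rw [hw']; group
    have hx2 : t * p * (t * p) = 1 := by
      have h1 : w * w = 1 := hw2
      rw [← e] at h1
      calc t * p * (t * p) = v * v * (t * p * (t * p)) := by rw [hv2, one_mul]
        _ = v * (v * (t * p) * (t * p)) := by simp only [mul_assoc]
        _ = v * (t * p * v * (t * p)) := by rw [hcase]
        _ = v * (t * p) * (v * (t * p)) := by simp only [mul_assoc]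
        _ = 1 := h1
    have hp2 : p * p = 1 := by
      rwa [show t * p * (t * p) = t * (p * t) * p by group, htT, ← mul_assoc t, B.tt, one_mul] at hx2
    have hx1 : t * p ≠ 1 := fun h =>
      D.tP (by rw [show t = p⁻¹ from eq_inv_of_mul_eq_one_left h]; exact inv_mem hpP)
    have h1 := (D.isConj_mul hz htz hvc hvT (D.t_mul_mem hpP) hx2 hx1 hcase).1 (by rw [e]; exact hwc)
    exact h1 (D.isConj_tp htz hpP hp2)

end Dih

end Cfsg.Agent.TimesPSL
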