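import Mathlib
import Cfsg.Agent.TimesPSL.Elem
import Cfsg.Agent.S1161

/-!
The elementary case with an abelian Sylow 2-subgroup of the whole group: the field has four elements.
-/

set_option autoImplicit false
set_option linter.unusedSectionVars false
set_option linter.style.haveILetI false

namespace Cfsg.Agent.TimesPSL

open Subgroup
open Cfsg.Agent.SingerTwo (Gen)

/-- A group of odd order acting transitively on the non-zero vectors, with an element fixing a vector and
acting transitively on enough others: the space is small. -/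
theorem small_of_transitive {A M : Type*} [Group A] [Finite A] [AddCommGroup M] [Finite M] [Nontrivial M]
    [DistribMulAction A M] [FaithfulSMul A M] (hodd : Odd (Nat.card A)) (hM : ∀ x : M, x + x = 0)
    (htr : ∀ a b : M, a ≠ 0 → b ≠ 0 → ∃ g : A, g • a = b)
    {q n : ℕ} (hq : q = 2 ^ n) (hq4 : 4 ≤ q) (hMc : Nat.card M = 2 * q) (δ : A) (t0 : M) (ht0 : t0 ≠ 0)
    (hδ : δ • t0 = t0) (Y : Set M) (hY0 : (0 : M) ∉ Y) (hYc : q - 1 ≤ Y.ncard)
    (hYtr : ∀ a ∈ Y, ∀ b ∈ Y, ∃ i : ℕ, δ ^ i • a = b) : q = 4 := by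
  classical
  obtain ⟨hcyc, hfpf, hcomm⟩ := Cfsg.Agent.S1161.result hodd Nat.prime_two
    (fun e => by rw [two_nsmul, hM]) htr
  set F := Cfsg.fittingSubgroup A with hF
  -- `δ` moves a vector inside its orbit
  have hδF : ∀ v : M, ∃ f ∈ F, δ • v = f • v := by
    intro v
    rcases eq_or_ne v 0 with rfl | hv
    · exact ⟨1, one_mem _, by rw [smul_zero, smul_zero]⟩
    obtain ⟨a, rfl⟩ := htr t0 v ht0 hv
    refine ⟨δ * a * δ⁻¹ * a⁻¹, hcomm (commutator_mem_commutator (mem_top δ) (mem_top a)), ?_⟩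
    conv_lhs => rw [smul_smul]
    conv_rhs => rw [smul_smul, ← hδ, smul_smul]
    congr 1
    group
  have hpowF : ∀ (i : ℕ) (v : M), ∃ f ∈ F, δ ^ i • v = f • v := by
    intro i
    induction i with
    | zero => exact fun v => ⟨1, one_mem _, by simp⟩
    | succ i ih =>
      intro v
      obtain ⟨f, hf, hfv⟩ := ih v
      obtain ⟨f2, hf2, hf2v⟩ := hδF (f • v)
      exact ⟨f2 * f, mul_mem hf2 hf, by rw [pow_succ', mul_smul, hfv, hf2v, smul_smul]⟩
  have hinj : ∀ v : M, v ≠ 0 → Function.Injective fun f : F => f.1 • v := by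
    intro v hv f f' h
    by_contra hne
    refine hv (hfpf (f.1⁻¹ * f'.1) (mul_mem (inv_mem f.2) f'.2) (fun h1 => hne (Subtype.ext
      (inv_mul_eq_one.1 h1))) v ?_)
    rw [mul_smul, show f'.1 • v = f.1 • v from h.symm, inv_smul_smul]
  obtain ⟨y, hy⟩ : Y.Nonempty := (Set.ncard_pos (Set.toFinite Y)).1 (by omega)
  have hy0 : y ≠ 0 := fun h => hY0 (h ▸ hy)
  have hFge : q - 1 ≤ Nat.card F := by
    refine le_trans hYc ?_
    rw [← Nat.card_coe_set_eq]
    refine Nat.card_le_card_of_surjective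
      (fun f : F => if h : f.1 • y ∈ Y then (⟨f.1 • y, h⟩ : Y) else ⟨y, hy⟩) fun b => ?_
    obtain ⟨i, hi⟩ := hYtr y hy b.1 b.2
    obtain ⟨f, hf, hfy⟩ := hpowF i y
    refine ⟨⟨f, hf⟩, ?_⟩
    have e : f • y = b.1 := by rw [← hfy, hi]
    simp only [e, b.2, dite_true]
  -- `F` is transitive
  letI : MulAction F {v : M // v ≠ 0} :=
    { smul := fun f v => ⟨f.1 • v.1, fun h => v.2 (by rw [← inv_smul_smul f.1 v.1, h, smul_zero])⟩
      one_smul := fun v => Subtype.ext (one_smul A v.1)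
      mul_smul := fun a b v => Subtype.ext (mul_smul a.1 b.1 v.1) }
  have horb : ∀ v : {v : M // v ≠ 0}, Nat.card (MulAction.orbit F v) = Nat.card F := fun v =>
    (Nat.card_congr (Equiv.ofBijective (fun f : F => (⟨f • v, ⟨f, rfl⟩⟩ : MulAction.orbit F v))
      ⟨fun a b h => hinj v.1 v.2 (congrArg (fun w : MulAction.orbit F v => w.1.1) h),
        fun w => by
          obtain ⟨f, hf⟩ := w.2
          exact ⟨f, Subtype.ext hf⟩⟩)).symm
  have hcard0 : Nat.card {v : M // v ≠ 0} = 2 * q - 1 := by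
    rw [← hMc]
    have h := Set.ncard_compl ({0} : Set M)
    rw [Set.ncard_singleton] at h
    rw [← h, ← Nat.card_coe_set_eq]
    exact Nat.card_congr (Equiv.subtypeEquivRight fun v => by simp)
  have hsum : Nat.card {v : M // v ≠ 0} = Nat.card (MulAction.orbitRel.Quotient F {v : M // v ≠ 0}) * Nat.card F := by
    haveI : Fintype (Quotient (MulAction.orbitRel F {v : M // v ≠ 0})) := Fintype.ofFinite _
    rw [Nat.card_congr (MulAction.selfEquivSigmaOrbits F {v : M // v ≠ 0}), Nat.card_sigma,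
      Finset.sum_congr rfl fun o _ => horb o.out, Finset.sum_const, smul_eq_mul, Finset.card_univ,
      ← Nat.card_eq_fintype_card]
  rw [hcard0] at hsum
  have hone : Nat.card (MulAction.orbitRel.Quotient F {v : M // v ≠ 0}) = 1 := by
    obtain ⟨k, hk⟩ := hodd.of_dvd_nat (card_subgroup_dvd_card F)
    by_contra hne
    have hm0 : Nat.card (MulAction.orbitRel.Quotient F {v : M // v ≠ 0}) ≠ 0 := fun h => by
      rw [h, zero_mul] at hsum
      omega
    have hm2 : Nat.card (MulAction.orbitRel.Quotient F {v : M // v ≠ 0}) ≠ 2 := fun h => by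
      rw [h] at hsum
      omega
    have h3 := Nat.mul_le_mul_right (Nat.card F) (show 3 ≤ Nat.card (MulAction.orbitRel.Quotient F {v : M // v ≠ 0}) by omega)
    omega
  obtain ⟨hsub, -⟩ := Nat.card_eq_one_iff_unique.1 hone
  have htrF : ∀ v w : M, v ≠ 0 → w ≠ 0 → ∃ f ∈ F, f • v = w := by
    intro v w hv hw
    obtain ⟨f, hf⟩ := Quotient.exact (hsub.elim
      (Quotient.mk (MulAction.orbitRel F {v : M // v ≠ 0}) ⟨w, hw⟩) (Quotient.mk _ ⟨v, hv⟩))
    exact ⟨f.1, f.2, congrArg Subtype.val hf⟩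
  -- a field
  obtain ⟨g, hg⟩ := hcyc.exists_generator
  let r : AddMonoid.End M := DistribMulAction.toAddMonoidEnd A M g.1
  have hr : ∀ (k : ℕ) (x : M), (r ^ k) x = g.1 ^ k • x := by
    intro k x
    rw [← map_pow]
    rfl
  have htr' : ∀ x y : M, x ≠ 0 → y ≠ 0 → ∃ k : ℕ, (r ^ k) x = y := by
    intro x w hx hw
    obtain ⟨f, hf, hfx⟩ := htrF x w hx hw
    obtain ⟨k, hk⟩ := (mem_powers_iff_mem_zpowers).2 (hg ⟨f, hf⟩)
    refine ⟨k, ?_⟩
    rw [hr, ← hfx]
    congr 1
    exact congrArg Subtype.val hk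
  obtain ⟨K1, _, l1, κ, hK1, hκ⟩ := Cfsg.Agent.SingerTwo.exists_field hM r htr'
  haveI := hK1.fin
  have hc0 : κ t0 ≠ 0 := fun h => ht0 (κ.injective (by rw [h, map_zero]))
  have hκg : ∀ (k : ℕ) (x : M), κ (g.1 ^ k • x) = l1 ^ k * κ x := by
    intro k x
    induction k with
    | zero => simp
    | succ k ih =>
      rw [pow_succ', mul_smul, show g.1 • (g.1 ^ k • x) = r (g.1 ^ k • x) from rfl, hκ, ih, pow_succ', mul_assoc]
  -- the automorphism induced by `δ`
  haveI hFn : F.Normal := ⟨fun f hf a => by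
    have h := hcomm (commutator_mem_commutator (mem_top a) (mem_top f))
    simpa [commutatorElement_def] using mul_mem h hf⟩
  obtain ⟨i, hi⟩ : ∃ i : ℕ, δ * g.1 * δ⁻¹ = g.1 ^ i := by
    obtain ⟨k, hk⟩ := (mem_powers_iff_mem_zpowers).2 (hg ⟨δ * g.1 * δ⁻¹, hFn.conj_mem _ g.2 δ⟩)
    exact ⟨k, (congrArg Subtype.val hk).symm⟩
  have hδpow : ∀ k : ℕ, δ • (g.1 ^ k • t0) = g.1 ^ (i * k) • t0 := by
    intro k
    rw [smul_smul, show δ * g.1 ^ k = δ * g.1 ^ k * δ⁻¹ * δ by group, mul_smul, hδ, ← conj_pow, hi, ← pow_mul]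
  let π : K1 → K1 := fun x => κ (δ • κ.symm (x * κ t0)) / κ t0
  have hπl : ∀ k : ℕ, π (l1 ^ k) = l1 ^ (i * k) := by
    intro k
    simp only [π]
    rw [← hκg, AddEquiv.symm_apply_apply, hδpow, hκg, mul_div_cancel_right₀ _ hc0]
  have hπ0 : π 0 = 0 := by simp [π]
  have hπadd : ∀ x y, π (x + y) = π x + π y := fun x y => by
    simp only [π, add_mul, map_add, smul_add, add_div]
  have hπmul : ∀ x y, π (x * y) = π x * π y := by
    intro x y
    rcases eq_or_ne x 0 with rfl | hx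
    · rw [zero_mul, hπ0, zero_mul]
    rcases eq_or_ne y 0 with rfl | hy
    · rw [mul_zero, hπ0, mul_zero]
    obtain ⟨a, rfl⟩ := hK1.gen x hx
    obtain ⟨b, rfl⟩ := hK1.gen y hy
    rw [← pow_add, hπl, hπl, hπl, mul_add, pow_add]
  have hπbij : Function.Bijective π := by
    refine Finite.injective_iff_bijective.1 fun x y h => ?_
    simp only [π, div_left_inj' hc0] at h
    exact mul_right_cancel₀ hc0 (κ.symm.injective (smul_left_cancel δ (κ.injective h)))
  let σ1 : K1 ≃+* K1 :=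
    { Equiv.ofBijective π hπbij with map_mul' := hπmul, map_add' := hπadd }
  have hiter : ∀ (j : ℕ) (v : M), κ (δ ^ j • v) = (σ1 ^ j) (κ v / κ t0) * κ t0 := by
    intro j
    induction j with
    | zero => intro v; simp [div_mul_cancel₀ _ hc0]
    | succ j ih =>
      intro v
      rw [pow_succ', mul_smul, pow_succ', RingAut.mul_apply]
      show κ (δ • δ ^ j • v) = π ((σ1 ^ j) (κ v / κ t0)) * κ t0
      simp only [π]
      rw [div_mul_cancel₀ _ hc0]
      congr 2
      rw [← ih, AddEquiv.symm_apply_apply]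
  have hord : orderOf δ ∣ orderOf σ1 := by
    refine orderOf_dvd_of_pow_eq_one (FaithfulSMul.eq_of_smul_eq_smul (α := M) fun v => κ.injective ?_)
    rw [hiter, pow_orderOf_eq_one, one_smul]
    exact div_mul_cancel₀ _ hc0
  have hK1c : Nat.card K1 = 2 ^ (n + 1) := by
    rw [← Nat.card_congr κ.toEquiv, hMc, hq, pow_succ']
  haveI : Finite (K1 ≃+* K1) := Finite.of_injective (fun f => (f : K1 → K1)) DFunLike.coe_injective
  have hle : q - 1 ≤ n + 1 := by
    refine le_trans hYc ?_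
    rw [← card_aut hK1 hK1c]
    refine le_trans ?_ (Nat.le_of_dvd Nat.card_pos (hord.trans (_root_.orderOf_dvd_natCard σ1)))
    rw [← Nat.card_coe_set_eq, ← Nat.card_zpowers δ]
    refine Nat.card_le_card_of_surjective
      (fun f : zpowers δ => if h : f.1 • y ∈ Y then (⟨f.1 • y, h⟩ : Y) else ⟨y, hy⟩) fun b => ?_
    obtain ⟨j, hj⟩ := hYtr y hy b.1 b.2
    refine ⟨⟨δ ^ j, pow_mem (mem_zpowers δ) j⟩, ?_⟩
    simp only [hj, b.2, dite_true]
  subst hq
  rcases n with _ | _ | _ | n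
  · omega
  · omega
  · rfl
  · exfalso
    have : n + 1 + 1 + 1 + 3 ≤ 2 ^ (n + 1 + 1 + 1) := by
      have h2 : n < 2 ^ n := Nat.lt_two_pow_self
      rw [pow_succ, pow_succ, pow_succ]
      omega
    omega

namespace Elem

variable {G : Type*} [Group G] [Finite G] {B : Base G} {K : Type*} [Field K] (X : Elem B K)
include X

local notation "t" => B.t

/-- The conclusion when `T` is a Sylow 2-subgroup. -/
theorem card_of_sylow [IsSimpleGroup G] (hG : ¬ IsMulCommutative G) (S : Sylow 2 G)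
    (hS : (S : Subgroup G) = B.T) : Nat.card K = 4 := by
  classical
  haveI : Fact (Nat.Prime 2) := ⟨Nat.prime_two⟩
  haveI := X.hK.fin
  have hmem : ∀ {x : G}, x ∈ (S : Subgroup G) ↔ x ∈ B.T := fun {x} => by rw [hS]
  have hTc : IsMulCommutative ↥B.T := ⟨⟨fun a b => Subtype.ext (X.T_comm a.2 b.2)⟩⟩
  let P : G → Prop := fun x => x ∈ B.T ∧ ∃ n : G, (∀ y ∈ B.T, n * y * n⁻¹ ∈ B.T) ∧ n * t * n⁻¹ = x
  have hfuse : ∀ x ∈ B.T, IsConj t x → P x := by
    intro x hx h
    obtain ⟨g, hg⟩ := isConj_iff.1 h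
    obtain ⟨n, hn, hne⟩ := Sylow.conj_eq_normalizer_conj_of_mem_centralizer S t g⁻¹
      (mem_centralizer_iff.2 fun y hy => X.T_comm (hmem.1 hy) B.tT)
      (by
        rw [inv_inv, hg]
        exact mem_centralizer_iff.2 fun y hy => X.T_comm (hmem.1 hy) hx)
    refine ⟨hx, n⁻¹, fun y hy => ?_, ?_⟩
    · exact hmem.1 ((mem_normalizer_iff.1 (inv_mem hn) y).1 (hmem.2 hy))
    · rw [inv_inv] at hne
      rw [inv_inv, ← hne, hg]
  obtain ⟨H, hH, hTH, hcard⟩ := X.orbit_card P (fun x => Iff.rfl)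
  have hPt : P t := ⟨B.tT, 1, fun y hy => by simpa using hy, by simp⟩
  have hP1 : ∀ x, P x → x ≠ 1 := by
    rintro x ⟨-, n, -, rfl⟩ h
    rw [mul_inv_eq_one, mul_eq_left] at h
    exact B.t1 h
  have hPd : ∀ (i : ℕ) (x : G), P x → P (X.d ^ i * x * (X.d ^ i)⁻¹) := by
    rintro i x ⟨hx, n, hn, rfl⟩
    refine ⟨X.d_normT i hx, X.d ^ i * n, fun y hy => ?_, by group⟩
    rw [show X.d ^ i * n * y * (X.d ^ i * n)⁻¹ = X.d ^ i * (n * y * n⁻¹) * (X.d ^ i)⁻¹ by group]
    exact X.d_normT i (hn y hy)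
  have hTidx : ¬ 2 ∣ B.T.relIndex H := by
    intro h
    apply S.not_dvd_index
    rw [hS, ← Subgroup.relIndex_mul_index hTH]
    exact dvd_mul_of_dvd_left h _
  have hodd : ¬ 2 ∣ Nat.card {x : G // P x} := by
    rw [hcard, ← inf_relIndex_right]
    intro h
    apply hTidx
    rw [← relIndex_mul_relIndex B.T (centralizer ({t} : Set G) ⊓ H) H
      (le_inf (fun y hy => mem_centralizer_singleton_iff.2 (B.Tt y hy)) hTH) inf_le_right]
    exact dvd_mul_of_dvd_right h _
  have hEcard : 2 ∣ Nat.card X.E := by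
    obtain ⟨k, hk⟩ := IsPGroup.iff_card.1 (B.T2.to_le X.ET)
    rw [hk]
    refine dvd_pow_self 2 fun h0 => ?_
    rw [h0, pow_zero, X.card_E] at hk
    have := X.big
    omega
  by_cases honly : ∀ x, P x → x = t
  · -- only one conjugate
    exfalso
    set N : Subgroup ↥(S : Subgroup G) := X.E.subgroupOf S with hN
    have hnor : N.Normal := ⟨fun x hx y => by
      rw [hN, mem_subgroupOf] at hx ⊢
      push_cast
      rw [X.T_comm (hmem.1 y.2) (X.ET hx), mul_inv_cancel_right]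
      exact hx⟩
    have hcomm : IsMulCommutative (↥(S : Subgroup G) ⧸ N) := ⟨⟨fun a b => by
      obtain ⟨a, rfl⟩ := QuotientGroup.mk_surjective a
      obtain ⟨b, rfl⟩ := QuotientGroup.mk_surjective b
      rw [← QuotientGroup.mk_mul, ← QuotientGroup.mk_mul]
      exact congrArg _ (Subtype.ext (X.T_comm (hmem.1 a.2) (hmem.1 b.2)))⟩⟩
    letI : CommGroup (↥(S : Subgroup G) ⧸ N) :=
      { (inferInstance : Group (↥(S : Subgroup G) ⧸ N)) with mul_comm := fun a b => hcomm.1.1 a b }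
    refine no_char hG S B.tt (hmem.2 B.tT) (QuotientGroup.mk' N) ?_ ?_
    · rw [QuotientGroup.mk'_apply, ne_eq, QuotientGroup.eq_one_iff]
      exact fun h => X.tE h
    · intro g h
      exact congrArg _ (Subtype.ext (honly _ (hfuse _ (hmem.1 h) (isConj_iff.2 ⟨g, rfl⟩))))
  push Not at honly
  obtain ⟨v, hv, hvt⟩ := honly
  -- every non-identity element of `T` is conjugate to `t`
  have hall : ∀ x ∈ B.T, x ≠ 1 → P x := by
    have hE : ∀ e ∈ X.E, e ≠ 1 → P e := by
      by_contra hno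
      push Not at hno
      obtain ⟨e0, he0, he01, hPe0⟩ := hno
      have hnone : ∀ e ∈ X.E, e ≠ 1 → ¬ P e := fun e he he1 h => hPe0 ((X.conj_coset hPd he he1).1 h e0 he0 he01)
      have hT : ∀ e ∈ X.E, P (t * e) := by
        obtain ⟨a, ha, h | h⟩ := X.split_eq hv.1
        · rw [h] at hv
          exact absurd hv (hnone a ha (hP1 _ hv))
        · intro e he
          rcases eq_or_ne e 1 with rfl | he1
          · rwa [mul_one]
          · refine (X.conj_coset hPd ha fun h1 => hvt ?_).2 (h ▸ hv) e he he1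
            rw [h, h1, mul_one]
      apply hodd
      rw [← Nat.card_congr (Equiv.ofBijective (fun e : X.E => (⟨t * e.1, hT e.1 e.2⟩ : {x : G // P x}))
        ⟨fun a b h => Subtype.ext (mul_left_cancel (congrArg Subtype.val h)), fun x => by
          obtain ⟨a, ha, h | h⟩ := X.split_eq x.2.1
          · exact absurd (h ▸ x.2) (hnone a ha (h ▸ hP1 _ x.2))
          · exact ⟨⟨a, ha⟩, Subtype.ext h.symm⟩⟩)]
      exact hEcard
    have hT : ∀ e ∈ X.E, e ≠ 1 → P (t * e) := by
      by_contra hno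
      push Not at hno
      obtain ⟨e0, he0, he01, hPe0⟩ := hno
      have hnone : ∀ e ∈ X.E, e ≠ 1 → ¬ P (t * e) := fun e he he1 h => hPe0 ((X.conj_coset hPd he he1).2 h e0 he0 he01)
      apply hodd
      rw [← Nat.card_congr (Equiv.ofBijective
        (fun e : X.E => if h : e.1 = 1 then (⟨t, hPt⟩ : {x : G // P x}) else ⟨e.1, hE e.1 e.2 h⟩)
        ⟨fun a b h => by
          by_cases ha : a.1 = 1 <;> by_cases hb : b.1 = 1
          · exact Subtype.ext (ha.trans hb.symm)
          · simp only [dif_pos ha, dif_neg hb, Subtype.mk.injEq] at h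
            exact absurd (h ▸ b.2) X.tE
          · simp only [dif_neg ha, dif_pos hb, Subtype.mk.injEq] at h
            exact absurd (h ▸ a.2) X.tE
          · simp only [dif_neg ha, dif_neg hb, Subtype.mk.injEq] at h
            exact Subtype.ext h, fun x => by
          obtain ⟨a, ha, h | h⟩ := X.split_eq x.2.1
          · refine ⟨⟨a, ha⟩, ?_⟩
            simp only [dif_neg (h ▸ hP1 _ x.2)]
            exact Subtype.ext h.symm
          · refine ⟨⟨1, one_mem _⟩, ?_⟩
            simp only [dite_true]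
            refine Subtype.ext ?_
            by_contra hne
            exact hnone a ha (fun h1 => hne (by show t = x.1; rw [h, h1, mul_one])) (h ▸ x.2)⟩)]
      exact hEcard
    intro x hx hx1
    obtain ⟨a, ha, rfl | rfl⟩ := X.split_eq hx
    · exact hE _ ha hx1
    · rcases eq_or_ne a 1 with rfl | ha1
      · rwa [mul_one]
      · exact hT a ha ha1
  -- the automizer
  obtain ⟨N, hN⟩ : ∃ N, N = normalizer (B.T : Set G) := ⟨_, rfl⟩
  haveI hTn : (B.T.subgroupOf N).Normal := hN ▸ normal_in_normalizer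
  letI act : DistribMulAction ↥N (Additive ↥B.T) :=
    { smul := fun n x => Additive.ofMul ⟨n.1 * x.toMul.1 * n.1⁻¹,
        (mem_normalizer_iff.1 (hN ▸ n.2 : n.1 ∈ normalizer (B.T : Set G)) _).1 x.toMul.2⟩
      one_smul := fun x => congrArg Additive.ofMul (Subtype.ext (show (1 : G) * x.toMul.1 * (1 : G)⁻¹ = x.toMul.1 by simp))
      mul_smul := fun a b x => congrArg Additive.ofMul (Subtype.ext
        (show a.1 * b.1 * x.toMul.1 * (a.1 * b.1)⁻¹ = a.1 * (b.1 * x.toMul.1 * b.1⁻¹) * a.1⁻¹ by group))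
      smul_zero := fun a => congrArg Additive.ofMul (Subtype.ext (show a.1 * (1 : G) * a.1⁻¹ = 1 by simp))
      smul_add := fun a x y => congrArg Additive.ofMul (Subtype.ext
        (show a.1 * (x.toMul.1 * y.toMul.1) * a.1⁻¹ = a.1 * x.toMul.1 * a.1⁻¹ * (a.1 * y.toMul.1 * a.1⁻¹) by group)) }
  letI : AddCommGroup (Additive ↥B.T) :=
    { (inferInstance : AddGroup (Additive ↥B.T)) with
      add_comm := fun a b => congrArg Additive.ofMul (hTc.1.1 a.toMul b.toMul) }
  let φ : ↥N →* Equiv.Perm (Additive ↥B.T) := MulAction.toPermHom ↥N (Additive ↥B.T)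
  have hφ : ∀ (n : ↥N) (x : Additive ↥B.T), φ n x = n • x := fun n x => rfl
  let A := φ.range
  letI : DistribMulAction ↥A (Additive ↥B.T) :=
    { smul := fun a x => a.1 x
      one_smul := fun x => rfl
      mul_smul := fun a b x => rfl
      smul_zero := fun a => by
        obtain ⟨_, n, rfl⟩ := a
        exact smul_zero n
      smul_add := fun a x y => by
        obtain ⟨_, n, rfl⟩ := a
        exact smul_add n x y }
  haveI : FaithfulSMul ↥A (Additive ↥B.T) := ⟨fun {a b} h => Subtype.ext (Equiv.ext h)⟩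
  have hTN : B.T ≤ N := hN ▸ le_normalizer
  have hkerT : B.T.subgroupOf N ≤ φ.ker := fun n hn => by
    refine MonoidHom.mem_ker.2 (Equiv.ext fun x => congrArg Additive.ofMul (Subtype.ext ?_))
    show n.1 * x.toMul.1 * n.1⁻¹ = x.toMul.1
    rw [X.T_comm (mem_subgroupOf.1 hn) x.toMul.2, mul_inv_cancel_right]
  have hAodd : Odd (Nat.card A) := by
    have h1 : Nat.card A ∣ B.T.relIndex N := by
      rw [← Subgroup.index_ker, relIndex]
      exact index_dvd_of_le hkerT
    have h2 : ¬ 2 ∣ B.T.relIndex N := by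
      intro h
      apply S.not_dvd_index
      rw [hS, ← Subgroup.relIndex_mul_index hTN]
      exact dvd_mul_of_dvd_left h _
    exact Nat.odd_iff.2 (Nat.two_dvd_ne_zero.1 fun h => h2 (h.trans h1))
  have hM : ∀ x : Additive ↥B.T, x + x = 0 := fun x => congrArg Additive.ofMul (Subtype.ext (X.T_sq x.toMul.2))
  haveI : Nontrivial (Additive ↥B.T) := ⟨⟨Additive.ofMul ⟨t, B.tT⟩, 0, fun h => B.t1 (congrArg Subtype.val h)⟩⟩
  have hne : ∀ x : Additive ↥B.T, x ≠ 0 → x.toMul.1 ≠ 1 := fun x hx h =>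
    hx (congrArg Additive.ofMul (Subtype.ext h : x.toMul = 1))
  have htr : ∀ a b : Additive ↥B.T, a ≠ 0 → b ≠ 0 → ∃ g : A, g • a = b := by
    intro a b ha hb
    obtain ⟨-, n, hn, hna⟩ := hall _ a.toMul.2 (hne a ha)
    obtain ⟨-, m, hm, hmb⟩ := hall _ b.toMul.2 (hne b hb)
    have mk : ∀ k : G, (∀ y ∈ B.T, k * y * k⁻¹ ∈ B.T) → k ∈ N := fun k hk =>
      hN ▸ Invol.mem_normalizer_of_conj_le (by
        rintro _ ⟨y, hy, rfl⟩
        exact hk y hy)
    refine ⟨⟨φ (⟨m, mk m hm⟩ * (⟨n, mk n hn⟩)⁻¹), _, rfl⟩, congrArg Additive.ofMul (Subtype.ext ?_)⟩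
    show m * n⁻¹ * a.toMul.1 * (m * n⁻¹)⁻¹ = b.toMul.1
    rw [← hna, ← hmb]
    group
  obtain ⟨m, hm⟩ := IsPGroup.iff_card.1 (B.T2.to_le X.ET)
  have hKc : Nat.card K = 2 ^ m := X.card_E ▸ hm
  have hMc : Nat.card (Additive ↥B.T) = 2 * Nat.card K := by
    rw [← X.card_E, show 2 * Nat.card X.E = Nat.card (X.E ⊕ X.E) by rw [Nat.card_sum]; ring]
    refine (Nat.card_congr (Equiv.ofBijective (fun s : X.E ⊕ X.E => Additive.ofMul
      (Sum.elim (fun a => (⟨a.1, X.ET a.2⟩ : ↥B.T)) (fun a => ⟨t * a.1, mul_mem B.tT (X.ET a.2)⟩) s))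
      ⟨?_, ?_⟩)).symm
    · rintro (a | a) (b | b) h <;> simp only [Sum.elim_inl, Sum.elim_inr, EmbeddingLike.apply_eq_iff_eq,
        Subtype.mk.injEq] at h
      · rw [Subtype.ext h]
      · refine absurd ?_ X.tE
        have e2 := mul_mem a.2 (inv_mem b.2)
        rwa [h, mul_inv_cancel_right] at e2
      · refine absurd ?_ X.tE
        have e2 := mul_mem b.2 (inv_mem a.2)
        rwa [← h, mul_inv_cancel_right] at e2
      · rw [Subtype.ext (mul_left_cancel h)]
    · intro x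
      obtain ⟨a, ha, h | h⟩ := X.split_eq x.toMul.2
      · exact ⟨Sum.inl ⟨a, ha⟩, congrArg Additive.ofMul (Subtype.ext h.symm : _ = x.toMul)⟩
      · exact ⟨Sum.inr ⟨a, ha⟩, congrArg Additive.ofMul (Subtype.ext h.symm : _ = x.toMul)⟩
  have hdN : X.d ∈ N := hN ▸ Invol.mem_normalizer_of_conj_le (by
    rintro _ ⟨y, hy, rfl⟩
    have := X.d_normT 1 hy
    rwa [pow_one] at this)
  let δ : A := ⟨φ ⟨X.d, hdN⟩, _, rfl⟩
  have hδ : ∀ (i : ℕ) (x : Additive ↥B.T), ((δ ^ i • x).toMul : G) = X.d ^ i * x.toMul.1 * (X.d ^ i)⁻¹ := by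
    intro i
    induction i with
    | zero => intro x; simp
    | succ i ih =>
      intro x
      rw [pow_succ', mul_smul]
      show X.d * ((δ ^ i • x).toMul : G) * X.d⁻¹ = _
      rw [ih, pow_succ']
      group
  refine small_of_transitive (M := Additive ↥B.T) hAodd hM htr hKc X.big hMc δ (Additive.ofMul ⟨t, B.tT⟩)
    (fun h => B.t1 (congrArg Subtype.val h))
    (congrArg Additive.ofMul (Subtype.ext (by
      show X.d * t * X.d⁻¹ = t
      rw [X.dt, mul_inv_cancel_right]) : (⟨X.d * t * X.d⁻¹, _⟩ : ↥B.T) = ⟨t, B.tT⟩))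
    {x | x.toMul.1 ∈ X.E ∧ x.toMul.1 ≠ 1} (fun h => h.2 rfl) ?_ ?_
  · rw [← X.card_E]
    refine le_of_eq ?_
    rw [← Nat.card_coe_set_eq]
    have h := Set.ncard_compl ({1} : Set X.E)
    rw [Set.ncard_singleton] at h
    rw [← h, ← Nat.card_coe_set_eq]
    exact Nat.card_congr
      { toFun := fun e => ⟨Additive.ofMul ⟨e.1.1, X.ET e.1.2⟩, e.1.2, fun h1 => e.2 (Subtype.ext h1)⟩
        invFun := fun x => ⟨⟨x.1.toMul.1, x.2.1⟩, fun h1 => x.2.2 (congrArg Subtype.val h1)⟩
        left_inv := fun e => rfl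
        right_inv := fun x => rfl }
  · intro a ha b hb
    obtain ⟨i, hi⟩ := X.trans ha.1 ha.2 hb.1 hb.2
    exact ⟨i, congrArg Additive.ofMul (Subtype.ext ((hδ i a).trans hi) : (δ ^ i • a).toMul = b.toMul)⟩

end Elem

end Cfsg.Agent.TimesPSL
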