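import Cfsg.Agent.TimesPSL.Dih
import Cfsg.Agent.Invol.DihedralSylow

/-!
The dihedral data from an embedding of a dihedral 2-group.
-/

set_option autoImplicit false
set_option linter.unusedSectionVars false

namespace Cfsg.Agent.TimesPSL

open DihedralGroup

variable {G : Type*} [Group G] [Finite G]

/-- The data of the dihedral case from a model. -/
theorem exists_dih (B : Base G) {k : ℕ} (hk : 2 ≤ k) (ι : DihedralGroup (2 ^ k) →* G)
    (hι : Function.Injective ι) (hT : ι.range ≤ B.T) (ht : B.t ∉ ι.range)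
    (hsplit : ∀ x ∈ B.T, x ∈ ι.range ∨ B.t * x ∈ ι.range)
    (hconj : ∀ p ∈ ι.range, p * p = 1 → p ≠ 1 → ∃ c : G, c * B.t = B.t * c ∧
      c * ι (r (Invol.dh k)) * c⁻¹ = p) : Nonempty (Dih B) := by
  have hk1 : 1 ≤ k := by omega
  have h2 : (2 : ZMod (2 ^ k)) ≠ 0 := by
    intro h
    have h' : ((2 : ℕ) : ZMod (2 ^ k)) = 0 := by exact_mod_cast h
    have := Nat.le_of_dvd two_pos ((ZMod.natCast_eq_zero_iff _ _).1 h')
    have h4 : 2 ^ 2 ≤ 2 ^ k := Nat.pow_le_pow_right two_pos hk
    omega
  have hdh2 : Invol.dh k + Invol.dh k = 0 := by rw [← two_mul, Invol.two_dh hk1]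
  have hne : r (Invol.dh k) ≠ (1 : DihedralGroup (2 ^ k)) := fun e => Invol.dh_ne hk1 (by
    rwa [one_def, r.injEq] at e)
  have hsq : ∀ d : DihedralGroup (2 ^ k), d * d = 1 ↔ (d = 1 ∨ d = r (Invol.dh k) ∨ ∃ a, d = sr a) := by
    intro d
    constructor
    · intro h
      rcases d with i | i
      · rw [r_mul_r, one_def, r.injEq, ← two_mul] at h
        rcases Invol.two_mul_zero hk1 h with h0 | h0
        · exact Or.inl (by rw [h0, one_def])
        · exact Or.inr (Or.inl (by rw [h0]))
      · exact Or.inr (Or.inr ⟨i, rfl⟩)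
    · rintro (rfl | rfl | ⟨a, rfl⟩)
      · rw [one_mul]
      · rw [r_mul_r, hdh2, one_def]
      · exact sr_mul_self a
  refine ⟨{ P := ι.range, PT := hT, tP := ht, split := hsplit, z := ι (r (Invol.dh k)), zP := ⟨_, rfl⟩,
            zz := ?_, z1 := ?_, zc := ?_, zsq := ?_, sq := ?_, zuniq := ?_, gen := ?_, count := ?_,
            refl := ?_, conj := hconj }⟩
  · rw [← map_mul, r_mul_r, hdh2, ← one_def, map_one]
  · exact fun e => hne (hι (by rw [e, map_one]))
  · rintro _ ⟨d, rfl⟩
    rw [← map_mul, ← map_mul]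
    congr 1
    rcases d with i | i
    · rw [r_mul_r, r_mul_r, add_comm]
    · rw [r_mul_sr, sr_mul_r, sr.injEq]
      linear_combination -hdh2
  · refine ⟨ι (r (2 ^ (k - 2))), ⟨_, rfl⟩, ?_⟩
    rw [← map_mul, r_mul_r, ← two_mul, ← Invol.dh_even hk]
  · rintro _ ⟨d, rfl⟩ h
    rw [← map_mul, ← map_mul, ← map_one ι] at h
    have h := hι h
    rcases d with i | i
    · rw [r_mul_r, r_mul_r, one_def, r.injEq] at h
      rcases Invol.two_mul_zero hk1 (show 2 * (i + i) = 0 by linear_combination h) with h0 | h0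
      · exact Or.inl (by rw [← map_mul, r_mul_r, h0, ← one_def, map_one])
      · exact Or.inr (by rw [← map_mul, r_mul_r, h0])
    · exact Or.inl (by rw [← map_mul, sr_mul_self, map_one])
  · rintro _ ⟨d, rfl⟩ h hc
    rw [← map_mul, ← map_one ι] at h
    rcases (hsq d).1 (hι h) with h0 | h0 | ⟨a, rfl⟩
    · exact Or.inl (by rw [h0, map_one])
    · exact Or.inr (by rw [h0])
    · exfalso
      have h1 := hc (ι (r 1)) ⟨_, rfl⟩
      rw [← map_mul, ← map_mul] at h1
      have h1 := hι h1
      rw [sr_mul_r, r_mul_sr, sr.injEq] at h1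
      exact h2 (by linear_combination h1)
  · intro H hH
    rintro _ ⟨d, rfl⟩
    have hs : ∀ a, ι (sr a) ∈ H := fun a => hH _ ⟨_, rfl⟩ (by rw [← map_mul, sr_mul_self, map_one])
    rcases d with i | i
    · have h := mul_mem (hs 0) (hs i)
      rwa [← map_mul, sr_mul_sr, sub_zero] at h
    · exact hs i
  · have e : Nat.card {p : G // p ∈ ι.range ∧ p * p = 1} =
        Nat.card {d : DihedralGroup (2 ^ k) // d * d = 1} :=
      (Nat.card_congr (Equiv.ofBijective
        (fun d : {d : DihedralGroup (2 ^ k) // d * d = 1} =>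
          (⟨ι d.1, ⟨⟨d.1, rfl⟩, by rw [← map_mul, d.2, map_one]⟩⟩ : {p : G // p ∈ ι.range ∧ p * p = 1}))
        ⟨fun a b h => Subtype.ext (hι (congrArg Subtype.val h)), fun p => by
          obtain ⟨d, hd⟩ := p.2.1
          refine ⟨⟨d, hι ?_⟩, Subtype.ext hd⟩
          rw [map_mul, hd, p.2.2, map_one]⟩)).symm
    have hset : {d : DihedralGroup (2 ^ k) | d * d = 1} =
        insert (1 : DihedralGroup (2 ^ k)) (insert (r (Invol.dh k)) (Set.range sr)) := by
      ext d
      simp only [Set.mem_ofPred_eq, Set.mem_insert_iff, Set.mem_range, hsq d, eq_comm]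
    rw [e]
    show Nat.card ↥{d : DihedralGroup (2 ^ k) | d * d = 1} % 4 = 2
    rw [Nat.card_coe_set_eq, hset, Set.ncard_insert_of_notMem (by
        rintro (h | ⟨a, h⟩)
        · exact hne h.symm
        · rw [one_def] at h; cases h),
      Set.ncard_insert_of_notMem (by rintro ⟨a, h⟩; cases h),
      ← Nat.card_coe_set_eq, Nat.card_range_of_injective (fun a b h => by simpa using h), Nat.card_zmod]
    have : 4 ∣ 2 ^ k := pow_dvd_pow 2 hk
    omega
  · refine ⟨ι (sr 0), ⟨_, rfl⟩, by rw [← map_mul, sr_mul_self, map_one], fun e => ?_, ?_⟩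
    · rw [← map_one ι] at e
      have := hι e
      rw [one_def] at this
      cases this
    · rintro _ ⟨d, rfl⟩ h
      rw [← map_mul] at h
      have h := hι h
      rcases d with i | i
      · rw [← map_mul, ← map_mul, ← map_inv]
        congr 1
        rw [sr_mul_r, sr_mul_sr, inv_r, zero_add, zero_sub]
      · rw [sr_mul_self] at h
        exact absurd h.symm hne

end Cfsg.Agent.TimesPSL
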