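import Cfsg.Agent.TimesPSL.PSLSylow
import Cfsg.Agent.TimesPSL.Elem
import Cfsg.Agent.TimesPSL.DihModel
import Cfsg.Agent.SingerTwo.Field
import Cfsg.Agent.Core.PCore
import Cfsg.Prelude.Def_CaseTheorems

/-!
From a core quotient of an involution centralizer that is `Z₂ × PSL₂(q)` up to odd index, to the data of
the dihedral and of the elementary abelian case.
-/

set_option autoImplicit false
set_option linter.unusedSectionVars false
set_option linter.style.haveILetI false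

namespace Cfsg.Agent.TimesPSL

open Subgroup
open scoped MatrixGroups

universe u v

theorem z2_cases : ∀ a : Multiplicative (ZMod 2), a = 1 ∨ a = Multiplicative.ofAdd 1 := by decide

theorem z2_mul_self : Multiplicative.ofAdd (1 : ZMod 2) * Multiplicative.ofAdd 1 = 1 := by decide

theorem z2_ne : (1 : Multiplicative (ZMod 2)) ≠ Multiplicative.ofAdd 1 := by decide

/-- Two-subgroups conjugate modulo a normal subgroup of odd order are conjugate. -/
theorem lift_conj {C : Type*} [Group C] [Finite C] {O : Subgroup C} [O.Normal] (hO : Odd (Nat.card O))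
    {A A' : Subgroup C} (hA : IsPGroup 2 A) (hA' : IsPGroup 2 A') (c : C)
    (h : ∀ a ∈ A, ∃ a' ∈ A', QuotientGroup.mk' O (c * a * c⁻¹) = QuotientGroup.mk' O a') :
    ∃ c', QuotientGroup.mk' O c' = QuotientGroup.mk' O c ∧ ∀ a ∈ A, c' * a * c'⁻¹ ∈ A' := by
  haveI : Fact (Nat.Prime 2) := ⟨Nat.prime_two⟩
  set H := A' ⊔ O with hH
  have hAH : A.map (MulAut.conj c).toMonoidHom ≤ H := by
    rintro _ ⟨a, ha, rfl⟩
    obtain ⟨a', ha', he⟩ := h a ha
    have hd : a'⁻¹ * (c * a * c⁻¹) ∈ O := QuotientGroup.eq.1 he.symm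
    have := mul_mem ((le_sup_left : A' ≤ H) ha') ((le_sup_right : O ≤ H) hd)
    rw [mul_inv_cancel_left] at this
    exact this
  have hodd : ¬ 2 ∣ (A'.subgroupOf H).index := by
    intro h2
    have e1 : A'.relIndex H * Nat.card A' = Nat.card H := by
      rw [← Nat.card_congr (Subgroup.subgroupOfEquivOfLe (le_sup_left : A' ≤ H)).toEquiv, mul_comm]
      exact Subgroup.card_mul_index _
    have e2 : O.relIndex A' * Nat.card O = Nat.card H := by
      rw [← Subgroup.relIndex_sup_right, ← Nat.card_congr (Subgroup.subgroupOfEquivOfLe (le_sup_right : O ≤ H)).toEquiv,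
        mul_comm]
      exact Subgroup.card_mul_index _
    have hd : O.relIndex A' ∣ Nat.card A' := Subgroup.index_dvd_card _
    have h3 : A'.relIndex H * Nat.card A' ∣ Nat.card O * Nat.card A' := by
      rw [e1, ← e2, mul_comm (Nat.card O)]
      exact Nat.mul_dvd_mul_right hd _
    have h4 := (dvd_trans h2 (Nat.dvd_of_mul_dvd_mul_right Nat.card_pos h3))
    obtain ⟨m, hm⟩ := hO
    omega
  let P : Sylow 2 H := IsPGroup.toSylow (hA'.comap_subtype (K := H)) hodd
  obtain ⟨Q, hQ⟩ := ((hA.map (MulAut.conj c).toMonoidHom).comap_subtype (K := H)).exists_le_sylow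
  obtain ⟨g, hg⟩ := MulAction.exists_smul_eq H Q P
  obtain ⟨x, hx, o, ho, hxo⟩ := Subgroup.mem_sup_of_normal_right.1 g.2
  refine ⟨o * c, ?_, fun a ha => ?_⟩
  · rw [map_mul, show QuotientGroup.mk' O o = 1 from (QuotientGroup.eq_one_iff o).2 ho, one_mul]
  have hmem : (⟨c * a * c⁻¹, hAH ⟨a, ha, rfl⟩⟩ : H) ∈ (Q : Subgroup H) :=
    hQ (mem_subgroupOf.2 ⟨a, ha, rfl⟩)
  have h2 : g * ⟨c * a * c⁻¹, hAH ⟨a, ha, rfl⟩⟩ * g⁻¹ ∈ (P : Subgroup H) := by
    rw [← hg]
    exact ⟨_, hmem, rfl⟩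
  have h3 : (g : C) * (c * a * c⁻¹) * (g : C)⁻¹ ∈ A' := mem_subgroupOf.1 h2
  rw [show o * c * a * (o * c)⁻¹ = x⁻¹ * ((x * o) * (c * a * c⁻¹) * (x * o)⁻¹) * x by group, hxo]
  exact mul_mem (mul_mem (inv_mem hx) h3) hx

/-- A 2-subgroup meets a subgroup of odd order trivially. -/
theorem eq_one_of_two_of_odd {C : Type*} [Group C] [Finite C] {O A : Subgroup C} (hO : Odd (Nat.card O))
    (hA : IsPGroup 2 A) {x : C} (hxA : x ∈ A) (hxO : x ∈ O) : x = 1 := by
  obtain ⟨k, hk⟩ := hA ⟨x, hxA⟩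
  have h1 : x ^ 2 ^ k = 1 := by simpa using congrArg Subtype.val hk
  rw [← orderOf_eq_one_iff, ← Nat.dvd_one,
    ← (Nat.Coprime.pow_left k (Nat.coprime_two_left.2 hO) : Nat.gcd (2 ^ k) (Nat.card O) = 1)]
  exact Nat.dvd_gcd (orderOf_dvd_of_pow_eq_one h1) (Subgroup.orderOf_dvd_natCard O hxO)

/-- The embedded Sylow 2-subgroup of the PSL₂-factor. -/
structure Emb {G : Type u} [Group G] (t : G) (F : Type v) [Field F] where
  B : Base G
  Bt : B.t = t
  S : Sylow 2 (Matrix.ProjectiveSpecialLinearGroup (Fin 2) F)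
  ι : (S : Subgroup (Matrix.ProjectiveSpecialLinearGroup (Fin 2) F)) →* G
  inj : Function.Injective ι
  mem : ∀ s, ι s ∈ B.T
  nt : t ∉ ι.range
  split : ∀ x ∈ B.T, x ∈ ι.range ∨ B.t * x ∈ ι.range
  lift : ∀ (k : Matrix.ProjectiveSpecialLinearGroup (Fin 2) F)
    (A : Subgroup (Matrix.ProjectiveSpecialLinearGroup (Fin 2) F)) (_ : A ≤ S)
    (hk : ∀ a ∈ A, k * a * k⁻¹ ∈ S),
    ∃ c : G, c * B.t = B.t * c ∧ ∀ a (ha : a ∈ A) (h : a ∈ S), c * ι ⟨a, h⟩ * c⁻¹ = ι ⟨k * a * k⁻¹, hk a ha⟩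
  act : ∀ c : G, c * B.t = B.t * c → ∀ k : Matrix.ProjectiveSpecialLinearGroup (Fin 2) F,
    ∃ n : Matrix.ProjectiveSpecialLinearGroup (Fin 2) F, ∀ s s₁ s₂ s₃ : (S : Subgroup (Matrix.ProjectiveSpecialLinearGroup (Fin 2) F)),
      c * ι s * c⁻¹ = ι s₁ → k * s * k⁻¹ = (s₂ : Matrix.ProjectiveSpecialLinearGroup (Fin 2) F) →
      c * ι s₂ * c⁻¹ = ι s₃ → n * s₁ * n⁻¹ = (s₃ : Matrix.ProjectiveSpecialLinearGroup (Fin 2) F)

section

variable {F : Type v} [Field F] [Fintype F]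

local notation "PG" => Matrix.ProjectiveSpecialLinearGroup (Fin 2) F

/-- no involution of PSL(2,q) is central -/
theorem psl_central_invol (hF : 4 ≤ Fintype.card F) {z : PG} (hz : ∀ k : PG, k * z = z * k)
    (hz2 : z * z = 1) : z = 1 := by
  haveI : Fact (Nat.Prime 2) := ⟨Nat.prime_two⟩
  haveI : Finite PG := Finite.of_surjective _ (SL2Class.proj_surjective (F := F))
  by_contra hz1
  have key : ∀ a : PG, orderOf a = 2 → a = z := fun a ha => by
    obtain ⟨c, hc⟩ := isConj_iff.1 (psl_conj z a (orderOf_eq_prime (by rw [pow_two]; exact hz2) hz1) ha)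
    rw [← hc, hz c, mul_inv_cancel_right]
  obtain ⟨S⟩ := (inferInstance : Nonempty (Sylow 2 PG))
  obtain ⟨a, b, ha, hb, hab⟩ : ∃ a b : PG, orderOf a = 2 ∧ orderOf b = 2 ∧ a ≠ b := by
    have two : Cyc (S : Subgroup PG) ∨ ∃ k : ℕ, 2 ≤ k ∧ Nonempty ((S : Subgroup PG) ≃* DihedralGroup (2 ^ k)) := by
      by_cases h2 : (2 : F) = 0
      · exact Or.inl (psl_cyc_even h2 hF S)
      · exact psl_odd_cases h2 S
    rcases two with h | ⟨k, hk, ⟨e⟩⟩
    · obtain ⟨a, ha, ha1⟩ := h.exists_ne_one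
      by_contra hno
      push Not at hno
      have hle : ((S : Subgroup PG) : Set PG) ⊆ ({1, a} : Set PG) := fun v hv =>
        (em (v = 1)).elim Or.inl fun hv1 => Or.inr (hno v a
          (orderOf_eq_prime (by rw [pow_two]; exact h.sq v hv) hv1)
          (orderOf_eq_prime (by rw [pow_two]; exact h.sq a ha) ha1))
      have := Set.ncard_le_ncard hle (Set.toFinite _)
      rw [← Nat.card_coe_set_eq, Set.ncard_pair ha1.symm] at this
      have h4 := h.card
      change Nat.card (S : Subgroup PG) ≤ 2 at this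
      omega
    · refine ⟨(e.symm (DihedralGroup.sr 0) : PG), (e.symm (DihedralGroup.sr 1) : PG), ?_, ?_, fun h => ?_⟩
      · rw [Subgroup.orderOf_coe, e.symm.orderOf_eq, DihedralGroup.orderOf_sr]
      · rw [Subgroup.orderOf_coe, e.symm.orderOf_eq, DihedralGroup.orderOf_sr]
      · have h' := DihedralGroup.sr.inj (e.symm.injective (Subtype.ext h))
        haveI : Fact (1 < 2 ^ k) := ⟨Nat.one_lt_two_pow (by omega)⟩
        exact zero_ne_one h'
  exact hab ((key a ha).trans (key b hb).symm)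

variable {G : Type u} [Group G] [Finite G] {t : G}

/-- the core quotient hypothesis gives the embedded Sylow subgroup -/
theorem exists_emb (t : G) (ht : orderOf t = 2) (hF : 4 ≤ Fintype.card F)
    (hL : Nonempty (↥(Subgroup.closure {x : (↥(Subgroup.centralizer ({t} : Set G)) ⧸ Cfsg.oddCore ↥(Subgroup.centralizer ({t} : Set G))) | ∃ k : ℕ, orderOf x = 2 ^ k}) ≃*
      (Multiplicative (ZMod 2) × Matrix.ProjectiveSpecialLinearGroup (Fin 2) F))) :
    Nonempty (Emb t F) := by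
  classical
  haveI : Fact (Nat.Prime 2) := ⟨Nat.prime_two⟩
  haveI : Finite PG := Finite.of_surjective _ (SL2Class.proj_surjective (F := F))
  set C := Subgroup.centralizer ({t} : Set G) with hC
  set O := Cfsg.oddCore ↥C with hOdef
  have hO : Odd (Nat.card O) := Nat.coprime_two_right.1 (Core.coprime_card_pPrimeCore (p := 2) (G := ↥C))
  let π : ↥C →* ↥C ⧸ O := QuotientGroup.mk' O
  set L := Subgroup.closure {x : ↥C ⧸ O | ∃ k : ℕ, orderOf x = 2 ^ k} with hLdef
  obtain ⟨e⟩ := hL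
  have hLn : ∀ g : ↥C ⧸ O, ∀ l ∈ L, g * l * g⁻¹ ∈ L := by
    intro g l hl
    have hle : L.map (MulAut.conj g).toMonoidHom ≤ L := by
      rw [hLdef, MonoidHom.map_closure, Subgroup.closure_le]
      rintro _ ⟨x, ⟨k, hk⟩, rfl⟩
      exact Subgroup.subset_closure ⟨k, ((MulAut.conj g).orderOf_eq x).trans hk⟩
    exact hle ⟨l, hl, rfl⟩
  -- the base
  obtain ⟨T₀⟩ := (inferInstance : Nonempty (Sylow 2 ↥C))
  have htC : t ∈ C := Subgroup.mem_centralizer_singleton_iff.2 rfl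
  have tt : t * t = 1 := by rw [← pow_two, ← ht, pow_orderOf_eq_one]
  have t1 : t ≠ 1 := fun e => by rw [e, orderOf_one] at ht; norm_num at ht
  let tC : ↥C := ⟨t, htC⟩
  have tCc : ∀ x : ↥C, x * tC = tC * x := fun x =>
    Subtype.ext (Subgroup.mem_centralizer_singleton_iff.1 x.2)
  have tT : tC ∈ (T₀ : Subgroup ↥C) := by
    have hp : IsPGroup 2 (zpowers tC) := isPGroup_zpowers (k := 1) (Subtype.ext (by simpa [pow_two] using tt))
    refine ((IsPGroup.inf_normalizer_sylow hp T₀).le ⟨mem_zpowers _, ?_⟩).2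
    refine mem_normalizer_iff.2 ?_
    intro x
    rw [← tCc x, mul_inv_cancel_right]
  let B : Base G :=
    { t := t, tt := tt, t1 := t1
      T := (T₀ : Subgroup ↥C).map C.subtype
      T2 := T₀.2.map _
      tT := ⟨tC, tT, rfl⟩
      Tt := by
        rintro _ ⟨x, -, rfl⟩
        exact Subgroup.mem_centralizer_singleton_iff.1 x.2
      syl := by
        intro Q hQ hQt
        obtain ⟨P, hP⟩ := (hQ.comap_subtype (K := C)).exists_le_sylow
        obtain ⟨g, hg⟩ := MulAction.exists_smul_eq ↥C P T₀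
        refine ⟨g, Subgroup.mem_centralizer_singleton_iff.1 g.2, fun x hx => ?_⟩
        have hxC : x ∈ C := Subgroup.mem_centralizer_singleton_iff.2 (hQt x hx)
        refine ⟨g * ⟨x, hxC⟩ * g⁻¹, ?_, rfl⟩
        rw [← hg]
        exact ⟨_, hP (mem_subgroupOf.2 hx), rfl⟩ }
  -- the image of the Sylow subgroup
  have hTL : ∀ x : (T₀ : Subgroup ↥C), π x ∈ L := fun x => by
    obtain ⟨k, hk⟩ := T₀.2 x
    obtain ⟨m, -, hm⟩ := (Nat.dvd_prime_pow Nat.prime_two).1
      (orderOf_dvd_of_pow_eq_one (show π (x : ↥C) ^ 2 ^ k = 1 by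
        rw [← map_pow, show (x : ↥C) ^ 2 ^ k = 1 by simpa using congrArg Subtype.val hk, map_one]))
    exact Subgroup.subset_closure ⟨m, hm⟩
  let ψ : (T₀ : Subgroup ↥C) →* Multiplicative (ZMod 2) × PG :=
    e.toMonoidHom.comp ((π.comp (T₀ : Subgroup ↥C).subtype).codRestrict L hTL)
  have hψ : ∀ x, ψ x = e ⟨π x, hTL x⟩ := fun x => rfl
  have hπinj : ∀ x y : (T₀ : Subgroup ↥C), π x = π y → x = y := by
    intro x y h
    have h1 : ((x⁻¹ * y : (T₀ : Subgroup ↥C)) : ↥C) ∈ O := QuotientGroup.eq.1 h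
    exact inv_mul_eq_one.1 (Subtype.ext (eq_one_of_two_of_odd hO T₀.2 (x⁻¹ * y).2 h1))
  have hψinj : Function.Injective ψ := fun x y h =>
    hπinj x y (congrArg Subtype.val (e.injective h))
  have hψt : ψ ⟨tC, tT⟩ = (Multiplicative.ofAdd 1, 1) := by
    have hc : ∀ w : Multiplicative (ZMod 2) × PG, w * ψ ⟨tC, tT⟩ = ψ ⟨tC, tT⟩ * w := by
      intro w
      obtain ⟨l, rfl⟩ := e.surjective w
      rw [hψ, ← map_mul, ← map_mul]
      congr 1
      refine Subtype.ext ?_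
      obtain ⟨y, hy⟩ := QuotientGroup.mk'_surjective O (l : ↥C ⧸ O)
      show (l : ↥C ⧸ O) * π tC = π tC * l
      rw [← hy, ← map_mul, ← map_mul, tCc]
    have h2 : ψ ⟨tC, tT⟩ * ψ ⟨tC, tT⟩ = 1 := by
      rw [← map_mul, show (⟨tC, tT⟩ : (T₀ : Subgroup ↥C)) * ⟨tC, tT⟩ = 1 from
        Subtype.ext (Subtype.ext tt), map_one]
    have hs : (ψ ⟨tC, tT⟩).2 = 1 := psl_central_invol hF
      (fun k => congrArg Prod.snd (hc (1, k))) (congrArg Prod.snd h2)
    have hz : ∀ a : Multiplicative (ZMod 2), a ≠ 1 → a = Multiplicative.ofAdd 1 := fun a h => (z2_cases a).resolve_left h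
    refine Prod.ext (hz _ fun h => t1 ?_) hs
    have := hψinj (show ψ ⟨tC, tT⟩ = ψ 1 by rw [map_one]; exact Prod.ext h hs)
    exact congrArg (fun v : (T₀ : Subgroup ↥C) => ((v : ↥C) : G)) this
  -- the image is a Sylow subgroup
  let R : Sylow 2 (Multiplicative (ZMod 2) × PG) :=
    { toSubgroup := ψ.range
      isPGroup' := IsPGroup.of_surjective T₀.2 ψ.rangeRestrict ψ.rangeRestrict_surjective
      is_maximal' := by
        intro Q hQ hle
        refine le_antisymm (fun q hq => ?_) hle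
        have hQ' : IsPGroup 2 ((Q.comap e.toMonoidHom).map L.subtype) :=
          (hQ.comap_of_injective _ e.injective).map _
        have hT' := (T₀.mapSurjective (QuotientGroup.mk'_surjective O)).3 hQ' (by
          rw [Sylow.coe_mapSurjective]
          rintro _ ⟨x, hx, rfl⟩
          exact ⟨⟨π x, hTL ⟨x, hx⟩⟩, hle ⟨⟨x, hx⟩, rfl⟩, rfl⟩)
        have hmem : ((e.symm q : ↥L) : ↥C ⧸ O) ∈ (Q.comap e.toMonoidHom).map L.subtype :=
          ⟨e.symm q, show e (e.symm q) ∈ Q by rw [e.apply_symm_apply]; exact hq, rfl⟩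
        rw [hT', Sylow.coe_mapSurjective] at hmem
        obtain ⟨x, hx, hxq⟩ := hmem
        exact ⟨⟨x, hx⟩, by rw [hψ]; rw [← e.apply_symm_apply q]; congr 1; exact Subtype.ext hxq⟩ }
  let sndH : Multiplicative (ZMod 2) × PG →* PG := MonoidHom.snd _ _
  have hsnd : Function.Surjective sndH := fun k => ⟨(1, k), rfl⟩
  let S : Sylow 2 PG := R.mapSurjective hsnd
  have hS : ∀ s : PG, s ∈ (S : Subgroup PG) ↔ ∃ x, (ψ x).2 = s := fun s => by
    show s ∈ (R.mapSurjective hsnd : Subgroup PG) ↔ _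
    rw [Sylow.coe_mapSurjective]
    exact ⟨fun ⟨_, ⟨x, hx⟩, h⟩ => ⟨x, by rw [hx]; exact h⟩, fun ⟨x, h⟩ => ⟨ψ x, ⟨x, rfl⟩, h⟩⟩
  have hZ := z2_cases
  have hex : ∀ s : (S : Subgroup PG), ∃ x, ψ x = (1, (s : PG)) := by
    intro s
    obtain ⟨x, hx⟩ := (hS s).1 s.2
    rcases hZ (ψ x).1 with h | h
    · exact ⟨x, Prod.ext h hx⟩
    · refine ⟨⟨tC, tT⟩ * x, ?_⟩
      rw [map_mul, hψt]
      refine Prod.ext ?_ (by rw [Prod.snd_mul, one_mul, hx])
      rw [Prod.fst_mul, h]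
      exact z2_mul_self
  choose i₀ hi₀ using hex
  let ι₀ : (S : Subgroup PG) →* (T₀ : Subgroup ↥C) := MonoidHom.mk' i₀ fun a b => hψinj (by
    rw [map_mul, hi₀, hi₀, hi₀, Prod.mk_mul_mk, one_mul]; rfl)
  have hι₀ : ∀ s, ψ (ι₀ s) = (1, (s : PG)) := hi₀
  -- the embedding of the PSL₂-factor in the quotient
  let j : PG →* ↥C ⧸ O := L.subtype.comp (e.symm.toMonoidHom.comp (MonoidHom.inr _ PG))
  have hj : ∀ k, j k = ((e.symm (1, k) : ↥L) : ↥C ⧸ O) := fun k => rfl
  have hjι : ∀ s : (S : Subgroup PG), π (ι₀ s : ↥C) = j s := fun s => by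
    rw [hj, ← hι₀, hψ, e.symm_apply_apply]
  have hjinj : Function.Injective j := fun a b h => by
    have := congrArg Prod.snd (e.symm.injective (Subtype.ext h : e.symm (1, a) = e.symm (1, b)))
    exact this
  have hjL : ∀ l : ↥L, ∀ k : PG, (l : ↥C ⧸ O) * j k * (l : ↥C ⧸ O)⁻¹ = j ((e l).2 * k * (e l).2⁻¹) := by
    intro l k
    have : l * e.symm (1, k) * l⁻¹ = e.symm (1, (e l).2 * k * (e l).2⁻¹) := by
      apply e.injective
      rw [map_mul, map_mul, map_inv, e.apply_symm_apply, e.apply_symm_apply]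
      exact Prod.ext (by simp) (by simp)
    exact congrArg Subtype.val this
  let ι : (S : Subgroup PG) →* G := (C.subtype.comp (T₀ : Subgroup ↥C).subtype).comp ι₀
  have hιinj : Function.Injective ι := fun a b h => by
    have h1 : ι₀ a = ι₀ b := Subtype.ext (Subtype.ext h)
    have h2 := congrArg ψ h1
    rw [hι₀, hι₀] at h2
    exact Subtype.ext (congrArg Prod.snd h2)
  refine ⟨{ B := B, Bt := rfl, S := S, ι := ι, inj := hιinj, mem := fun s => ?_, nt := ?_, split := ?_,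
            lift := ?_, act := ?_ }⟩
  · exact ⟨(ι₀ s : ↥C), (ι₀ s).2, rfl⟩
  · rintro ⟨s, hs⟩
    have h1 : ι₀ s = ⟨tC, tT⟩ := Subtype.ext (Subtype.ext hs)
    have h2 := congrArg ψ h1
    rw [hι₀, hψt] at h2
    exact z2_ne (congrArg Prod.fst h2)
  · rintro _ ⟨x, hx, rfl⟩
    rcases hZ (ψ ⟨x, hx⟩).1 with h | h
    · have hs : (ψ ⟨x, hx⟩).2 ∈ (S : Subgroup PG) := (hS _).2 ⟨_, rfl⟩
      refine Or.inl ⟨⟨_, hs⟩, ?_⟩
      have : ι₀ ⟨_, hs⟩ = ⟨x, hx⟩ := hψinj (by rw [hι₀]; exact Prod.ext h.symm rfl)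
      exact congrArg (fun v : (T₀ : Subgroup ↥C) => ((v : ↥C) : G)) this
    · have hs : (ψ ⟨x, hx⟩).2 ∈ (S : Subgroup PG) := (hS _).2 ⟨_, rfl⟩
      refine Or.inr ⟨⟨_, hs⟩, ?_⟩
      have : ι₀ ⟨_, hs⟩ = ⟨tC, tT⟩ * ⟨x, hx⟩ := hψinj (by
        rw [hι₀, map_mul, hψt]
        refine Prod.ext ?_ (by rw [Prod.snd_mul, one_mul])
        rw [Prod.fst_mul, h]
        exact z2_mul_self.symm)
      exact congrArg (fun v : (T₀ : Subgroup ↥C) => ((v : ↥C) : G)) this
  · intro k A hA hk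
    obtain ⟨c, hc⟩ := QuotientGroup.mk'_surjective O (j k)
    let ιC : (S : Subgroup PG) →* ↥C := (T₀ : Subgroup ↥C).subtype.comp ι₀
    have hp : ∀ D : Subgroup (S : Subgroup PG), IsPGroup 2 (D.map ιC) := fun D => (S.2.to_subgroup D).map _
    obtain ⟨c', hc', hca⟩ := lift_conj hO (hp (A.subgroupOf S))
      (hp ((A.map (MulAut.conj k).toMonoidHom).subgroupOf S)) c (by
        rintro _ ⟨s, hs, rfl⟩
        refine ⟨ιC ⟨k * s * k⁻¹, hk _ hs⟩, ⟨⟨k * s * k⁻¹, hk _ hs⟩, ?_, rfl⟩, ?_⟩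
        · exact mem_subgroupOf.2 ⟨(s : PG), hs, rfl⟩
        · rw [map_mul, map_mul, map_inv, hc]
          show j k * π (ι₀ s) * (j k)⁻¹ = π (ι₀ _ : ↥C)
          rw [hjι, hjι, ← map_mul, ← map_inv, ← map_mul])
    refine ⟨c', Subgroup.mem_centralizer_singleton_iff.1 c'.2, fun a ha h => ?_⟩
    obtain ⟨s', -, hs'⟩ := hca (ιC ⟨a, h⟩) ⟨⟨a, h⟩, ha, rfl⟩
    have e1 : (s' : PG) = k * a * k⁻¹ := by
      apply hjinj
      rw [← hjι]
      show π (ιC s') = _
      rw [hs', map_mul, map_mul, map_inv, show π c' = π c from hc', hc]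
      show j k * π (ι₀ ⟨a, h⟩ : ↥C) * (j k)⁻¹ = _
      rw [hjι, ← map_mul, ← map_inv, ← map_mul]
    rw [show (⟨k * a * k⁻¹, hk a ha⟩ : (S : Subgroup PG)) = s' from Subtype.ext e1.symm]
    exact (congrArg C.subtype hs').symm
  · intro c hc k
    have hcC : c ∈ C := Subgroup.mem_centralizer_singleton_iff.2 hc
    set g := π ⟨c, hcC⟩ with hg
    let l : ↥L := ⟨g * j k * g⁻¹, hLn g _ (e.symm (1, k)).2⟩
    refine ⟨(e l).2, fun s s₁ s₂ s₃ h1 h2 h3 => hjinj ?_⟩
    have hconj : ∀ a b : (S : Subgroup PG), c * ι a * c⁻¹ = ι b → g * j a * g⁻¹ = j b := fun a b h => by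
      rw [← hjι, ← hjι, hg, ← map_mul, ← map_inv, ← map_mul]
      exact congrArg π (Subtype.ext h)
    rw [← hjL, ← hconj s s₁ h1, ← hconj s₂ s₃ h3, ← h2]
    show g * j k * g⁻¹ * (g * j s * g⁻¹) * (g * j k * g⁻¹)⁻¹ = g * j (k * s * k⁻¹) * g⁻¹
    rw [map_mul, map_mul, map_inv]
    group

/-- the elementary case -/
theorem exists_elem_of_cyc (X : Emb t F) (hX : Cyc (X.S : Subgroup PG)) :
    ∃ (K : Type) (_ : Field K), Nonempty (Elem X.B K) := by
  classical
  haveI : Finite PG := Finite.of_surjective _ (SL2Class.proj_surjective (F := F))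
  letI : CommGroup (X.S : Subgroup PG) :=
    { (inferInstance : Group (X.S : Subgroup PG)) with mul_comm := fun a b => Subtype.ext (hX.comm a.2 b.2) }
  haveI : Nontrivial (X.S : Subgroup PG) := Finite.one_lt_card_iff_nontrivial.1 (by have := hX.card; omega)
  obtain ⟨k, hk, htr⟩ := hX.rot
  let r : AddMonoid.End (Additive (X.S : Subgroup PG)) :=
    AddMonoidHom.mk' (fun a => Additive.ofMul ⟨k * ((Additive.toMul a : (X.S : Subgroup PG)) : PG) * k⁻¹, hk _ (Additive.toMul a).2⟩)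
      fun a b => congrArg Additive.ofMul (Subtype.ext (show k * (((Additive.toMul a : (X.S : Subgroup PG)) : PG) * ((Additive.toMul b : (X.S : Subgroup PG)) : PG)) * k⁻¹ =
        k * ((Additive.toMul a : (X.S : Subgroup PG)) : PG) * k⁻¹ * (k * ((Additive.toMul b : (X.S : Subgroup PG)) : PG) * k⁻¹) by group))
  have hrp : ∀ (i : ℕ) (a : Additive (X.S : Subgroup PG)),
      ((Additive.toMul ((r ^ i) a) : (X.S : Subgroup PG)) : PG) = k ^ i * ((Additive.toMul a : (X.S : Subgroup PG)) : PG) * (k ^ i)⁻¹ := by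
    intro i
    induction i with
    | zero => intro a; simp
    | succ i ih =>
      intro a
      rw [pow_succ']
      show k * ((Additive.toMul ((r ^ i) a) : (X.S : Subgroup PG)) : PG) * k⁻¹ = _
      rw [ih, pow_succ']
      group
  obtain ⟨K, hKF, l, κ₀, hK, hκ₀⟩ := SingerTwo.exists_field (M := Additive (X.S : Subgroup PG))
    (fun x => Additive.toMul.injective (Subtype.ext (hX.sq _ (Additive.toMul x).2))) r
    (fun x y hx hy => by
      obtain ⟨i, hi⟩ := htr _ (Additive.toMul x).2 _ (Additive.toMul y).2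
        (fun h => hx (Additive.toMul.injective (Subtype.ext h)))
        (fun h => hy (Additive.toMul.injective (Subtype.ext h)))
      exact ⟨i, Additive.toMul.injective (Subtype.ext (by rw [hrp, hi]))⟩)
  haveI := hK.fin
  let κ : G → K := fun g => κ₀ (Additive.ofMul (Function.invFun X.ι g))
  have hκ : ∀ s, κ (X.ι s) = κ₀ (Additive.ofMul s) := fun s => by
    show κ₀ (Additive.ofMul (Function.invFun X.ι (X.ι s))) = _
    rw [Function.leftInverse_invFun X.inj s]
  obtain ⟨d, hdt, hd⟩ := X.lift k X.S le_rfl hk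
  have hd' : ∀ s : (X.S : Subgroup PG), d * X.ι s * d⁻¹ = X.ι ⟨k * s * k⁻¹, hk _ s.2⟩ := fun s => hd s s.2 s.2
  refine ⟨K, hKF, ⟨{
    l := l
    hK := hK
    big := by rw [← Nat.card_congr κ₀.toEquiv]; exact hX.card
    E := X.ι.range
    ET := by rintro _ ⟨s, rfl⟩; exact X.mem s
    tE := by rw [X.Bt]; exact X.nt
    esq := by
      rintro _ ⟨s, rfl⟩
      rw [← map_mul, show s * s = 1 from Subtype.ext (hX.sq _ s.2), map_one]
    split := X.split
    κ := κ
    add := by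
      rintro _ ⟨a, rfl⟩ _ ⟨b, rfl⟩
      rw [← map_mul, hκ, hκ, hκ, ofMul_mul, map_add]
    inj := by
      rintro _ ⟨a, rfl⟩ _ ⟨b, rfl⟩ h
      rw [hκ, hκ] at h
      rw [Additive.ofMul.injective (κ₀.injective h)]
    surj := fun x => ⟨X.ι (Additive.toMul (κ₀.symm x)), ⟨_, rfl⟩, by rw [hκ, ofMul_toMul, κ₀.apply_symm_apply]⟩
    d := d
    dt := hdt
    dE := by
      rintro _ ⟨s, rfl⟩
      exact ⟨_, (hd' s).symm⟩
    dκ := by
      rintro _ ⟨s, rfl⟩
      rw [hd', hκ, hκ, ← hκ₀]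
      rfl
    semil := ?_ }⟩⟩
  intro c hc hcE
  have hγ : ∀ x : K, ∃ s₁, c * X.ι (Additive.toMul (κ₀.symm x)) * c⁻¹ = X.ι s₁ := fun x => by
    obtain ⟨s₁, hs₁⟩ := hcE _ ⟨_, rfl⟩
    exact ⟨s₁, hs₁.symm⟩
  choose f hf using hγ
  let γ : K → K := fun x => κ₀ (Additive.ofMul (f x))
  have hfadd : ∀ x y, f (x + y) = f x * f y := fun x y => X.inj (by
    rw [map_mul, ← hf, ← hf, ← hf, map_add, toMul_add, map_mul]
    group)
  have hγadd : ∀ x y, γ (x + y) = γ x + γ y := fun x y => by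
    show κ₀ (Additive.ofMul (f (x + y))) = _
    rw [hfadd, ofMul_mul, map_add]
  have hfinj : Function.Injective f := fun x y h => by
    have h1 := hf x
    rw [h, ← hf y] at h1
    exact κ₀.symm.injective (Additive.toMul.injective (X.inj (mul_left_cancel (mul_right_cancel h1))))
  have hγinj : Function.Injective γ := fun x y h => hfinj (Additive.ofMul.injective (κ₀.injective h))
  have hγbij : Function.Bijective γ := Finite.injective_iff_bijective.1 hγinj
  have hpow : ∀ (i : ℕ) (x : K), Additive.toMul (κ₀.symm (l ^ i * x)) =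
      ⟨k ^ i * ((Additive.toMul (κ₀.symm x) : (X.S : Subgroup PG)) : PG) * (k ^ i)⁻¹, by rw [← hrp]; exact SetLike.coe_mem _⟩ := by
    intro i x
    have hl : ∀ (i : ℕ) (a : Additive (X.S : Subgroup PG)), κ₀ ((r ^ i) a) = l ^ i * κ₀ a := by
      intro i
      induction i with
      | zero => intro a; simp
      | succ i ih =>
        intro a
        rw [pow_succ', pow_succ', show (r * r ^ i) a = r ((r ^ i) a) from rfl, hκ₀, ih, mul_assoc]
    have : κ₀.symm (l ^ i * x) = (r ^ i) (κ₀.symm x) := by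
      apply κ₀.injective
      rw [κ₀.apply_symm_apply, hl, κ₀.apply_symm_apply]
    rw [this]
    exact Subtype.ext (hrp i _)
  have hscal : ∀ i : ℕ, ∃ j : ℕ, ∀ x, γ (l ^ i * x) = l ^ j * γ x := by
    intro i
    obtain ⟨n, hn⟩ := X.act c hc (k ^ i)
    have key : ∀ x, n * (f x : PG) * n⁻¹ = (f (l ^ i * x) : PG) := fun x =>
      hn (Additive.toMul (κ₀.symm x)) (f x) (Additive.toMul (κ₀.symm (l ^ i * x))) (f (l ^ i * x)) (hf x)
        (by rw [hpow]) (hf _)
    have hsurj : ∀ s : (X.S : Subgroup PG), ∃ x, f x = s := fun s => by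
      obtain ⟨x, hx⟩ := hγbij.2 (κ₀ (Additive.ofMul s))
      exact ⟨x, Additive.ofMul.injective (κ₀.injective hx)⟩
    obtain ⟨j, hj⟩ := hX.acts hk htr (n := n) (fun s hs => by
      obtain ⟨x, hx⟩ := hsurj ⟨s, hs⟩
      have := key x
      rw [hx] at this
      rw [this]
      exact SetLike.coe_mem _)
    refine ⟨j, fun x => ?_⟩
    have e1 : Additive.toMul (κ₀.symm (γ (l ^ i * x))) = Additive.toMul (κ₀.symm (l ^ j * γ x)) := by
      rw [hpow]
      refine Subtype.ext ?_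
      show ((Additive.toMul (κ₀.symm (κ₀ (Additive.ofMul (f (l ^ i * x))))) : (X.S : Subgroup PG)) : PG) =
        k ^ j * ((Additive.toMul (κ₀.symm (κ₀ (Additive.ofMul (f x)))) : (X.S : Subgroup PG)) : PG) * (k ^ j)⁻¹
      rw [κ₀.symm_apply_apply, κ₀.symm_apply_apply, toMul_ofMul, toMul_ofMul, ← key, hj _ (f x).2]
    exact κ₀.symm.injective (Additive.toMul.injective e1)
  have hγ0 : γ 0 = 0 := by
    have h := hγadd 0 0
    rw [add_zero] at h
    exact left_eq_add.1 h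
  set ν := γ 1 with hν
  have hν0 : ν ≠ 0 := fun h => one_ne_zero (hγinj (h.trans hγ0.symm))
  have hmul : ∀ a x, γ (a * x) * ν = γ a * γ x := by
    intro a x
    by_cases ha : a = 0
    · rw [ha, zero_mul, hγ0, zero_mul, zero_mul]
    · obtain ⟨i, rfl⟩ := hK.gen a ha
      obtain ⟨j, hj⟩ := hscal i
      have h1 := hj 1
      rw [mul_one] at h1
      rw [hj, h1, hν]
      ring
  let σ₀ : K →+* K :=
    { toFun := fun a => γ a / ν
      map_one' := div_self hν0
      map_mul' := fun a b => by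
        have h := hmul a b
        field_simp
        linear_combination h
      map_zero' := by rw [hγ0, zero_div]
      map_add' := fun a b => by rw [hγadd, add_div] }
  refine ⟨ν, RingEquiv.ofBijective σ₀ (Finite.injective_iff_bijective.1 σ₀.injective), ?_⟩
  rintro _ ⟨s, rfl⟩
  have h1 := hf (κ₀ (Additive.ofMul s))
  rw [κ₀.symm_apply_apply, toMul_ofMul] at h1
  rw [h1, hκ, hκ]
  show γ _ = ν * (γ _ / ν)
  rw [mul_div_cancel₀ _ hν0]

/-- the dihedral case -/
theorem exists_dih_of_equiv (X : Emb t F) {k : ℕ} (hk : 2 ≤ k)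
    (e : (X.S : Subgroup PG) ≃* DihedralGroup (2 ^ k)) : Nonempty (Dih X.B) := by
  let ι : DihedralGroup (2 ^ k) →* G := X.ι.comp e.symm.toMonoidHom
  have hr : ι.range = X.ι.range := by
    ext x
    exact ⟨fun ⟨d, hd⟩ => ⟨_, hd⟩, fun ⟨s, hs⟩ => ⟨e s, by show X.ι (e.symm (e s)) = x; rw [e.symm_apply_apply, hs]⟩⟩
  refine exists_dih X.B hk ι (X.inj.comp e.symm.injective) ?_ (by rw [hr, X.Bt]; exact X.nt)
    (fun x hx => by rw [hr]; exact X.split x hx) ?_
  · rw [hr]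
    rintro _ ⟨s, rfl⟩
    exact X.mem s
  rintro p ⟨d, rfl⟩ hpp hp1
  have hord : ∀ d : DihedralGroup (2 ^ k), d * d = 1 → d ≠ 1 → orderOf (e.symm d : PG) = 2 := fun d h h1 => by
    rw [Subgroup.orderOf_coe, e.symm.orderOf_eq]
    exact orderOf_eq_prime (by rw [pow_two]; exact h) h1
  have hd : d * d = 1 := (X.inj.comp e.symm.injective) (by
    show ι (d * d) = ι 1
    rw [map_mul, hpp, map_one])
  have hd1 : d ≠ 1 := fun h => hp1 (by rw [h, map_one])
  have hz2 : Invol.dh k + Invol.dh k = 0 := by rw [← two_mul, Invol.two_dh (show 1 ≤ k by omega)]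
  obtain ⟨g, hg⟩ := isConj_iff.1 (psl_conj (e.symm (DihedralGroup.r (Invol.dh k)) : PG) (e.symm d : PG)
    (hord _ (by rw [DihedralGroup.r_mul_r, hz2, ← DihedralGroup.one_def])
      (fun h => Invol.dh_ne (show 1 ≤ k by omega) (by rwa [DihedralGroup.one_def, DihedralGroup.r.injEq] at h)))
    (hord d hd hd1))
  set z : PG := (e.symm (DihedralGroup.r (Invol.dh k)) : PG) with hz
  have hzS : z ∈ (X.S : Subgroup PG) := SetLike.coe_mem _
  obtain ⟨c, hct, hc⟩ := X.lift g (zpowers z) (zpowers_le.2 hzS) (by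
    rintro _ ⟨n, rfl⟩
    show g * z ^ n * g⁻¹ ∈ (X.S : Subgroup PG)
    rw [← conj_zpow, hg]
    exact zpow_mem (SetLike.coe_mem _) n)
  refine ⟨c, hct, ?_⟩
  have h := hc z (mem_zpowers z) hzS
  calc c * ι (DihedralGroup.r (Invol.dh k)) * c⁻¹ = _ := h
    _ = ι d := congrArg X.ι (Subtype.ext hg)

end

/-- The hypothesis of S3216 gives one of the two cases. -/
theorem setup {G : Type*} [Group G] [Finite G] (t : G) (ht : orderOf t = 2) {F : Type*} [Field F] [Fintype F]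
    (hF : 3 < Fintype.card F)
    (hL : Nonempty (↥(Subgroup.closure {x : (↥(Subgroup.centralizer ({t} : Set G)) ⧸ Cfsg.oddCore ↥(Subgroup.centralizer ({t} : Set G))) | ∃ k : ℕ, orderOf x = 2 ^ k}) ≃*
      (Multiplicative (ZMod 2) × Matrix.ProjectiveSpecialLinearGroup (Fin 2) F))) :
    (∃ B : Base G, B.t = t ∧ Nonempty (Dih B)) ∨
      (∃ (B : Base G) (K : Type) (_ : Field K), B.t = t ∧ Nonempty (Elem B K)) := by
  obtain ⟨X⟩ := exists_emb t ht (F := F) hF hL
  have two : Cyc (X.S : Subgroup (Matrix.ProjectiveSpecialLinearGroup (Fin 2) F)) ∨ ∃ k : ℕ, 2 ≤ k ∧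
      Nonempty ((X.S : Subgroup (Matrix.ProjectiveSpecialLinearGroup (Fin 2) F)) ≃* DihedralGroup (2 ^ k)) := by
    by_cases h2 : (2 : F) = 0
    · exact Or.inl (psl_cyc_even h2 hF X.S)
    · exact psl_odd_cases h2 X.S
  rcases two with h | ⟨k, hk, ⟨e⟩⟩
  · obtain ⟨K, hK, hE⟩ := exists_elem_of_cyc X h
    exact Or.inr ⟨X.B, K, hK, X.Bt, hE⟩
  · exact Or.inl ⟨X.B, X.Bt, exists_dih_of_equiv X hk e⟩

end Cfsg.Agent.TimesPSL
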