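import Mathlib
import Cfsg.Agent.TimesPSL.Forms
import Cfsg.Agent.Invol.BaerSuzuki
import Cfsg.Agent.CITSolv.L27
import Cfsg.Agent.S0731

/-!
A group of affine maps of a finite field of characteristic two, without translations, transitive,
with point stabilizer of odd order consisting of semilinear maps and containing all scalars:
the field has eight elements and the group has order 168.
-/

set_option autoImplicit false
set_option linter.unusedSectionVars false
set_option linter.style.haveILetI false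

namespace Cfsg.Agent.TimesPSL

open Cfsg.Agent.SingerTwo (Gen)
open MulAction

/-- The hypotheses. -/
structure Aff (A K : Type*) [Group A] [Field K] [MulAction A K] (l : K) : Prop where
  hK : Gen K l
  big : 4 ≤ Nat.card K
  lin : ∀ (a : A) (x y : K), a • (x + y) + a • (0:K) = a • x + a • y
  inj : ∀ a : A, (∀ x : K, a • x = a • (0:K) + x) → a = 1
  tr : ∀ x : K, ∃ a : A, a • (0:K) = x
  stab : ∀ a : A, a • (0:K) = 0 → ∃ (ν : K) (σ : K ≃+* K), ∀ x, a • x = ν * σ x
  odd : Odd (Nat.card (MulAction.stabilizer A (0:K)))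
  exd : ∃ d : A, ∀ x, d • x = l * x

/-- The arithmetic of the degree. -/
theorem degree_three {p s : ℕ} (hp : 3 ≤ p) (hpo : Odd p) (hs : 1 ≤ s)
    (h : 2 * (2 * s * (2 ^ p * ((2 ^ p - 1) * p))) = 4 * (s * (s + 1)) * (2 * s * (2 * s + 1))) : p = 3 := by
  obtain ⟨k, rfl⟩ : ∃ k, p = k + 1 := ⟨p - 1, by omega⟩
  have h1 : 2 ^ k * ((2 ^ (k + 1) - 1) * (k + 1)) = s * (s + 1) * (2 * s + 1) := by
    have h2 : (8 * s) * (2 ^ k * ((2 ^ (k + 1) - 1) * (k + 1))) = (8 * s) * (s * (s + 1) * (2 * s + 1)) := by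
      rw [pow_succ] at h ⊢
      linarith [h]
    exact Nat.eq_of_mul_eq_mul_left (by omega) h2
  have hdvd : 2 ^ k ∣ s * (s + 1) :=
    (Nat.Coprime.pow_left k (Nat.coprime_two_left.2 (by exact odd_two_mul_add_one s))).dvd_of_dvd_mul_right
      ⟨_, h1.symm⟩
  have hle : 2 ^ k ≤ s + 1 := by
    rcases Nat.even_or_odd s with he | ho
    · have := (Nat.Coprime.pow_left k (Nat.coprime_two_left.2 he.add_one)).dvd_of_dvd_mul_right hdvd
      exact (Nat.le_of_dvd (by omega) this).trans (by omega)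
    · have := (Nat.Coprime.pow_left k (Nat.coprime_two_left.2 ho)).dvd_of_dvd_mul_left hdvd
      exact Nat.le_of_dvd (by omega) this
  have h3 : 2 ^ k * (2 ^ k - 1) * (2 ^ (k + 1) - 1) ≤ s * (s + 1) * (2 * s + 1) := by
    have := Nat.one_le_two_pow (n := k)
    rw [pow_succ]
    exact Nat.mul_le_mul (by
      rw [mul_comm s (s + 1)]
      exact Nat.mul_le_mul hle (by omega)) (by omega)
  have h4 : 2 ^ k - 1 ≤ k + 1 := by
    rw [← h1] at h3
    have hpos : 0 < 2 ^ k * (2 ^ (k + 1) - 1) := by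
      have := Nat.one_lt_two_pow (n := k + 1) (by omega)
      exact Nat.mul_pos (Nat.two_pow_pos k) (by omega)
    refine Nat.le_of_mul_le_mul_left ?_ hpos
    calc 2 ^ k * (2 ^ (k + 1) - 1) * (2 ^ k - 1) = 2 ^ k * (2 ^ k - 1) * (2 ^ (k + 1) - 1) := by ring
      _ ≤ 2 ^ k * ((2 ^ (k + 1) - 1) * (k + 1)) := h3
      _ = _ := by ring
  have hgrow : ∀ j, 2 ^ (j + 3) ≥ j + 8 := by
    intro j
    induction j with
    | zero => norm_num
    | succ j ih => rw [pow_succ]; omega
  by_contra hne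
  obtain ⟨t, ht⟩ := hpo
  obtain ⟨j, rfl⟩ : ∃ j, k = j + 4 := ⟨k - 4, by omega⟩
  have := hgrow (j + 1)
  rw [show j + 1 + 3 = j + 4 by ring] at this
  omega

/-- The automorphism group of the field is cyclic. -/
theorem cyclic_aut {K : Type*} [Field K] {l : K} (hK : Gen K l) : IsCyclic (K ≃+* K) := by
  haveI := hK.fin
  haveI := hK.charP
  haveI : Fact (Nat.Prime 2) := ⟨Nat.prime_two⟩
  letI := ZMod.algebra K 2
  let e : (K ≃ₐ[ZMod 2] K) →* (K ≃+* K) :=
    { toFun := fun f => f.toRingEquiv, map_one' := rfl, map_mul' := fun f g => rfl }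
  refine isCyclic_of_surjective e fun f => ?_
  refine ⟨AlgEquiv.ofRingEquiv (f := f) fun x => ?_, RingEquiv.ext fun x => rfl⟩
  have : (f : K →+* K).comp (algebraMap (ZMod 2) K) = algebraMap (ZMod 2) K := Subsingleton.elim _ _
  exact RingHom.congr_fun this x

/-- A cyclic group has one subgroup of each order. -/
theorem eq_of_card_cyclic {H : Type*} [Group H] [Finite H] [IsCyclic H] {X Y : Subgroup H}
    (h : Nat.card X = Nat.card Y) : X = Y := by
  classical
  haveI := Fintype.ofFinite H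
  have key : ∀ W : Subgroup H, (Finset.univ.filter fun a : H => a ∈ W) =
      Finset.univ.filter fun a : H => a ^ Nat.card W = 1 := by
    intro W
    refine Finset.eq_of_subset_of_card_le (fun a ha => ?_) ?_
    · simp only [Finset.mem_filter, Finset.mem_univ, true_and] at ha ⊢
      exact congrArg Subtype.val (pow_card_eq_one' (x := (⟨a, ha⟩ : W)))
    · refine (IsCyclic.card_pow_eq_one_le Nat.card_pos).trans (le_of_eq ?_)
      rw [Nat.card_eq_fintype_card, Fintype.card_subtype]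
  ext a
  have hX := Finset.ext_iff.1 (key X) a
  have hY := Finset.ext_iff.1 (key Y) a
  simp only [Finset.mem_filter, Finset.mem_univ, true_and] at hX hY
  rw [hX, hY, h]

namespace Aff

variable {A : Type*} [Group A] [Finite A] {K : Type*} [Field K] [MulAction A K] {l : K}

/-- The linear part. -/
def linp (a : A) (x : K) : K := a • x + a • (0:K)

variable (X : Aff A K l)
include X

theorem smul_eq (a : A) (x : K) : a • x = linp a x + a • (0:K) := by
  rw [linp, add_assoc, X.hK.add_self, add_zero]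

theorem linp_add (a : A) (x y : K) : linp a (x + y) = linp a x + linp a y := by
  simp only [linp]
  rw [add_add_add_comm, X.hK.add_self, add_zero]
  exact X.lin a x y

theorem linp_mul (a b : A) (x : K) : linp (a * b) x = linp a (linp b x) := by
  simp only [linp, mul_smul]
  exact (X.lin a (b • x) (b • (0:K))).symm

theorem linp_one (x : K) : linp (1 : A) x = x := by simp [linp]

theorem linp_zero (a : A) : linp a (0:K) = 0 := X.hK.add_self _

theorem eq_one_of_linp {a : A} (h : ∀ x : K, linp a x = x) : a = 1 :=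
  X.inj a fun x => by rw [X.smul_eq a x, h, add_comm]

theorem faithful {a : A} (h : ∀ x : K, a • x = x) : a = 1 :=
  X.inj a fun x => by rw [h, h, zero_add]

theorem exists_gen : ∃ d : A, (∀ x : K, d • x = l * x) ∧ (∀ (i : ℕ) (x : K), d ^ i • x = l ^ i * x) := by
  obtain ⟨d, hd⟩ := X.exd
  refine ⟨d, hd, fun i => ?_⟩
  induction i with
  | zero => intro x; simp
  | succ i ih => intro x; rw [pow_succ, mul_smul, hd, ih, pow_succ, mul_assoc]

/-- Two-fold transitivity. -/
theorem two_trans {x y x' y' : K} (h : x ≠ y) (h' : x' ≠ y') : ∃ a : A, a • x = x' ∧ a • y = y' := by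
  obtain ⟨d, hd, hpow⟩ := X.exists_gen
  have key : ∀ x y : K, x ≠ y → ∃ a : A, a • x = 0 ∧ a • y = 1 := by
    intro x y hxy
    obtain ⟨a, ha⟩ := X.tr x
    have hne : a⁻¹ • y ≠ 0 := fun e => hxy (by
      rw [← ha]; exact ((inv_smul_eq_iff).1 e).symm)
    obtain ⟨i, hi⟩ := X.hK.gen _ (inv_ne_zero hne)
    refine ⟨d ^ i * a⁻¹, ?_, ?_⟩
    · rw [mul_smul, hpow, show a⁻¹ • x = 0 from inv_smul_eq_iff.2 ha.symm, mul_zero]
    · rw [mul_smul, hpow, hi, inv_mul_cancel₀ hne]
  obtain ⟨a, ha1, ha2⟩ := key x y h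
  obtain ⟨b, hb1, hb2⟩ := key x' y' h'
  exact ⟨b⁻¹ * a, by rw [mul_smul, ha1, inv_smul_eq_iff, hb1],
    by rw [mul_smul, ha2, inv_smul_eq_iff, hb2]⟩

theorem pretransitive : IsPretransitive A K := ⟨fun x y => by
  obtain ⟨a, ha⟩ := X.tr x
  obtain ⟨b, hb⟩ := X.tr y
  exact ⟨b * a⁻¹, by rw [mul_smul, show a⁻¹ • x = 0 from inv_smul_eq_iff.2 ha.symm, hb]⟩⟩

theorem stab_odd (x : K) : Odd (Nat.card (stabilizer A x)) := by
  obtain ⟨a, ha⟩ := X.tr x
  rw [← ha, stabilizer_smul_eq_stabilizer_map_conj,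
    Subgroup.card_map_of_injective (MulAut.conj a).injective]
  exact X.odd

/-- Involutions fix no point. -/
theorem fpf {u : A} (hu : u * u = 1) (hu1 : u ≠ 1) (x : K) : u • x ≠ x := fun h => by
  refine hu1 ?_
  have h1 : (⟨u, h⟩ : stabilizer A x) ^ Nat.card (stabilizer A x) = 1 := pow_card_eq_one'
  obtain ⟨k, hk⟩ := X.stab_odd x
  rw [hk, pow_succ, pow_mul, sq, show (⟨u, h⟩ : stabilizer A x) * ⟨u, h⟩ = 1 from Subtype.ext hu,
    one_pow, one_mul] at h1
  exact congrArg Subtype.val h1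

/-- No normal two-subgroup. -/
theorem no_normal_two {N : Subgroup A} (hN : N.Normal) (h2 : IsPGroup 2 N) : N = ⊥ := by
  haveI := X.hK.fin
  haveI : Fact (Nat.Prime 2) := ⟨Nat.prime_two⟩
  letI : MulAction N K :=
    { smul := fun a x => linp (a : A) x
      one_smul := fun x => X.linp_one x
      mul_smul := fun a b x => X.linp_mul (a : A) (b : A) x }
  have hsm : ∀ (a : N) (x : K), a • x = linp (a : A) x := fun _ _ => rfl
  obtain ⟨d, hd, hpow⟩ := X.exists_gen
  obtain ⟨n, hn⟩ : ∃ n, Nat.card K = 2 ^ n := by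
    haveI := X.hK.charP
    have := Fintype.ofFinite K
    obtain ⟨n, -, hn⟩ := FiniteField.card K 2
    exact ⟨n, by rw [Nat.card_eq_fintype_card, hn]⟩
  have hq : 2 ∣ Nat.card K := hn ▸ dvd_pow_self 2 (fun h0 => by
    have := X.big; rw [hn, h0] at this; norm_num at this)
  have h0 : (0 : K) ∈ fixedPoints N K := fun a => by rw [hsm]; exact X.linp_zero _
  obtain ⟨x, hx, hx0⟩ := h2.exists_fixed_point_of_prime_dvd_card_of_fixed_point K hq h0
  have hlx : ∀ y : K, y ∈ fixedPoints N K → l * y ∈ fixedPoints N K := by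
    intro y hy a
    have ha := hy ⟨d⁻¹ * (a : A) * d, by simpa using hN.conj_mem _ a.2 d⁻¹⟩
    rw [hsm] at ha ⊢
    have hld : ∀ w : K, linp d w = l * w := fun w => by rw [linp, hd, hd, mul_zero, add_zero]
    have e : linp d (linp (d⁻¹ * (a : A) * d) y) = linp (a : A) (l * y) := by
      rw [← X.linp_mul, show d * (d⁻¹ * (a : A) * d) = (a : A) * d by group, X.linp_mul, hld]
    rw [← e, ha, hld]
  refine (Subgroup.eq_bot_iff_forall N).2 fun a ha => X.eq_one_of_linp fun y => ?_
  by_cases hy : y = 0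
  · rw [hy]; exact X.linp_zero a
  obtain ⟨i, hi⟩ := X.hK.gen (y / x) (div_ne_zero hy (Ne.symm hx0))
  have hall : ∀ j : ℕ, l ^ j * x ∈ fixedPoints N K := by
    intro j
    induction j with
    | zero => simpa using hx
    | succ j ih => rw [pow_succ', mul_assoc]; exact hlx _ ih
  have := hall i ⟨a, ha⟩
  rwa [hsm, hi, div_mul_cancel₀ _ (Ne.symm hx0)] at this

/-- A pointwise stabilizer of two points is cyclic. -/
theorem pair_cyclic {x y : K} (h : x ≠ y) : IsCyclic ↥(stabilizer A x ⊓ stabilizer A y) := by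
  obtain ⟨a, ha0, ha1⟩ := X.two_trans h (zero_ne_one (α := K))
  have hco : ∀ b : ↥(stabilizer A x ⊓ stabilizer A y),
      ∃ σ : K ≃+* K, ∀ w, (a * b * a⁻¹) • w = σ w := by
    intro b
    have h0 : (a * b * a⁻¹) • (0:K) = 0 := by
      rw [mul_smul, mul_smul, show a⁻¹ • (0:K) = x from inv_smul_eq_iff.2 ha0.symm,
        show (b : A) • x = x from b.2.1, ha0]
    have h1 : (a * b * a⁻¹) • (1:K) = 1 := by
      rw [mul_smul, mul_smul, show a⁻¹ • (1:K) = y from inv_smul_eq_iff.2 ha1.symm,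
        show (b : A) • y = y from b.2.2, ha1]
    obtain ⟨ν, σ, hσ⟩ := X.stab _ h0
    have := hσ 1
    rw [h1, map_one, mul_one] at this
    exact ⟨σ, fun w => by rw [hσ, ← this, one_mul]⟩
  choose φ hφ using hco
  haveI := X.hK.fin
  haveI := cyclic_aut X.hK
  refine isCyclic_of_injective (MonoidHom.mk' φ fun b b' => RingEquiv.ext fun w => ?_) fun b b' e => ?_
  · rw [RingAut.mul_apply, ← hφ, ← hφ, ← hφ, ← mul_smul]
    congr 1
    simp only [Subgroup.coe_mul]
    group
  · refine Subtype.ext (mul_left_cancel (a := a) (mul_right_cancel (b := a⁻¹)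
      (inv_mul_eq_one.1 (X.faithful (a := (a * (b : A) * a⁻¹)⁻¹ * (a * (b' : A) * a⁻¹)) fun w => ?_))))
    have e' : φ b = φ b' := e
    rw [mul_smul, hφ b', ← e', ← hφ b, inv_smul_smul]

theorem pair_card {x y : K} (h : x ≠ y) :
    Nat.card ↥(stabilizer A x ⊓ stabilizer A y) = Nat.card ↥(stabilizer A (0:K) ⊓ stabilizer A (1:K)) := by
  obtain ⟨a, ha0, ha1⟩ := X.two_trans h (zero_ne_one (α := K))
  rw [← ha0, ← ha1, stabilizer_smul_eq_stabilizer_map_conj, stabilizer_smul_eq_stabilizer_map_conj,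
    ← Subgroup.map_inf _ _ _ (MulAut.conj a).injective,
    Subgroup.card_map_of_injective (MulAut.conj a).injective]

theorem card_stab : Nat.card (stabilizer A (0:K)) =
    (Nat.card K - 1) * Nat.card ↥(stabilizer A (0:K) ⊓ stabilizer A (1:K)) := by
  haveI := X.hK.fin
  have h := (stabilizer (stabilizer A (0:K)) (1:K)).card_mul_index
  have hs : stabilizer (stabilizer A (0:K)) (1:K) =
      (stabilizer A (0:K) ⊓ stabilizer A (1:K)).subgroupOf (stabilizer A (0:K)) := by
    ext a
    rw [Subgroup.mem_subgroupOf, Subgroup.mem_inf, mem_stabilizer_iff, mem_stabilizer_iff, mem_stabilizer_iff]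
    exact ⟨fun e => ⟨a.2, e⟩, fun e => e.2⟩
  have ho : orbit (stabilizer A (0:K)) (1:K) = ({0}ᶜ : Set K) := by
    ext y
    constructor
    · rintro ⟨a, rfl⟩ h0
      have h0' : (a : A) • (1:K) = 0 := h0
      exact one_ne_zero ((smul_left_cancel (a : A) (h0'.trans (mem_stabilizer_iff.1 a.2).symm)))
    · intro hy
      obtain ⟨a, ha0, ha1⟩ := X.two_trans (zero_ne_one (α := K)) (Ne.symm (Set.mem_compl_singleton_iff.1 hy))
      exact ⟨⟨a, ha0⟩, ha1⟩
  rw [index_stabilizer, ho, hs,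
    Nat.card_congr (Subgroup.subgroupOfEquivOfLe inf_le_left).toEquiv, Set.ncard_compl,
    Set.ncard_singleton] at h
  rw [← h, mul_comm]

theorem card_A : Nat.card A =
    Nat.card K * ((Nat.card K - 1) * Nat.card ↥(stabilizer A (0:K) ⊓ stabilizer A (1:K))) := by
  haveI := X.pretransitive
  rw [← X.card_stab, ← (stabilizer A (0:K)).index_mul_card, index_stabilizer_of_transitive]

/-- A Sylow two-subgroup is regular. -/
theorem sylow_regular (P : Sylow 2 A) : Nat.card P = Nat.card K ∧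
    ∀ x y : K, ∃ p ∈ (P : Subgroup A), p • x = y := by
  haveI := X.hK.fin
  haveI : Fact (Nat.Prime 2) := ⟨Nat.prime_two⟩
  have hP : Nat.card P = Nat.card K := by
    obtain ⟨k, hk⟩ := IsPGroup.iff_card.1 P.2
    have hm := (P : Subgroup A).card_mul_index
    have hA := X.card_A
    obtain ⟨n, -, hn⟩ : ∃ n : ℕ, True ∧ Nat.card K = 2 ^ n := by
      haveI := X.hK.charP
      have := Fintype.ofFinite K
      obtain ⟨n, -, hn⟩ := FiniteField.card K 2
      exact ⟨n, trivial, by rw [Nat.card_eq_fintype_card, hn]⟩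
    have hodd := X.odd
    rw [X.card_stab] at hodd
    rw [hA, hk, hn] at hm
    rw [hn] at hodd
    have h1 : ¬ 2 ∣ (P : Subgroup A).index := P.not_dvd_index
    rw [hk, hn]
    refine Nat.dvd_antisymm ?_ ?_
    · exact (Nat.Coprime.pow_left k (Nat.coprime_two_left.2 hodd)).dvd_of_dvd_mul_right ⟨_, hm.symm⟩
    · exact ((Nat.coprime_two_left.2 (Nat.odd_iff.2 (Nat.two_dvd_ne_zero.1 h1))).pow_left n).dvd_of_dvd_mul_right
        ⟨_, hm⟩
  refine ⟨hP, fun x y => ?_⟩
  have hinj : Function.Injective fun p : P => (p : A) • x := fun p p' e => by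
    have hs : (p'⁻¹ * p : P).1 ∈ stabilizer A x := by
      show ((p' : A)⁻¹ * (p : A)) • x = x
      rw [mul_smul, inv_smul_eq_iff]; exact e
    have h1 : Nat.Coprime (Nat.card P) (Nat.card (stabilizer A x)) := by
      obtain ⟨k, hk⟩ := IsPGroup.iff_card.1 P.2
      rw [hk]
      exact (Nat.coprime_two_left.2 (X.stab_odd x)).pow_left k
    have h2 : ((p'⁻¹ * p : P).1) = 1 := orderOf_eq_one_iff.1
      (Nat.eq_one_of_dvd_coprimes h1 (Subgroup.orderOf_dvd_natCard _ (p'⁻¹ * p : P).2)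
        (Subgroup.orderOf_dvd_natCard _ hs))
    exact (inv_mul_eq_one.1 (Subtype.ext h2 : p'⁻¹ * p = 1)).symm
  obtain ⟨p, hp⟩ := ((Nat.bijective_iff_injective_and_card _).2 ⟨hinj, hP⟩).2 y
  exact ⟨p, p.2, hp⟩

/-- The involutions swapping a pair. -/
def swaps (A : Type*) [Group A] [MulAction A K] (x y : K) : Type _ :=
  {u : A // u ≠ 1 ∧ u * u = 1 ∧ u • x = y}

omit X in
theorem swap_back {u : A} (hu : u * u = 1) {x y : K} (h : u • x = y) : u • y = x := by
  rw [← h, ← mul_smul, hu, one_smul]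

theorem swaps_card {x y : K} (h : x ≠ y) : Nat.card (swaps A x y) = Nat.card (swaps A (0:K) (1:K)) := by
  obtain ⟨a, ha0, ha1⟩ := X.two_trans h (zero_ne_one (α := K))
  refine Nat.card_congr ?_
  refine
    { toFun := fun u => ⟨a * u.1 * a⁻¹, fun e => u.2.1 (conj_eq_one_iff.1 e), ?_, ?_⟩
      invFun := fun u => ⟨a⁻¹ * u.1 * a, fun e => u.2.1 ?_, ?_, ?_⟩
      left_inv := fun u => Subtype.ext (by show a⁻¹ * (a * u.1 * a⁻¹) * a = u.1; group)
      right_inv := fun u => Subtype.ext (by show a * (a⁻¹ * u.1 * a) * a⁻¹ = u.1; group) }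
  · rw [show a * u.1 * a⁻¹ * (a * u.1 * a⁻¹) = a * (u.1 * u.1) * a⁻¹ by group, u.2.2.1, mul_one, mul_inv_cancel]
  · rw [mul_smul, mul_smul, show a⁻¹ • (0:K) = x from inv_smul_eq_iff.2 ha0.symm, u.2.2.2, ha1]
  · calc u.1 = a * (a⁻¹ * u.1 * a) * a⁻¹ := by group
      _ = 1 := by rw [e, mul_one, mul_inv_cancel]
  · rw [show a⁻¹ * u.1 * a * (a⁻¹ * u.1 * a) = a⁻¹ * (u.1 * u.1) * a by group, u.2.2.1, mul_one, inv_mul_cancel]
  · rw [mul_smul, mul_smul, ha0, u.2.2.2, inv_smul_eq_iff, ha1]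

theorem invol_card : Nat.card {u : A // u ≠ 1 ∧ u * u = 1} =
    (Nat.card K - 1) * Nat.card (swaps A (0:K) (1:K)) := by
  haveI := X.hK.fin
  have := Fintype.ofFinite K
  classical
  let e : {u : A // u ≠ 1 ∧ u * u = 1} ≃ Σ y : {y : K // y ≠ 0}, swaps A (0:K) y.1 :=
    { toFun := fun u => ⟨⟨u.1 • (0:K), X.fpf u.2.2 u.2.1 0⟩, ⟨u.1, u.2.1, u.2.2, rfl⟩⟩
      invFun := fun p => ⟨p.2.1, p.2.2.1, p.2.2.2.1⟩
      left_inv := fun u => rfl
      right_inv := fun p => by
        obtain ⟨⟨y, hy⟩, ⟨u, h1, h2, h3⟩⟩ := p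
        obtain rfl : u • (0:K) = y := h3
        rfl }
  haveI : ∀ y : {y : K // y ≠ 0}, Finite (swaps A (0:K) y.1) := fun y => Subtype.finite
  rw [Nat.card_congr e, Nat.card_sigma, Finset.sum_congr rfl fun y _ => X.swaps_card (Ne.symm y.2),
    Finset.sum_const, Finset.card_univ, smul_eq_mul, Fintype.card_subtype_compl, Fintype.card_subtype_eq,
    Nat.card_eq_fintype_card (α := K)]

/-- The structure of a pair stabilizer under a swapping involution. -/
theorem swap_decomp {x y : K} (h : x ≠ y) {u : A} (hu1 : u ≠ 1) (hu : u * u = 1) (huxy : u • x = y) :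
    ∃ c : ℕ, Nat.card ↥(stabilizer A (0:K) ⊓ stabilizer A (1:K)) = c * Nat.card (swaps A (0:K) (1:K)) ∧
      Nat.Coprime c (Nat.card (swaps A (0:K) (1:K))) ∧
      Nat.card ↥(stabilizer A x ⊓ Subgroup.centralizer ({u} : Set A)) = c ∧
      ∀ b : A, b • x = x → b • y = y → u * b * u = b⁻¹ → orderOf b ∣ Nat.card (swaps A (0:K) (1:K)) := by
  set S := stabilizer A x ⊓ stabilizer A y with hS
  haveI hcyc : IsCyclic S := X.pair_cyclic h
  letI := hcyc.commGroup
  have huyx : u • y = x := swap_back hu huxy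
  have hconj : ∀ b ∈ S, u * b * u ∈ S := fun b hb => by
    constructor
    · show (u * b * u) • x = x
      rw [mul_smul, mul_smul, huxy, show b • y = y from hb.2, huyx]
    · show (u * b * u) • y = y
      rw [mul_smul, mul_smul, huyx, show b • x = x from hb.1, huxy]
  let ι : S →* S := MonoidHom.mk' (fun b => ⟨u * (b : A) * u, hconj b b.2⟩) fun b b' => Subtype.ext (by
    show u * ((b : A) * (b' : A)) * u = u * (b : A) * u * (u * (b' : A) * u)
    rw [show u * (b : A) * u * (u * (b' : A) * u) = u * (b : A) * (u * u) * (b' : A) * u by group, hu]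
    group)
  have hι : ∀ b, ι (ι b) = b := fun b => Subtype.ext (by
    show u * (u * (b : A) * u) * u = b
    rw [show u * (u * (b : A) * u) * u = u * u * b * (u * u) by group, hu, one_mul, mul_one])
  let C : Subgroup S := { carrier := {b | ι b = b}, one_mem' := map_one ι
                          mul_mem' := fun {a b} ha hb => by
                            show ι (a * b) = a * b
                            rw [map_mul, show ι a = a from ha, show ι b = b from hb]
                          inv_mem' := fun {a} ha => by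
                            show ι a⁻¹ = a⁻¹
                            rw [map_inv, show ι a = a from ha] }
  let I : Subgroup S := { carrier := {b | ι b = b⁻¹}, one_mem' := by show ι 1 = 1⁻¹; rw [map_one, inv_one]
                          mul_mem' := fun {a b} ha hb => by
                            show ι (a * b) = (a * b)⁻¹
                            rw [map_mul, show ι a = a⁻¹ from ha, show ι b = b⁻¹ from hb, mul_inv]
                          inv_mem' := fun {a} ha => by
                            show ι a⁻¹ = a⁻¹⁻¹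
                            rw [map_inv, show ι a = a⁻¹ from ha] }
  have hodd : Odd (Nat.card S) := (X.stab_odd x).of_dvd_nat (Subgroup.card_dvd_of_le inf_le_left)
  have hsq : ∀ b b' : S, b * b = b' * b' → b = b' := by
    intro b b' e
    have h1 : (b * b'⁻¹) * (b * b'⁻¹) = 1 := by
      rw [mul_mul_mul_comm, e, mul_mul_mul_comm, mul_inv_cancel, one_mul]
    obtain ⟨k, hk⟩ := hodd
    have h2 := pow_card_eq_one' (x := b * b'⁻¹)
    rw [hk, pow_succ, pow_mul, sq, h1, one_pow, one_mul] at h2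
    exact mul_inv_eq_one.1 h2
  have hdis : Disjoint C I := by
    refine disjoint_iff.2 ((Subgroup.eq_bot_iff_forall _).2 fun b hb => ?_)
    refine hsq b 1 ?_
    have h1 : ι b = b := hb.1
    have h2 : ι b = b⁻¹ := hb.2
    rw [one_mul]
    nth_rewrite 1 [← h1]
    rw [h2, inv_mul_cancel]
  have hprod : Nat.card C * Nat.card I = Nat.card S := by
    refine le_antisymm ?_ ?_
    · rw [← Nat.card_prod]
      exact Nat.card_le_card_of_injective (fun p : C × I => (p.1 : S) * (p.2 : S))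
        (Subgroup.mul_injective_of_disjoint hdis)
    · rw [← Nat.card_prod]
      refine Nat.card_le_card_of_injective (fun b : S => ((⟨b * ι b, ?_⟩ : C), (⟨b * (ι b)⁻¹, ?_⟩ : I))) ?_
      · show ι (b * ι b) = b * ι b
        rw [map_mul, hι, mul_comm]
      · show ι (b * (ι b)⁻¹) = (b * (ι b)⁻¹)⁻¹
        rw [map_mul, map_inv, hι, mul_inv, inv_inv, mul_comm]
      · intro b b' e
        simp only [Prod.mk.injEq, Subtype.mk.injEq] at e
        refine hsq b b' ?_
        have := congrArg₂ (· * ·) e.1 e.2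
        simpa [mul_comm, mul_left_comm, mul_assoc] using this
  have hco : Nat.Coprime (Nat.card C) (Nat.card I) := by
    refine Nat.coprime_of_dvd fun k hk hk1 hk2 => ?_
    haveI := Fact.mk hk
    obtain ⟨a, ha⟩ := exists_prime_orderOf_dvd_card' (G := C) k hk1
    obtain ⟨b, hb⟩ := exists_prime_orderOf_dvd_card' (G := I) k hk2
    rw [← Subgroup.orderOf_coe] at ha hb
    have he : Subgroup.zpowers (a : S) = Subgroup.zpowers (b : S) :=
      eq_of_card_cyclic (by rw [Nat.card_zpowers, Nat.card_zpowers, ha, hb])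
    have hb1 : (a : S) = 1 := by
      have : (a : S) ∈ I := (Subgroup.zpowers_le.2 b.2) (he ▸ Subgroup.mem_zpowers _)
      have := hdis.le_bot ⟨a.2, this⟩
      exact Subgroup.mem_bot.1 this
    rw [hb1, orderOf_one] at ha
    exact hk.one_lt.ne ha
  have hI : Nat.card I = Nat.card (swaps A (0:K) (1:K)) := by
    rw [← X.swaps_card h]
    have hmemS : ∀ v : swaps A x y, u * v.1 ∈ S := fun v => by
      refine ⟨?_, ?_⟩
      · show (u * v.1) • x = x
        rw [mul_smul, v.2.2.2, huyx]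
      · show (u * v.1) • y = y
        rw [mul_smul, swap_back v.2.2.1 v.2.2.2, huxy]
    refine Nat.card_congr
      { toFun := fun b => ⟨u * ((b : S) : A), ?_, ?_, ?_⟩
        invFun := fun v => ⟨⟨u * v.1, hmemS v⟩, ?_⟩
        left_inv := fun b => by
          refine Subtype.ext (Subtype.ext ?_)
          show u * (u * ((b : S) : A)) = _
          rw [← mul_assoc, hu, one_mul]
        right_inv := fun v => by
          refine Subtype.ext ?_
          show u * (u * v.1) = v.1
          rw [← mul_assoc, hu, one_mul] }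
    · intro e
      have h1 : ((b : S) : A) • x = x := (b : S).2.1
      have := congrArg (· • x) e
      simp only [mul_smul, h1, one_smul, huxy] at this
      exact h this.symm
    · have hb : u * ((b : S) : A) * u = ((b : S) : A)⁻¹ := congrArg Subtype.val b.2
      rw [← mul_assoc, hb, inv_mul_cancel]
    · rw [mul_smul, show ((b : S) : A) • x = x from (b : S).2.1, huxy]
    · show ι _ = _
      refine Subtype.ext ?_
      show u * (u * v.1) * u = (u * v.1)⁻¹
      rw [mul_inv_rev, inv_eq_of_mul_eq_one_right hu, inv_eq_of_mul_eq_one_right v.2.2.1,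
        ← mul_assoc u u, hu, one_mul]
  refine ⟨Nat.card C, ?_, hI ▸ hco, ?_, ?_⟩
  · rw [← hI, hprod, X.pair_card h]
  · have hmap : C.map S.subtype = stabilizer A x ⊓ Subgroup.centralizer ({u} : Set A) := by
      ext b
      constructor
      · rintro ⟨b, hb, rfl⟩
        refine ⟨b.2.1, Subgroup.mem_centralizer_singleton_iff.2 ?_⟩
        have hb' : u * (b : A) * u = (b : A) := congrArg Subtype.val hb
        show (b : A) * u = u * (b : A)
        nth_rewrite 1 [← hb']
        rw [mul_assoc (u * _) u u, hu, mul_one]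
      · intro hb
        have hc := Subgroup.mem_centralizer_singleton_iff.1 hb.2
        have hby : b • y = y := by
          rw [← huxy, ← mul_smul, hc, mul_smul, show b • x = x from hb.1]
        refine ⟨⟨b, hb.1, hby⟩, Subtype.ext ?_, rfl⟩
        show u * b * u = b
        rw [← hc, mul_assoc, hu, mul_one]
    rw [← hmap, Subgroup.card_map_of_injective S.subtype_injective]
  · intro b hbx hby hb
    rw [← hI]
    have : (⟨b, hbx, hby⟩ : S) ∈ I := Subtype.ext hb
    rw [show orderOf b = orderOf (⟨b, hbx, hby⟩ : S) from (Subgroup.orderOf_mk b _).symm]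
    exact Subgroup.orderOf_dvd_natCard I this

/-- A central involution of a Sylow subgroup is conjugate to every involution. -/
theorem one_class (P : Sylow 2 A) : ∃ z ∈ (P : Subgroup A), z ≠ 1 ∧ z * z = 1 ∧
    (∀ p ∈ (P : Subgroup A), p * z = z * p) ∧ (∀ v : A, v ≠ 1 → v * v = 1 → IsConj z v) ∧
    ∀ p : ℕ, p.Prime → Odd p → p ∣ Nat.card (swaps A (0:K) (1:K)) →
      ¬ p ∣ Nat.card (Subgroup.centralizer ({z} : Set A)) := by
  haveI := X.hK.fin
  haveI : Fact (Nat.Prime 2) := ⟨Nat.prime_two⟩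
  obtain ⟨hPc, hPt⟩ := X.sylow_regular P
  have hb := X.big
  haveI : Nontrivial P := (Finite.one_lt_card_iff_nontrivial).1 (by rw [hPc]; omega)
  haveI := P.2.center_nontrivial
  obtain ⟨k, hk⟩ := IsPGroup.iff_card.1 (P.2.to_subgroup (Subgroup.center P))
  have hk0 : k ≠ 0 := by
    rintro rfl
    have : 1 < Nat.card (Subgroup.center P) := Finite.one_lt_card
    rw [hk, pow_zero] at this
    omega
  obtain ⟨z', hz'⟩ := exists_prime_orderOf_dvd_card' (G := Subgroup.center P) 2 (hk ▸ dvd_pow_self 2 hk0)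
  rw [← Subgroup.orderOf_coe, ← Subgroup.orderOf_coe] at hz'
  set z : A := ((z' : P) : A) with hz
  have hz2 : z * z = 1 := by rw [← sq, ← hz', pow_orderOf_eq_one]
  have hz1 : z ≠ 1 := fun e => by rw [e, orderOf_one] at hz'; omega
  have hcen : ∀ p ∈ (P : Subgroup A), p * z = z * p := fun p hp =>
    congrArg Subtype.val (Subgroup.mem_center_iff.1 z'.2 ⟨p, hp⟩)
  have hne : (0:K) ≠ z • (0:K) := Ne.symm (X.fpf hz2 hz1 0)
  obtain ⟨c, hf, hco, hc, -⟩ := X.swap_decomp hne hz1 hz2 rfl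
  haveI : IsPretransitive (Subgroup.centralizer ({z} : Set A)) K := ⟨fun x y => by
    obtain ⟨p, hp, hpxy⟩ := hPt x y
    exact ⟨⟨p, Subgroup.mem_centralizer_singleton_iff.2 (hcen p hp)⟩, hpxy⟩⟩
  have hcard : Nat.card (Subgroup.centralizer ({z} : Set A)) = Nat.card K * c := by
    rw [← (stabilizer (Subgroup.centralizer ({z} : Set A)) (0:K)).index_mul_card,
      index_stabilizer_of_transitive]
    congr 1
    rw [← hc]
    exact Nat.card_congr
      { toFun := fun a => ⟨(a.1 : A), a.2, a.1.2⟩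
        invFun := fun a => ⟨⟨(a : A), a.2.2⟩, a.2.1⟩
        left_inv := fun a => rfl
        right_inv := fun a => rfl }
  refine ⟨z, (z' : P).2, hz1, hz2, hcen, fun v hv1 hv2 => ?_, fun p hp hpo hpg hpc => ?_⟩
  · let F : A ⧸ Subgroup.centralizer ({z} : Set A) → {u : A // u ≠ 1 ∧ u * u = 1} := fun q =>
      Quotient.liftOn' q (fun a => ⟨a * z * a⁻¹, fun e => hz1 (conj_eq_one_iff.1 e), by
        rw [show a * z * a⁻¹ * (a * z * a⁻¹) = a * (z * z) * a⁻¹ by group, hz2, mul_one, mul_inv_cancel]⟩)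
        fun a b hab => Subtype.ext (by
          have h1 := Subgroup.mem_centralizer_singleton_iff.1 (QuotientGroup.leftRel_apply.1 hab)
          show a * z * a⁻¹ = b * z * b⁻¹
          calc a * z * a⁻¹ = a * (z * (a⁻¹ * b)) * b⁻¹ := by group
            _ = b * z * b⁻¹ := by rw [← h1]; group)
    have hFi : Function.Injective F := by
      intro q q'
      induction q using QuotientGroup.induction_on with
      | H a =>
      induction q' using QuotientGroup.induction_on with
      | H b =>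
      intro e
      have e' : a * z * a⁻¹ = b * z * b⁻¹ := congrArg Subtype.val e
      refine QuotientGroup.eq.2 (Subgroup.mem_centralizer_singleton_iff.2 ?_)
      calc a⁻¹ * b * z = a⁻¹ * (b * z * b⁻¹) * b := by group
        _ = z * (a⁻¹ * b) := by rw [← e']; group
    have hidx : Nat.card (A ⧸ Subgroup.centralizer ({z} : Set A)) = Nat.card {u : A // u ≠ 1 ∧ u * u = 1} := by
      have hm := (Subgroup.centralizer ({z} : Set A)).card_mul_index
      rw [hcard, X.card_A, hf] at hm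
      rw [← Subgroup.index_eq_card, X.invol_card]
      refine Nat.eq_of_mul_eq_mul_left (show 0 < Nat.card K * c by
        have : 0 < c := Nat.pos_of_ne_zero fun e => by
          rw [e, Nat.mul_zero] at hcard
          exact Nat.card_pos.ne' hcard
        positivity) ?_
      rw [hm]; ring
    obtain ⟨q, hq⟩ := ((Nat.bijective_iff_injective_and_card F).2 ⟨hFi, hidx⟩).2 ⟨v, hv1, hv2⟩
    induction q using QuotientGroup.induction_on with
    | H a => exact isConj_iff.2 ⟨a, congrArg Subtype.val hq⟩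
  · rw [hcard] at hpc
    rcases hp.dvd_mul.1 hpc with h1 | h1
    · haveI := X.hK.charP
      have := Fintype.ofFinite K
      obtain ⟨n, -, hn⟩ := FiniteField.card K 2
      rw [Nat.card_eq_fintype_card, hn] at h1
      have := (Nat.prime_dvd_prime_iff_eq hp Nat.prime_two).1 (hp.dvd_of_dvd_pow h1)
      rw [this] at hpo
      exact absurd hpo (by decide)
    · exact hp.one_lt.ne' (Nat.eq_one_of_dvd_coprimes hco h1 hpg)

/-- A power of prime order of an element inverted by an involution. -/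
theorem exists_inverted_prime : ∃ (p : ℕ) (x v : A), p.Prime ∧ Odd p ∧ orderOf x = p ∧ v ≠ 1 ∧
    v * v = 1 ∧ v * x * v = x⁻¹ := by
  haveI : Fact (Nat.Prime 2) := ⟨Nat.prime_two⟩
  obtain ⟨P⟩ : Nonempty (Sylow 2 A) := inferInstance
  obtain ⟨z, -, hz1, hz2, -, -, -⟩ := X.one_class P
  have ho : orderOf z = 2 := orderOf_eq_prime (by rw [sq, hz2]) hz1
  obtain ⟨g, y, hy1, hyo, hinv, -⟩ := Invol.exists_inverted_odd ho fun N hN h2 hzN =>
    hz1 (by rw [X.no_normal_two hN h2, Subgroup.mem_bot] at hzN; exact hzN)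
  obtain ⟨p, hp, hpy⟩ := Nat.exists_prime_and_dvd (show orderOf y ≠ 1 from fun e => hy1 (orderOf_eq_one_iff.1 e))
  refine ⟨p, y ^ (orderOf y / p), z, hp, hyo.of_dvd_nat hpy, ?_, hz1, hz2, ?_⟩
  · exact orderOf_pow_orderOf_div (orderOf_pos y).ne' hpy
  · rw [inv_eq_of_mul_eq_one_right hz2] at hinv
    have := conj_pow (i := orderOf y / p) (a := z) (b := y)
    rw [inv_eq_of_mul_eq_one_right hz2, hinv, inv_pow] at this
    exact this.symm

/-- The field has order `2 ^ p`, `p` an odd prime, and a pair stabilizer has order `p` and moves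
every other point. -/
theorem prime_degree : ∃ p : ℕ, p.Prime ∧ Odd p ∧ Nat.card K = 2 ^ p ∧
    Nat.card ↥(stabilizer A (0:K) ⊓ stabilizer A (1:K)) = p ∧
    ∀ (a : A) (x y w : K), x ≠ y → y ≠ w → x ≠ w → a • x = x → a • y = y → a • w = w → a = 1 := by
  classical
  haveI := X.hK.fin
  haveI := X.hK.charP
  have hFK := Fintype.ofFinite K
  haveI : Fact (Nat.Prime 2) := ⟨Nat.prime_two⟩
  obtain ⟨n, hn0, hn⟩ := FiniteField.card K 2
  rw [← Nat.card_eq_fintype_card] at hn
  obtain ⟨p, x, v, hp, hpo, hx, hv1, hv2, hinv⟩ := X.exists_inverted_prime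
  haveI := Fact.mk hp
  have hp2 : p ≠ 2 := fun e => by rw [e] at hpo; exact absurd hpo (by decide)
  have hpg : IsPGroup p (Subgroup.zpowers x) := IsPGroup.of_card (n := 1) (by rw [Nat.card_zpowers, hx, pow_one])
  obtain ⟨P0, hP0⟩ : (fixedPoints (Subgroup.zpowers x) K).Nonempty :=
    hpg.nonempty_fixed_point_of_prime_not_dvd_card K (by
      rw [hn]
      exact fun h => hp2 ((Nat.prime_dvd_prime_iff_eq hp Nat.prime_two).1 (hp.dvd_of_dvd_pow h)))
  have hx0 : x • P0 = P0 := hP0 ⟨x, Subgroup.mem_zpowers x⟩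
  have hxv : x • (v • P0) = v • P0 := by
    have : x = v * x⁻¹ * v := by
      rw [← hinv, show v * (v * x * v) * v = v * v * x * (v * v) by group, hv2, one_mul, mul_one]
    conv_lhs => rw [this]
    rw [mul_smul, mul_smul, ← mul_smul v v, hv2, one_smul, show x⁻¹ • P0 = P0 from inv_smul_eq_iff.2 hx0.symm]
  have hne : P0 ≠ v • P0 := Ne.symm (X.fpf hv2 hv1 P0)
  obtain ⟨c, hf, hco, -, hdiv⟩ := X.swap_decomp hne hv1 hv2 rfl
  have hpdvd : p ∣ Nat.card (swaps A (0:K) (1:K)) := hx ▸ hdiv x hx0 hxv hinv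
  have hpf : p ∣ Nat.card ↥(stabilizer A (0:K) ⊓ stabilizer A (1:K)) := hf ▸ hpdvd.mul_left c
  -- the centraliser of `x` has odd order
  have hCodd : Odd (Nat.card (Subgroup.centralizer ({x} : Set A))) := by
    by_contra he
    obtain ⟨w', hw'⟩ := exists_prime_orderOf_dvd_card' (G := Subgroup.centralizer ({x} : Set A)) 2
      (Nat.not_odd_iff_even.1 he).two_dvd
    rw [← Subgroup.orderOf_coe] at hw'
    set w : A := (w' : A)
    have hw2 : w * w = 1 := by rw [← sq, ← hw', pow_orderOf_eq_one]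
    have hw1 : w ≠ 1 := fun e => by rw [e, orderOf_one] at hw'; omega
    obtain ⟨P⟩ : Nonempty (Sylow 2 A) := inferInstance
    obtain ⟨z, -, -, -, -, hconj, hnd⟩ := X.one_class P
    obtain ⟨a, ha⟩ := isConj_iff.1 (hconj w hw1 hw2)
    refine hnd p hp hpo hpdvd ?_
    have hmem : a⁻¹ * x * a ∈ Subgroup.centralizer ({z} : Set A) := by
      rw [Subgroup.mem_centralizer_singleton_iff]
      have hwx : w * x = x * w := Subgroup.mem_centralizer_singleton_iff.1 w'.2
      rw [← ha] at hwx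
      calc a⁻¹ * x * a * z = a⁻¹ * (x * (a * z * a⁻¹)) * a := by group
        _ = z * (a⁻¹ * x * a) := by rw [← hwx]; group
    have := Subgroup.orderOf_dvd_natCard _ hmem
    rwa [show a⁻¹ * x * a = a⁻¹ * x * (a⁻¹)⁻¹ by group, (Invol.orderOf_conj), hx] at this
  -- the normaliser is two-transitive on the fixed points
  set Φ : Set K := {y | x • y = y} with hΦ
  set N := Subgroup.normalizer (Subgroup.zpowers x : Set A) with hN
  have hNΦ : ∀ a ∈ N, ∀ y ∈ Φ, a • y ∈ Φ := by
    intro a ha y hy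
    have h1 : a⁻¹ * x * a ∈ Subgroup.zpowers x := by
      have := (Subgroup.mem_normalizer_iff''.1 ha x).1 (Subgroup.mem_zpowers x)
      exact this
    obtain ⟨i, hi⟩ := h1
    have hyi : (a⁻¹ * x * a) • y = y := by
      have hz : x ^ i ∈ stabilizer A y := zpow_mem (show x ∈ stabilizer A y from hy) i
      rw [← show x ^ i = a⁻¹ * x * a from hi]
      exact hz
    show x • a • y = a • y
    rwa [mul_smul, mul_smul, inv_smul_eq_iff] at hyi
  have h2t : ∀ y₁ y₂ y₁' y₂', y₁ ∈ Φ → y₂ ∈ Φ → y₁' ∈ Φ → y₂' ∈ Φ → y₁ ≠ y₂ → y₁' ≠ y₂' →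
      ∃ a ∈ N, a • y₁ = y₁' ∧ a • y₂ = y₂' := by
    intro y₁ y₂ y₁' y₂' h1 h2 h1' h2' hne hne'
    obtain ⟨a, ha1, ha2⟩ := X.two_trans hne hne'
    refine ⟨a, ?_, ha1, ha2⟩
    haveI := X.pair_cyclic hne'
    have hxS : x ∈ stabilizer A y₁' ⊓ stabilizer A y₂' := ⟨h1', h2'⟩
    have haS : a * x * a⁻¹ ∈ stabilizer A y₁' ⊓ stabilizer A y₂' := by
      constructor
      · show (a * x * a⁻¹) • y₁' = y₁'
        rw [mul_smul, mul_smul, ← ha1, inv_smul_smul, show x • y₁ = y₁ from h1]
      · show (a * x * a⁻¹) • y₂' = y₂'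
        rw [mul_smul, mul_smul, ← ha2, inv_smul_smul, show x • y₂ = y₂ from h2]
    have he : Subgroup.zpowers (⟨x, hxS⟩ : ↥(stabilizer A y₁' ⊓ stabilizer A y₂')) = Subgroup.zpowers ⟨_, haS⟩ :=
      eq_of_card_cyclic (by
        rw [Nat.card_zpowers, Nat.card_zpowers, Subgroup.orderOf_mk, Subgroup.orderOf_mk, (Invol.orderOf_conj)])
    have he' := congrArg (Subgroup.map (stabilizer A y₁' ⊓ stabilizer A y₂').subtype) he
    rw [MonoidHom.map_zpowers, MonoidHom.map_zpowers] at he'
    rw [hN, Subgroup.mem_normalizer_iff]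
    intro w
    simp only [Subgroup.subtype_apply] at he'
    have key : Subgroup.zpowers x = (Subgroup.zpowers x).map (MulAut.conj a).toMonoidHom := by
      rw [MonoidHom.map_zpowers]; exact he'
    constructor
    · intro hw; rw [key]; exact ⟨w, hw, rfl⟩
    · intro hw
      rw [key] at hw
      obtain ⟨w', hw', e⟩ := hw
      rwa [show w = w' from (MulAut.conj a).injective e.symm]
  -- the fixed points form a coset of an additive subgroup
  obtain ⟨k, hk⟩ : ∃ k, Φ.ncard = 2 ^ k := by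
    let S : AddSubgroup K :=
      { carrier := {y | linp x y = y}
        zero_mem' := X.linp_zero x
        add_mem' := fun {a b} ha hb => by
          show linp x (a + b) = a + b
          rw [X.linp_add, show linp x a = a from ha, show linp x b = b from hb]
        neg_mem' := fun {a} ha => by
          show linp x (-a) = -a
          rw [X.hK.neg_eq]; exact ha }
    have hiff : ∀ y : K, P0 + y ∈ Φ ↔ y ∈ S := fun y => by
      have h3 : x • (P0 + y) = P0 + linp x y := by
        rw [X.smul_eq x (P0 + y), X.linp_add, add_right_comm, ← X.smul_eq x P0, hx0]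
      show x • (P0 + y) = P0 + y ↔ linp x y = y
      rw [h3, add_right_inj]
    have hcard : Φ.ncard = Nat.card S := by
      rw [← Nat.card_coe_set_eq]
      refine (Nat.card_congr
        { toFun := fun y => ⟨P0 + (y : K), (hiff _).2 y.2⟩
          invFun := fun y => ⟨P0 + (y : K), (hiff _).1 (by rw [← add_assoc, X.hK.add_self, zero_add]; exact y.2)⟩
          left_inv := fun y => Subtype.ext (show P0 + (P0 + (y : K)) = y by rw [← add_assoc, X.hK.add_self, zero_add])
          right_inv := fun y => Subtype.ext (show P0 + (P0 + (y : K)) = y by rw [← add_assoc, X.hK.add_self, zero_add]) }).symm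
    obtain ⟨k, -, hk⟩ := (Nat.dvd_prime_pow Nat.prime_two).1 (hn ▸ S.card_addSubgroup_dvd_card)
    exact ⟨k, hcard.trans hk⟩
  -- the centraliser fixes all fixed points
  let Φs : SubMulAction N K := ⟨Φ, fun a y hy => hNΦ a a.2 y hy⟩
  haveI : IsPretransitive N Φs := ⟨fun y y' => by
    by_cases he : y = y'
    · exact ⟨1, by rw [one_smul, he]⟩
    obtain ⟨a, ha, h1, -⟩ := h2t y.1 y'.1 y'.1 y.1 y.2 y'.2 y'.2 y.2 (fun e => he (Subtype.ext e))
      (fun e => he (Subtype.ext e.symm))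
    exact ⟨⟨a, ha⟩, Subtype.ext h1⟩⟩
  set C' := (Subgroup.centralizer ({x} : Set A)).subgroupOf N with hC'
  haveI : C'.Normal := by
    refine ⟨fun a ha g => ?_⟩
    rw [hC', Subgroup.mem_subgroupOf, Subgroup.mem_centralizer_singleton_iff] at ha ⊢
    obtain ⟨i, hi⟩ : (g : A)⁻¹ * x * g ∈ Subgroup.zpowers x :=
      (Subgroup.mem_normalizer_iff''.1 g.2 x).1 (Subgroup.mem_zpowers x)
    have hc : Commute (a : A) ((g : A)⁻¹ * x * g) := by
      rw [← show x ^ i = (g : A)⁻¹ * x * g from hi]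
      exact (show Commute (a : A) x from ha).zpow_right i
    simp only [Subgroup.coe_mul, Subgroup.coe_inv]
    calc (g : A) * a * (g : A)⁻¹ * x = g * ((a : A) * ((g : A)⁻¹ * x * g)) * (g : A)⁻¹ := by group
      _ = x * (g * a * (g : A)⁻¹) := by rw [hc.eq]; group
  have hfixC : ∀ a : A, Commute a x → a ∈ N → ∀ y ∈ Φ, a • y = y := by
    intro a ha haN y hy
    have h1 : (orbit C' (⟨y, hy⟩ : Φs)).ncard ∣ Nat.card Φs :=
      (IsBlock.orbit_of_normal (⟨y, hy⟩ : Φs)).ncard_dvd_card ⟨_, mem_orbit_self _⟩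
    have h2 : (orbit C' (⟨y, hy⟩ : Φs)).ncard ∣ Nat.card C' := by
      rw [← index_stabilizer]; exact Subgroup.index_dvd_card _
    have h3 : Nat.card Φs = 2 ^ k := by rw [← hk, ← Nat.card_coe_set_eq]; rfl
    have h4 : Odd (Nat.card C') :=
      hCodd.of_dvd_nat (Subgroup.card_comap_dvd_of_injective _ _ N.subtype_injective)
    rw [h3] at h1
    have h5 := Nat.eq_one_of_dvd_coprimes ((Nat.coprime_two_left.2 h4).pow_left k) h1 h2
    obtain ⟨y', hy'⟩ := Set.ncard_eq_one.1 h5
    have e1 : (⟨a, haN⟩ : N) • (⟨y, hy⟩ : Φs) ∈ orbit C' (⟨y, hy⟩ : Φs) :=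
      ⟨⟨⟨a, haN⟩, Subgroup.mem_centralizer_singleton_iff.2 ha.eq⟩, rfl⟩
    have e2 := mem_orbit_self (M := C') (⟨y, hy⟩ : Φs)
    rw [hy', Set.mem_singleton_iff] at e1 e2
    exact congrArg Subtype.val (e1.trans e2.symm)
  -- at most two fixed points
  have htwo : ∀ y ∈ Φ, y = P0 ∨ y = v • P0 := by
    intro y hy
    by_contra hh
    push Not at hh
    obtain ⟨a, ha, ha0, ha1⟩ := h2t P0 (v • P0) P0 y hx0 hxv hx0 hy hne (Ne.symm hh.1)
    obtain ⟨b, hb, hb0, -⟩ := h2t P0 (v • P0) (v • P0) P0 hx0 hxv hxv hx0 hne hne.symm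
    obtain ⟨i, hi⟩ : a⁻¹ * x * a ∈ Subgroup.zpowers x :=
      (Subgroup.mem_normalizer_iff''.1 ha x).1 (Subgroup.mem_zpowers x)
    obtain ⟨j, hj⟩ : b⁻¹ * x * b ∈ Subgroup.zpowers x :=
      (Subgroup.mem_normalizer_iff''.1 hb x).1 (Subgroup.mem_zpowers x)
    have hi' : a⁻¹ * x * a = x ^ i := hi.symm
    have hj' : b⁻¹ * x * b = x ^ j := hj.symm
    have e : (a * b)⁻¹ * x * (a * b) = (b * a)⁻¹ * x * (b * a) := by
      calc (a * b)⁻¹ * x * (a * b) = b⁻¹ * (a⁻¹ * x * a) * b := by group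
        _ = (b⁻¹ * x * b) ^ i := by
          rw [hi']
          simpa using (MulAut.conj b⁻¹).toMonoidHom.map_zpow x i
        _ = (a⁻¹ * x * a) ^ j := by rw [hi', hj', ← zpow_mul, ← zpow_mul, mul_comm]
        _ = a⁻¹ * (b⁻¹ * x * b) * a := by
          rw [hj']
          simpa using ((MulAut.conj a⁻¹).toMonoidHom.map_zpow x j).symm
        _ = (b * a)⁻¹ * x * (b * a) := by group
    have hcm : Commute (a * b * (b * a)⁻¹) x := by
      show a * b * (b * a)⁻¹ * x = x * (a * b * (b * a)⁻¹)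
      calc a * b * (b * a)⁻¹ * x = a * b * ((b * a)⁻¹ * x * (b * a)) * (b * a)⁻¹ := by group
        _ = x * (a * b * (b * a)⁻¹) := by rw [← e]; group
    have := hfixC _ hcm (mul_mem (mul_mem ha hb) (inv_mem (mul_mem hb ha))) ((b * a) • P0)
      (hNΦ _ (mul_mem hb ha) _ hx0)
    rw [mul_smul (a * b), inv_smul_smul, mul_smul, mul_smul, hb0, ha1, ha0, hb0] at this
    exact hh.2 this
  -- transport to the pair `0`, `1`
  obtain ⟨a, ha0, ha1⟩ := X.two_trans hne (zero_ne_one (α := K))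
  set x' := a * x * a⁻¹ with hx'
  have hx'fix : ∀ w : K, x' • w = w → w = 0 ∨ w = 1 := by
    intro w hw
    rw [hx', mul_smul, mul_smul, ← eq_inv_smul_iff] at hw
    rcases htwo _ hw with e | e
    · left; rw [← smul_inv_smul a w, e, ha0]
    · right; rw [← smul_inv_smul a w, e, ha1]
  have hx'0 : x' • (0:K) = 0 := by
    rw [hx', mul_smul, mul_smul, show a⁻¹ • (0:K) = P0 from inv_smul_eq_iff.2 ha0.symm, hx0, ha0]
  have hx'1 : x' • (1:K) = 1 := by
    rw [hx', mul_smul, mul_smul, show a⁻¹ • (1:K) = v • P0 from inv_smul_eq_iff.2 ha1.symm, hxv, ha1]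
  obtain ⟨ν, σ, hσ⟩ := X.stab x' hx'0
  have hν : ν = 1 := by
    have := hσ 1
    rw [hx'1, map_one, mul_one] at this
    exact this.symm
  subst hν
  have hσ' : ∀ w, x' • w = σ w := fun w => by rw [hσ, one_mul]
  have hσn : orderOf σ = n := orderOf_aut X.hK hn σ fun w hw => hx'fix w (by rw [hσ', hw])
  have hpow : ∀ (i : ℕ) (w : K), x' ^ i • w = (σ ^ i) w := by
    intro i
    induction i with
    | zero => intro w; simp
    | succ i ih => intro w; rw [pow_succ, mul_smul, hσ', ih, pow_succ, RingAut.mul_apply]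
  have hσx : orderOf σ = p := by
    rw [← hx, ← (Invol.orderOf_conj a x), ← hx']
    refine orderOf_eq_orderOf_iff.2 fun i => ⟨fun e => X.faithful fun w => ?_, fun e => RingEquiv.ext fun w => ?_⟩
    · rw [hpow, e, RingAut.one_apply]
    · rw [← hpow, e, one_smul, RingAut.one_apply]
  have hnp : (n : ℕ) = p := hσn.symm.trans hσx
  rw [hnp] at hn
  -- the pair stabilizer has order `p`
  have hfdvd : Nat.card ↥(stabilizer A (0:K) ⊓ stabilizer A (1:K)) ∣ p := by
    have hco' : ∀ b : ↥(stabilizer A (0:K) ⊓ stabilizer A (1:K)), ∃ τ : K ≃+* K, ∀ w, (b : A) • w = τ w := by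
      intro b
      obtain ⟨ν, τ, hτ⟩ := X.stab b b.2.1
      have h1 := hτ 1
      rw [show (b : A) • (1:K) = 1 from b.2.2, map_one, mul_one] at h1
      exact ⟨τ, fun w => by rw [hτ, ← h1, one_mul]⟩
    choose φ hφ using hco'
    have := Subgroup.card_dvd_of_injective (MonoidHom.mk' φ fun b b' => RingEquiv.ext fun w => by
      rw [RingAut.mul_apply, ← hφ, ← hφ, ← hφ, Subgroup.coe_mul, mul_smul]) fun b b' e => Subtype.ext (by
      have e' : φ b = φ b' := e
      refine inv_mul_eq_one.1 (X.faithful fun w => ?_)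
      rw [mul_smul, hφ b', ← e', ← hφ b, inv_smul_smul])
    rwa [card_aut X.hK hn] at this
  have hfp : Nat.card ↥(stabilizer A (0:K) ⊓ stabilizer A (1:K)) = p := Nat.dvd_antisymm hfdvd hpf
  refine ⟨p, hp, hpo, hn, hfp, fun b y₁ y₂ w h12 h2w h1w hb1 hb2 hbw => ?_⟩
  by_contra hb
  obtain ⟨c, hc1, hc2⟩ := X.two_trans h12 (zero_ne_one (α := K))
  have hbS : c * b * c⁻¹ ∈ stabilizer A (0:K) ⊓ stabilizer A (1:K) := by
    constructor
    · show (c * b * c⁻¹) • (0:K) = 0
      rw [mul_smul, mul_smul, ← hc1, inv_smul_smul, hb1]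
    · show (c * b * c⁻¹) • (1:K) = 1
      rw [mul_smul, mul_smul, ← hc2, inv_smul_smul, hb2]
  have hgen : Subgroup.zpowers (⟨c * b * c⁻¹, hbS⟩ : ↥(stabilizer A (0:K) ⊓ stabilizer A (1:K))) = ⊤ :=
    zpowers_eq_top_of_prime_card hfp fun e => hb (conj_eq_one_iff.1 (congrArg Subtype.val e))
  obtain ⟨i, hi⟩ := (Subgroup.eq_top_iff' _).1 hgen ⟨x', hx'0, hx'1⟩
  have hi' : (c * b * c⁻¹) ^ i = x' := congrArg Subtype.val hi
  have hcw : x' • (c • w) = c • w := by
    rw [← hi']
    exact zpow_mem (show c * b * c⁻¹ ∈ stabilizer A (c • w) by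
      show (c * b * c⁻¹) • c • w = c • w
      rw [mul_smul, mul_smul, inv_smul_smul, hbw]) i
  rcases hx'fix _ hcw with e | e
  · exact h1w (smul_left_cancel c (hc1.trans e.symm))
  · exact h2w (smul_left_cancel c (hc2.trans e.symm))

/-- The field has eight elements. -/
theorem eight : Nat.card K = 8 ∧ Nat.card A = 168 := by
  classical
  haveI := X.hK.fin
  obtain ⟨p, hp, hpo, hq, hf, htriple⟩ := X.prime_degree
  obtain ⟨d, hd, hpow⟩ := X.exists_gen
  suffices hp3 : p = 3 by
    subst hp3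
    refine ⟨by rw [hq]; norm_num, ?_⟩
    rw [X.card_A, hf, hq]
    norm_num
  have hp3 : 3 ≤ p := by
    rcases eq_or_ne p 2 with e | e
    · rw [e] at hpo; exact absurd hpo (by decide)
    · have := hp.two_le; omega
  have hZ : Cfsg.IsZassenhausGroup A K := by
    refine ⟨⟨fun {a b} h => ?_⟩, (is_two_pretransitive_iff).2 fun {a b c d} h h' => X.two_trans h h',
      fun g a b c h1 h2 h3 => htriple g a b c h1 h2 h3, ?_, fun N hN htr => ?_⟩
    · exact (inv_mul_eq_one.1 (X.faithful fun w => by rw [mul_smul, h w, inv_smul_smul] : b⁻¹ * a = 1)).symm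
    · haveI : Nontrivial ↥(stabilizer A (0:K) ⊓ stabilizer A (1:K)) :=
        Finite.one_lt_card_iff_nontrivial.1 (by rw [hf]; omega)
      obtain ⟨b, hb⟩ := exists_ne (1 : ↥(stabilizer A (0:K) ⊓ stabilizer A (1:K)))
      exact ⟨b, fun e => hb (Subtype.ext e), 0, 1, zero_ne_one, b.2.1, b.2.2⟩
    · by_contra hall
      push Not at hall
      have hcard : Nat.card N = 2 ^ p := by
        rw [← (stabilizer N (0:K)).index_mul_card, index_stabilizer_of_transitive, hall 0,
          Subgroup.card_bot, mul_one, hq]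
      have h1 := X.no_normal_two hN (IsPGroup.of_card hcard)
      rw [h1, Subgroup.card_bot] at hcard
      exact (Nat.one_lt_two_pow (by omega : p ≠ 0)).ne hcard
  have hDle : Subgroup.zpowers d ≤ stabilizer A (0:K) := Subgroup.zpowers_le.2 (by
    show d • (0:K) = 0
    rw [hd, mul_zero])
  have hDn : ((Subgroup.zpowers d).subgroupOf (stabilizer A (0:K))).Normal := by
    refine ⟨fun b hb a => ?_⟩
    rw [Subgroup.mem_subgroupOf] at hb ⊢
    obtain ⟨ν, σ, hσ⟩ := X.stab a a.2
    have hl : l ≠ 0 := fun e => by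
      have : d • (1:K) = d • 0 := by rw [hd, hd, e, zero_mul, zero_mul]
      exact one_ne_zero (smul_left_cancel d this)
    obtain ⟨i, hi⟩ := X.hK.gen (σ l) ((map_ne_zero σ).2 hl)
    have hcd : (a : A) * d * (a : A)⁻¹ = d ^ i := by
      rw [mul_inv_eq_iff_eq_mul]
      refine inv_mul_eq_one.1 (X.faithful fun w => ?_)
      rw [mul_smul, inv_smul_eq_iff, mul_smul, mul_smul, hσ, hpow, hd, hσ, hi, map_mul]
      ring
    obtain ⟨j, hj⟩ := hb
    have hj' : d ^ j = (b : A) := hj
    simp only [Subgroup.coe_mul, Subgroup.coe_inv]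
    rw [← hj']
    refine ⟨(i : ℤ) * j, ?_⟩
    show d ^ ((i : ℤ) * j) = _
    rw [zpow_mul, zpow_natCast, ← hcd, conj_zpow]
  have hDreg : ∀ y w : K, y ≠ 0 → w ≠ 0 → ∃! u : Subgroup.zpowers d, (u : A) • y = w := by
    intro y w hy hw
    obtain ⟨i, hi⟩ := X.hK.gen (w / y) (div_ne_zero hw hy)
    refine ⟨⟨d ^ i, Subgroup.npow_mem_zpowers d i⟩, ?_, fun u hu => ?_⟩
    · show d ^ i • y = w
      rw [hpow, hi, div_mul_cancel₀ _ hy]
    · obtain ⟨j, hj⟩ := (mem_powers_iff_mem_zpowers (x := d)).2 u.2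
      have hj' : d ^ j = (u : A) := hj
      refine Subtype.ext ?_
      show (u : A) = d ^ i
      replace hu : (u : A) • y = w := hu
      rw [← hj'] at hu ⊢
      refine inv_mul_eq_one.1 (X.faithful fun t => ?_)
      rw [mul_smul, inv_smul_eq_iff, hpow, hpow]
      rw [hpow] at hu
      rw [hi, ← hu, mul_div_assoc, div_self hy, mul_one]
  rcases S0731.result hZ (0:K) (Subgroup.zpowers d) hDle hDn inferInstance hDreg with
    ⟨h3, -⟩ | ⟨F, iF, iFF, hchar, ⟨e⟩⟩
  · exfalso
    haveI := h3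
    have hF := Fintype.ofFinite K
    have hb4 := X.big
    rw [Nat.card_eq_fintype_card] at hb4
    obtain ⟨w₀, hw0, hw1⟩ : ∃ w : K, w ≠ 0 ∧ w ≠ 1 := by
      by_contra! hh
      have : Fintype.card K ≤ ({0, 1} : Finset K).card :=
        Finset.card_le_card fun w _ => by
          by_cases h0 : w = 0
          · simp [h0]
          · simp [hh w h0]
      rw [Finset.card_pair zero_ne_one] at this
      omega
    let T : ↥(stabilizer A (0:K) ⊓ stabilizer A (1:K)) → {w : K // w ≠ 0 ∧ w ≠ 1} := fun b =>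
      ⟨(b : A) • w₀, fun e => hw0 (smul_left_cancel (b : A) (e.trans (show (b : A) • (0:K) = 0 from b.2.1).symm)),
        fun e => hw1 (smul_left_cancel (b : A) (e.trans (show (b : A) • (1:K) = 1 from b.2.2).symm))⟩
    have hTi : Function.Injective T := fun b b' e => by
      have e' : (b : A) • w₀ = (b' : A) • w₀ := congrArg Subtype.val e
      refine Subtype.ext (inv_mul_eq_one.1 (htriple _ (0:K) 1 w₀ zero_ne_one (Ne.symm hw1) (Ne.symm hw0) ?_ ?_ ?_)).symm
      · rw [mul_smul, show (b : A) • (0:K) = 0 from b.2.1, inv_smul_eq_iff]; exact (show (b' : A) • (0:K) = 0 from b'.2.1).symm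
      · rw [mul_smul, show (b : A) • (1:K) = 1 from b.2.2, inv_smul_eq_iff]; exact (show (b' : A) • (1:K) = 1 from b'.2.2).symm
      · rw [mul_smul, e', inv_smul_smul]
    have hTs : Function.Surjective T := fun w => by
      have hinj : ∀ u : K, u ≠ 0 → u ≠ 1 → Function.Injective ![(0:K), 1, u] := fun u h0 h1 i j e => by
        fin_cases i <;> fin_cases j <;>
          simp [zero_ne_one, one_ne_zero, h0, h1, Ne.symm h0, Ne.symm h1] at e ⊢
      obtain ⟨g, hg⟩ := MulAction.exists_smul_eq A (⟨_, hinj w₀ hw0 hw1⟩ : Fin 3 ↪ K) ⟨_, hinj w.1 w.2.1 w.2.2⟩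
      have e0 : g • (0:K) = 0 := congrArg (fun f : Fin 3 ↪ K => f 0) hg
      have e1 : g • (1:K) = 1 := congrArg (fun f : Fin 3 ↪ K => f 1) hg
      exact ⟨⟨g, e0, e1⟩, Subtype.ext (congrArg (fun f : Fin 3 ↪ K => f 2) hg)⟩
    have := Nat.card_congr (Equiv.ofBijective T ⟨hTi, hTs⟩)
    rw [hf, Nat.card_eq_fintype_card (α := {w : K // w ≠ 0 ∧ w ≠ 1}), Fintype.card_subtype,
      show (Finset.univ.filter fun w : K => w ≠ 0 ∧ w ≠ 1) = ({0, 1} : Finset K)ᶜ by ext; simp,
      Finset.card_compl, Finset.card_pair zero_ne_one, ← Nat.card_eq_fintype_card, hq] at this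
    obtain ⟨k, rfl⟩ := hpo
    rw [pow_succ'] at this
    omega
  · have hr := CITSolv.card_psl_two (F := F) (q := Fintype.card F) rfl
    rw [← Nat.card_congr e.toEquiv, X.card_A, hf, hq] at hr
    have hr2 : Fintype.card F % 2 = 1 := FiniteField.odd_card_of_char_ne_two hchar
    have hrpos : 1 < Fintype.card F := Fintype.one_lt_card
    obtain ⟨s, hs⟩ : ∃ s, Fintype.card F = 2 * s + 1 := ⟨Fintype.card F / 2, by omega⟩
    rw [hs, show 2 * s + 1 - 1 = 2 * s by omega, Nat.gcd_eq_left (dvd_mul_right 2 s),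
      show (2 * s + 1) ^ 2 - 1 = 4 * (s * (s + 1)) by rw [show (2 * s + 1) ^ 2 = 4 * (s * (s + 1)) + 1 by ring]; omega,
      show (2 * s + 1) ^ 2 - (2 * s + 1) = (2 * s) * (2 * s + 1) by
        rw [show (2 * s + 1) ^ 2 = (2 * s) * (2 * s + 1) + (2 * s + 1) by ring, Nat.add_sub_cancel]] at hr
    exact degree_three hp3 hpo (by omega) hr

end Aff

/-- Squares in the model of `GL(3,2)`. -/
theorem roots_gl32 : ∀ a : Matrix (Fin 3) (Fin 3) (ZMod 2), a ^ 8 = 1 → a ^ 2 ≠ 1 →
    a ^ 4 = 1 ∧ ∀ b : Matrix (Fin 3) (Fin 3) (ZMod 2), b ^ 2 = a ^ 2 → b = a ∨ b = a ^ 3 := by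
  decide +kernel


/-- The theorem. -/
theorem affine_small {A : Type*} [Group A] [Finite A] {K : Type*} [Field K] {l : K} (hK : Gen K l)
    (hbig : 4 ≤ Nat.card K) [MulAction A K]
    (hlin : ∀ (a : A) (x y : K), a • (x + y) + a • (0:K) = a • x + a • y)
    (hinj : ∀ a : A, (∀ x : K, a • x = a • (0:K) + x) → a = 1)
    (htr : ∀ x : K, ∃ a : A, a • (0:K) = x)
    (hstab : ∀ a : A, a • (0:K) = 0 → ∃ (ν : K) (σ : K ≃+* K), ∀ x, a • x = ν * σ x)
    (hodd : Odd (Nat.card (MulAction.stabilizer A (0:K))))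
    (hd : ∃ d : A, ∀ x, d • x = l * x) :
    Nat.card K = 8 ∧ Nat.card A = 168 ∧
    ∀ P : Sylow 2 A, (∃ z ∈ (P : Subgroup A), z ≠ 1 ∧ z * z = 1 ∧ (∀ p ∈ (P : Subgroup A), p * z = z * p) ∧
      ∀ v : A, v ≠ 1 → v * v = 1 → IsConj z v) ∧
      ∀ a ∈ (P : Subgroup A), ∀ b ∈ (P : Subgroup A), a * a ≠ 1 → b * b ≠ 1 → b = a ∨ b = a⁻¹ := by
  classical
  have X : Aff A K l := ⟨hK, hbig, hlin, hinj, htr, hstab, hodd, hd⟩
  haveI := hK.fin
  haveI := hK.charP
  haveI : Fact (Nat.Prime 2) := ⟨Nat.prime_two⟩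
  obtain ⟨h8, h168⟩ := X.eight
  refine ⟨h8, h168, fun P => ⟨?_, ?_⟩⟩
  · obtain ⟨z, h1, h2, h3, h4, h5, -⟩ := X.one_class P
    exact ⟨z, h1, h2, h3, h4, h5⟩
  letI := ZMod.algebra K 2
  have hrank : Module.finrank (ZMod 2) K = 3 := by
    have h := Module.natCard_eq_pow_finrank (K := ZMod 2) (V := K)
    rw [h8, Nat.card_zmod] at h
    exact (Nat.pow_right_injective le_rfl (h.symm.trans (by norm_num : (8:ℕ) = 2 ^ 3)))
  let bs := Module.finBasisOfFinrankEq (ZMod 2) K hrank
  let L : A →* Module.End (ZMod 2) K :=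
    { toFun := fun a => (AddMonoidHom.mk' (Aff.linp a) (X.linp_add a)).toZModLinearMap 2
      map_one' := LinearMap.ext fun x => X.linp_one x
      map_mul' := fun a b => LinearMap.ext fun x => X.linp_mul a b x }
  let M : A →* Matrix (Fin 3) (Fin 3) (ZMod 2) :=
    (LinearMap.toMatrixAlgEquiv bs).toAlgHom.toRingHom.toMonoidHom.comp L
  have hM : Function.Injective M := (injective_iff_map_eq_one M).2 fun a ha => X.eq_one_of_linp fun x => by
    have h1 : LinearMap.toMatrixAlgEquiv bs (L a) = LinearMap.toMatrixAlgEquiv bs (L 1) := by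
      rw [map_one, map_one]; exact ha
    have h2 := LinearMap.congr_fun ((LinearMap.toMatrixAlgEquiv bs).injective h1) x
    exact h2.trans (X.linp_one x)
  obtain ⟨hPc, -⟩ := X.sylow_regular P
  have hpow : ∀ a ∈ (P : Subgroup A), a * a ≠ 1 → M a ^ 8 = 1 ∧ M a ^ 2 ≠ 1 := fun a ha ha2 => by
    refine ⟨?_, fun e => ha2 (hM ?_)⟩
    · have h := congrArg Subtype.val (pow_card_eq_one' (x := (⟨a, ha⟩ : (P : Subgroup A))))
      simp only [Subgroup.coe_pow, Subgroup.coe_one] at h
      rw [show Nat.card (P : Subgroup A) = 8 from hPc.trans h8] at h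
      rw [← map_pow, h, map_one]
    · rw [map_one, map_mul, ← sq, e]
  intro a ha b hb ha2 hb2
  obtain ⟨ha8, haM⟩ := hpow a ha ha2
  obtain ⟨hb8, hbM⟩ := hpow b hb hb2
  obtain ⟨ha4, hroot⟩ := roots_gl32 _ ha8 haM
  obtain ⟨hb4, -⟩ := roots_gl32 _ hb8 hbM
  have h4 : ∀ c : A, M c ^ 4 = 1 → c * c ≠ 1 → c ^ 4 = 1 ∧ orderOf c = 4 := fun c hc hc2 => by
    have h1 : c ^ 4 = 1 := hM (by rw [map_pow, hc, map_one])
    exact ⟨h1, orderOf_eq_prime_pow (p := 2) (n := 1) (by rw [pow_one, sq]; exact hc2) (by norm_num [h1])⟩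
  obtain ⟨ha41, hao⟩ := h4 a ha4 ha2
  obtain ⟨hb41, -⟩ := h4 b hb4 hb2
  -- the square of `b` lies in the subgroup of index two generated by `a`
  have hidx : (Subgroup.zpowers (⟨a, ha⟩ : (P : Subgroup A))).index = 2 := by
    have h := (Subgroup.zpowers (⟨a, ha⟩ : (P : Subgroup A))).card_mul_index
    rw [Nat.card_zpowers, Subgroup.orderOf_mk, hao, show Nat.card (P : Subgroup A) = 8 from hPc.trans h8] at h
    omega
  obtain ⟨i, hi⟩ := (mem_powers_iff_mem_zpowers (x := (⟨a, ha⟩ : (P : Subgroup A)))).2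
    (Subgroup.mul_self_mem_of_index_two hidx ⟨b, hb⟩)
  have hi' : a ^ i = b * b := congrArg Subtype.val hi
  have hbb : b * b = a * a := by
    rw [← hi', ← pow_mod_orderOf, hao]
    have : i % 4 < 4 := Nat.mod_lt _ (by norm_num)
    interval_cases h : i % 4
    · exact absurd (by rw [← hi', ← pow_mod_orderOf, hao, h, pow_zero]) hb2
    · exfalso
      rw [← pow_mod_orderOf, hao, h, pow_one] at hi'
      exact ha2 (by rw [hi', ← sq, ← sq, ← pow_mul, hb41])
    · rw [sq]
    · exfalso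
      rw [← pow_mod_orderOf, hao, h] at hi'
      refine ha2 ?_
      have : (a ^ 3) ^ 2 = 1 := by rw [hi', ← sq, ← pow_mul, hb41]
      calc a * a = (a ^ 3) ^ 2 * (a ^ 4)⁻¹ := by rw [← sq]; group
        _ = 1 := by rw [this, ha41, inv_one, mul_one]
  rcases hroot (M b) (by rw [← map_pow, ← map_pow, sq, sq, hbb]) with h | h
  · exact Or.inl (hM h)
  · right
    rw [← map_pow] at h
    rw [hM h]
    exact eq_inv_of_mul_eq_one_left (by rw [← pow_succ, ha41])

end Cfsg.Agent.TimesPSL
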