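import Mathlib
import Cfsg.Agent.TimesPSL.Level
import Cfsg.Agent.TimesPSL.Affine

/-!
A level whose affine group is transitive and has no translations: it has eight points, and the chain
stops at a Sylow 2-subgroup of the stabilizer of the coset `tQ`.
-/

set_option autoImplicit false
set_option linter.unusedSectionVars false
set_option linter.style.haveILetI false

namespace Cfsg.Agent.TimesPSL

open Subgroup
open Cfsg.Agent.SingerTwo (Gen)

variable {G : Type*} [Group G] [Finite G]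

namespace Level

section

variable {B : Base G} {K : Type*} [Field K] {X : Elem B K} (L : Level X)
include L

local notation "t" => B.t

omit [Finite G] in
/-- a preimage of a point -/
theorem pre_unique {e e' : G} (he : e ∈ X.E) (he' : e' ∈ X.E) (h : X.κ e = X.κ e') : e = e' :=
  X.inj e he e' he' h

/-- the affine map of an element -/
noncomputable def affMap (s : G) (x : K) : K := L.c s + X.κ (s * Classical.choose (X.surj x) * s⁻¹)

theorem affMap_of {s e : G} {x : K} (he : e ∈ X.E) (hx : X.κ e = x) :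
    L.affMap s x = L.c s + X.κ (s * e * s⁻¹) := by
  obtain ⟨h1, h2⟩ := Classical.choose_spec (X.surj x)
  rw [affMap, L.pre_unique h1 he (h2.trans hx.symm)]

theorem affMap_one (x : K) : L.affMap 1 x = x := by
  obtain ⟨e, he, hx⟩ := X.surj x
  rw [L.affMap_of he hx, L.c_one, one_mul, inv_one, mul_one, zero_add, hx]

theorem affMap_mul {s r : G} (hs : s ∈ L.M) (hr : r ∈ L.M) (x : K) :
    L.affMap (s * r) x = L.affMap s (L.affMap r x) := by
  obtain ⟨e, he, hx⟩ := X.surj x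
  obtain ⟨f, hf, hfc⟩ := X.surj (L.c r)
  have hre := L.M_E hr he
  have hy : X.κ (f * (r * e * r⁻¹)) = L.affMap r x := by
    rw [X.add _ hf _ hre, hfc, L.affMap_of he hx]
  rw [L.affMap_of he hx, L.affMap_of (mul_mem hf hre) hy, L.c_mul' hs hr hf hfc, add_assoc,
    ← X.add _ (L.M_E hs hf) _ (L.M_E (mul_mem hs hr) he)]
  congr 2
  group

/-- the action of the stabilizer of the coset on the field -/
@[reducible] noncomputable def affAction : MulAction L.M K where
  smul s x := L.affMap s x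
  one_smul := L.affMap_one
  mul_smul s r x := L.affMap_mul s.2 r.2 x

/-- the action as a homomorphism -/
noncomputable def affHom : L.M →* Equiv.Perm K :=
  letI := L.affAction
  MulAction.toPermHom L.M K

theorem affHom_apply (s : L.M) (x : K) : L.affHom s x = L.affMap s x := rfl

theorem c_U {u : G} (hu : u ∈ L.U) : L.c u = 0 := by
  rcases L.U_split hu with h | ⟨w, hw, rfl⟩
  · rw [c, show t * (u * t * u⁻¹) = t * u * t * u⁻¹ by group, L.inv u h, L.pw_sq (inv_mem h)]
  · rw [c, show t * (t * w * t * (t * w)⁻¹) = (t * t) * w * (t * w⁻¹ * t⁻¹) by group, B.tt, one_mul, B.ti,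
      L.inv _ (inv_mem hw), inv_inv, L.pw_sq hw]

theorem U_E {u e : G} (hu : u ∈ L.U) (he : e ∈ X.E) : u * e * u⁻¹ = e := by
  rcases L.U_split hu with h | ⟨w, hw, rfl⟩
  · rw [L.Qe h he, mul_inv_cancel_right]
  · rw [show t * w * e * (t * w)⁻¹ = t * (w * e * w⁻¹) * t⁻¹ by group, L.Qe hw he, mul_inv_cancel_right,
      ← X.te he, mul_inv_cancel_right]

theorem trivial_of_U {u : L.M} (hu : (u : G) ∈ L.U) : L.affHom u = 1 := by
  refine Equiv.ext fun x => ?_
  obtain ⟨e, he, hx⟩ := X.surj x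
  rw [L.affHom_apply, L.affMap_of he hx, L.c_U hu, L.U_E hu he, zero_add, hx]
  rfl

theorem affMap_zero (s : G) : L.affMap s 0 = L.c s := by
  rw [L.affMap_of (one_mem _) X.κ_one, mul_one, mul_inv_cancel, X.κ_one, add_zero]

theorem U_normal {m u : G} (hm : m ∈ L.M) (hu : u ∈ L.U) : m * u * m⁻¹ ∈ L.U := by
  rcases L.U_split hu with h | ⟨w, hw, rfl⟩
  · exact Or.inl (hm.1 u h)
  · refine Or.inr ?_
    rw [show t * (m * (t * w) * m⁻¹) = t * (m * t * m⁻¹) * (m * w * m⁻¹) by group]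
    exact mul_mem hm.2 (hm.1 w hw)

theorem U_diff {m u : G} (hm : m ∈ L.M) (hu : u ∈ L.U) : m * u * m⁻¹ * u ∈ L.Q := by
  rcases L.U_split hu with h | ⟨w, hw, rfl⟩
  · exact mul_mem (hm.1 u h) h
  · have hq : t * (m * t * m⁻¹) * (m * w * m⁻¹) ∈ L.Q := mul_mem hm.2 (hm.1 w hw)
    have e : m * (t * w) * m⁻¹ * (t * w) = (t * (t * (m * t * m⁻¹) * (m * w * m⁻¹)) * t) * w := by
      calc m * (t * w) * m⁻¹ * (t * w) = (t * t) * (m * t * m⁻¹) * (m * w * m⁻¹) * t * w := by rw [B.tt]; group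
        _ = _ := by group
    rw [e, L.inv _ hq]
    exact mul_mem (inv_mem hq) hw

theorem card_U_ge : 2 * Nat.card L.Q ≤ Nat.card L.U := by
  rw [show 2 * Nat.card L.Q = Nat.card (L.Q ⊕ L.Q) by rw [Nat.card_sum]; ring]
  refine Nat.card_le_card_of_injective
    (Sum.elim (fun a : L.Q => (⟨a.1, Or.inl a.2⟩ : L.U))
      (fun a : L.Q => ⟨t * a.1, mul_mem L.tU (Or.inl a.2)⟩)) ?_
  rintro (a | a) (b | b) h <;> replace h := congrArg Subtype.val h <;> simp only [Sum.elim_inl, Sum.elim_inr] at h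
  · rw [Subtype.ext h]
  · refine absurd ?_ L.tQ
    have e2 := mul_mem a.2 (inv_mem b.2)
    rwa [h, mul_inv_cancel_right] at e2
  · refine absurd ?_ L.tQ
    have e2 := mul_mem b.2 (inv_mem a.2)
    rwa [← h, mul_inv_cancel_right] at e2
  · rw [Subtype.ext (mul_left_cancel h)]

/-- what the affine theorem gives for the group of maps -/
theorem affine_facts (htr : ∀ x : K, ∃ s ∈ L.M, L.c s = x)
    (hno : ∀ s ∈ L.M, (∀ e ∈ X.E, s * e = e * s) → L.c s = 0) :
    Nat.card K = 8 ∧ Nat.card L.affHom.range = 168 ∧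
      Odd (Nat.card (MulAction.stabilizer L.affHom.range (0 : K))) ∧
      ∀ P : Sylow 2 L.affHom.range,
        (∃ z ∈ (P : Subgroup L.affHom.range), z ≠ 1 ∧ z * z = 1 ∧
          (∀ p ∈ (P : Subgroup L.affHom.range), p * z = z * p) ∧
            ∀ v : L.affHom.range, v ≠ 1 → v * v = 1 → IsConj z v) ∧
          ∀ a ∈ (P : Subgroup L.affHom.range), ∀ b ∈ (P : Subgroup L.affHom.range),
            a * a ≠ 1 → b * b ≠ 1 → b = a ∨ b = a⁻¹ := by
  haveI := X.hK.fin
  haveI : Fact (Nat.Prime 2) := ⟨Nat.prime_two⟩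
  have happ : ∀ (s : L.M) (x : K), (L.affHom.rangeRestrict s) • x = L.affMap s x := fun s x => rfl
  have hodd : Odd (Nat.card (MulAction.stabilizer L.affHom.range (0 : K))) := by
    rw [← Nat.not_even_iff_odd, even_iff_two_dvd]
    intro h2
    obtain ⟨⟨a, ha0⟩, hao⟩ := exists_prime_orderOf_dvd_card' (G := MulAction.stabilizer L.affHom.range (0 : K)) 2 h2
    rw [Subgroup.orderOf_mk] at hao
    obtain ⟨s, rfl⟩ := L.affHom.rangeRestrict_surjective a
    obtain ⟨m, r, hr, hord⟩ := Nat.exists_eq_pow_mul_and_not_dvd (orderOf_pos s).ne' 2 (by decide)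
    have hsq : L.affHom.rangeRestrict s * L.affHom.rangeRestrict s = 1 := by
      rw [← pow_two, ← hao, pow_orderOf_eq_one]
    have himg : L.affHom.rangeRestrict (s ^ r) = L.affHom.rangeRestrict s := by
      rw [map_pow]
      obtain ⟨i, hi⟩ := Nat.odd_iff.2 (Nat.two_dvd_ne_zero.1 hr)
      rw [hi, pow_succ, pow_mul, pow_two, hsq, one_pow, one_mul]
    have hu : ((s ^ r : L.M) : G) ^ 2 ^ m = 1 := by
      rw [← SubmonoidClass.coe_pow, ← pow_mul, mul_comm, ← hord, pow_orderOf_eq_one, OneMemClass.coe_one]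
    have hc : L.c ((s ^ r : L.M) : G) = 0 := by
      rw [← L.affMap_zero, ← happ, himg]
      exact ha0
    have hW := isPGroup_sup_zpowers L.U_two hu (fun y hy => L.U_normal (s ^ r : L.M).2 hy)
    have hU := L.mem_U_of_two hW le_sup_right (le_sup_left (b := L.U) (mem_zpowers _)) (s ^ r : L.M).2 hc
    have h1 : L.affHom.rangeRestrict s = 1 := by
      rw [← himg]
      exact Subtype.ext (L.trivial_of_U hU)
    rw [h1, orderOf_one] at hao
    omega
  have h := affine_small (A := L.affHom.range) X.hK X.big ?_ ?_ ?_ ?_ hodd ?_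
  · exact ⟨h.1, h.2.1, hodd, h.2.2⟩
  · intro a x y
    obtain ⟨s, rfl⟩ := L.affHom.rangeRestrict_surjective a
    obtain ⟨e, he, hx⟩ := X.surj x
    obtain ⟨f, hf, hy⟩ := X.surj y
    rw [happ, happ, happ, happ, L.affMap_zero, L.affMap_of he hx, L.affMap_of hf hy,
      L.affMap_of (mul_mem he hf) (by rw [X.add _ he _ hf, hx, hy]),
      show (s : G) * (e * f) * (s : G)⁻¹ = (s : G) * e * (s : G)⁻¹ * ((s : G) * f * (s : G)⁻¹) by group,
      X.add _ (L.M_E s.2 he) _ (L.M_E s.2 hf)]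
    ring
  · intro a ha
    obtain ⟨s, rfl⟩ := L.affHom.rangeRestrict_surjective a
    have hcomm : ∀ e ∈ X.E, (s : G) * e = e * (s : G) := fun e he => by
      have h := ha (X.κ e)
      rw [happ, happ, L.affMap_zero, L.affMap_of he rfl] at h
      exact mul_inv_eq_iff_eq_mul.1 (X.inj _ (L.M_E s.2 he) _ he (add_left_cancel h))
    have hc := hno _ s.2 hcomm
    refine Subtype.ext (Equiv.ext fun x => ?_)
    have h := ha x
    rw [happ, happ, L.affMap_zero, hc, zero_add] at h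
    exact h
  · intro x
    obtain ⟨s, hs, hsx⟩ := htr x
    exact ⟨L.affHom.rangeRestrict ⟨s, hs⟩, by rw [happ, L.affMap_zero]; exact hsx⟩
  · intro a ha
    obtain ⟨s, rfl⟩ := L.affHom.rangeRestrict_surjective a
    rw [happ, L.affMap_zero] at ha
    obtain ⟨y, hy, hyt, hyM⟩ := L.adjust s.2 ha
    obtain ⟨ν, σ, hνσ⟩ := X.semil _ hyt fun e he => L.M_E hyM he
    refine ⟨ν, σ, fun x => ?_⟩
    obtain ⟨e, he, hx⟩ := X.surj x
    rw [happ, L.affMap_of he hx, ha, zero_add, ← hx, ← hνσ e he]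
    congr 1
    rw [show y * (s : G) * e * (y * (s : G))⁻¹ = y * ((s : G) * e * (s : G)⁻¹) * y⁻¹ by group,
      L.Qe hy (L.M_E s.2 he), mul_inv_cancel_right]
  · refine ⟨L.affHom.rangeRestrict ⟨L.d, L.d_mem⟩, fun x => ?_⟩
    obtain ⟨e, he, hx⟩ := X.surj x
    rw [happ, L.affMap_of he hx, L.c_d, zero_add, L.dE e he, X.dκ e he, hx]

set_option maxHeartbeats 1000000 in
theorem no_translations_aux [IsSimpleGroup G] (hG : ¬ IsMulCommutative G)
    (hE : ∀ e ∈ X.E, ¬ IsConj B.t e) (htr : ∀ x : K, ∃ s ∈ L.M, L.c s = x)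
    (hno : ∀ s ∈ L.M, (∀ e ∈ X.E, s * e = e * s) → L.c s = 0) : False := by
  classical
  haveI := X.hK.fin
  haveI : Fact (Nat.Prime 2) := ⟨Nat.prime_two⟩
  obtain ⟨hK8, hA, hodd, hP⟩ := L.affine_facts htr hno
  set π := L.affHom.rangeRestrict with hπ
  have hπs : Function.Surjective π := L.affHom.rangeRestrict_surjective
  obtain ⟨S0, hS0⟩ := (L.U_two.of_equiv (subgroupOfEquivOfLe L.U_le_M).symm).exists_le_sylow
  set S := (S0 : Subgroup L.M).map L.M.subtype with hS
  have hSM : S ≤ L.M := Subgroup.map_subtype_le _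
  have hS2 : IsPGroup 2 S := S0.2.map _
  have hUS : L.U ≤ S := fun u hu => ⟨⟨u, L.U_le_M hu⟩, hS0 (mem_subgroupOf.2 hu), rfl⟩
  have hmemS : ∀ {x : L.M}, (x : G) ∈ S → x ∈ (S0 : Subgroup L.M) := fun {x} hx => by
    obtain ⟨y, hy, hyx⟩ := hx
    rwa [← Subtype.ext hyx]
  let P : Sylow 2 L.affHom.range := S0.mapSurjective hπs
  have hPmem : ∀ {a}, a ∈ (P : Subgroup L.affHom.range) ↔ ∃ x ∈ (S0 : Subgroup L.M), π x = a := fun {a} => by
    simp only [P, Sylow.coe_mapSurjective, Subgroup.mem_map]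
  obtain ⟨⟨z, hzP, hz1, hzz, hzc, hzconj⟩, hab⟩ := hP P
  have htriv : ∀ {x : L.M}, (x : G) ∈ S → (π x = 1 ↔ (x : G) ∈ L.U) := fun {x} hx => by
    refine ⟨fun h => L.mem_U_of_two hS2 hUS hx x.2 ?_, fun h => Subtype.ext (L.trivial_of_U h)⟩
    have h1 : L.affHom x 0 = 0 := by rw [show L.affHom x = 1 from congrArg Subtype.val h]; rfl
    rwa [L.affHom_apply, L.affMap_zero] at h1
  -- (2) the point 0 has all images under `S`
  have hPstab : ∀ a ∈ (P : Subgroup L.affHom.range), a • (0 : K) = 0 → a = 1 := by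
    intro a ha h0
    obtain ⟨n, hn⟩ := P.2 ⟨a, ha⟩
    have h2 : a ^ 2 ^ n = 1 := congrArg Subtype.val hn
    have h3 : orderOf a ∣ Nat.card (MulAction.stabilizer L.affHom.range (0 : K)) := by
      rw [show orderOf a = orderOf (⟨a, h0⟩ : MulAction.stabilizer L.affHom.range (0 : K)) from
        orderOf_injective (MulAction.stabilizer L.affHom.range (0 : K)).subtype Subtype.coe_injective ⟨a, h0⟩]
      exact orderOf_dvd_natCard _
    exact orderOf_eq_one_iff.1 (Nat.eq_one_of_dvd_coprimes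
      ((Nat.coprime_two_left.2 hodd).pow_left n) (orderOf_dvd_of_pow_eq_one h2) h3)
  have hPcard : Nat.card (P : Subgroup L.affHom.range) = 8 := by
    rw [P.card_eq_multiplicity, hA, show (168 : ℕ) = 2 ^ 3 * 21 by norm_num,
      Nat.factorization_mul (by norm_num) (by norm_num), Nat.Prime.factorization_pow Nat.prime_two,
      Finsupp.add_apply, Finsupp.single_eq_same, Nat.factorization_eq_zero_of_not_dvd (by norm_num : ¬ 2 ∣ 21)]
    norm_num
  have hsurj : ∀ x : K, ∃ s ∈ S, L.c s = x := by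
    have hbij : Function.Bijective (fun a : (P : Subgroup L.affHom.range) => (a : L.affHom.range) • (0 : K)) := by
      refine (Nat.bijective_iff_injective_and_card _).2 ⟨fun a b h => ?_, by rw [hPcard, hK8]⟩
      refine Subtype.ext (inv_mul_eq_one.1 (hPstab _ (mul_mem (inv_mem a.2) b.2) ?_))
      rw [mul_smul, ← show (a : L.affHom.range) • (0 : K) = (b : L.affHom.range) • (0 : K) from h,
        inv_smul_smul]
    intro x
    obtain ⟨⟨a, ha⟩, hax⟩ := hbij.2 x
    obtain ⟨s, hs, rfl⟩ := hPmem.1 ha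
    exact ⟨s, ⟨s, hs, rfl⟩, by rw [← L.affMap_zero]; exact hax⟩
  -- (3)
  have hQS : L.Q ≤ S := fun a ha => hUS (Or.inl ha)
  have hgw : ∀ w ∈ L.Q, ∃ g ∈ S, g * t * g⁻¹ = t * w := by
    intro w hw
    obtain ⟨s, hs, hsw⟩ := hsurj (L.pw w)
    have hsM := hSM hs
    obtain ⟨y, hy, hys⟩ := L.sq_of_pw (mul_mem (inv_mem hsM.2) hw) (by
      rw [L.pw_add (inv_mem hsM.2) hw, L.pw_inv hsM.2]
      show L.c s + L.pw w = 0
      rw [hsw, X.add_self])
    refine ⟨y⁻¹ * s, mul_mem (inv_mem (hQS hy)) hs, ?_⟩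
    calc y⁻¹ * s * t * (y⁻¹ * s)⁻¹ = y⁻¹ * (s * t * s⁻¹) * y := by group
      _ = y⁻¹ * t * (t * (s * t * s⁻¹)) * y := by simp only [mul_assoc]; rw [← mul_assoc t t, B.tt, one_mul]
      _ = y⁻¹ * t * y * (t * (s * t * s⁻¹)) := by
          rw [mul_assoc (y⁻¹ * t), L.comm _ hsM.2 y hy, ← mul_assoc]
      _ = t * w := by
          rw [L.conj_sq hy, hys, mul_assoc, L.comm _ (mul_mem (inv_mem hsM.2) hw) _ hsM.2, mul_inv_cancel_left]
  have hsqQ : ∀ s ∈ S, ¬ t * (s * s) ∈ L.Q := by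
    intro s hs hq
    obtain ⟨g, hg, hgt⟩ := hgw _ hq
    rw [← mul_assoc t t, B.tt, one_mul] at hgt
    have hrr : g⁻¹ * s * g * (g⁻¹ * s * g) = t := by
      calc g⁻¹ * s * g * (g⁻¹ * s * g) = g⁻¹ * (s * s) * g := by group
        _ = t := by rw [← hgt]; group
    have hT := B.inter hS2 (L.T_le.trans hUS) (mul_mem (mul_mem (inv_mem hg) hs) hg)
      (by rw [← hrr]; simp only [mul_assoc])
    exact B.t1 (hrr.symm.trans (X.T_sq hT))
  have hsqU : ∀ s ∈ S, s * s ∈ L.U → s * s ∈ L.Q := fun s hs h => h.resolve_right (hsqQ s hs)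
  -- (4) a subgroup with all squares and without `t`
  obtain ⟨b, hb, hsq⟩ : ∃ b ∈ S, ∀ s ∈ S, s * s ∈ Subgroup.zpowers (b * b) ⊔ L.Q := by
    by_cases h : ∃ x ∈ (S0 : Subgroup L.M), π x * π x ≠ 1
    · obtain ⟨x, hx, hx2⟩ := h
      refine ⟨x, ⟨x, hx, rfl⟩, ?_⟩
      rintro _ ⟨s, hs, rfl⟩
      show (s : G) * (s : G) ∈ _
      by_cases hs2 : π s * π s = 1
      · refine (le_sup_right (a := Subgroup.zpowers ((x : G) * (x : G))))
          (hsqU _ ⟨s, hs, rfl⟩ ?_)
        exact (htriv (x := s * s) ⟨s * s, mul_mem hs hs, rfl⟩).1 (by rw [map_mul, hs2])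
      · have key : ∀ v : L.M, v ∈ (S0 : Subgroup L.M) → π s = π v →
            (s : G) * (s : G) ∈ Subgroup.zpowers ((v : G) * (v : G)) ⊔ L.Q := by
          intro v hv e
          have hu := (htriv (x := v⁻¹ * s) ⟨v⁻¹ * s, mul_mem (inv_mem hv) hs, rfl⟩).1
            (by rw [map_mul, map_inv, e, inv_mul_cancel])
          rw [Subgroup.coe_mul, Subgroup.coe_inv] at hu
          rw [show (s : G) * (s : G) = ((v : G) * (v : G)) *
            ((v : G)⁻¹ * ((v : G)⁻¹ * (s : G)) * (v : G)⁻¹⁻¹ * ((v : G)⁻¹ * (s : G))) by group]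
          exact mul_mem (le_sup_left (b := L.Q) (mem_zpowers _))
            (le_sup_right (a := Subgroup.zpowers ((v : G) * (v : G))) (L.U_diff (inv_mem v.2) hu))
        rcases hab _ (hPmem.2 ⟨x, hx, rfl⟩) _ (hPmem.2 ⟨s, hs, rfl⟩) hx2 hs2 with e | e
        · exact key x hx e
        · have h1 := key x⁻¹ (inv_mem hx) (by rw [e, map_inv])
          rwa [Subgroup.coe_inv, ← mul_inv_rev, Subgroup.zpowers_inv] at h1
    · push Not at h
      refine ⟨1, one_mem _, ?_⟩
      rintro _ ⟨s, hs, rfl⟩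
      exact le_sup_right (a := Subgroup.zpowers ((1 : G) * 1)) (hsqU _ ⟨s, hs, rfl⟩
        ((htriv (x := s * s) ⟨s * s, mul_mem hs hs, rfl⟩).1 (by rw [map_mul, h s hs])))
  set Sq := Subgroup.zpowers (b * b) ⊔ L.Q with hSq
  have hSqS : Sq ≤ S := sup_le (Subgroup.zpowers_le.2 (mul_mem hb hb)) hQS
  have htSq : t ∉ Sq := by
    intro ht
    have hn : Subgroup.zpowers (b * b) ≤ normalizer (L.Q : Set G) :=
      Subgroup.zpowers_le.2 (Invol.mem_normalizer_of_conj_le (by
        rintro _ ⟨x, hx, rfl⟩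
        exact (hSM (mul_mem hb hb)).1 x hx))
    have h1 := Subgroup.coe_mul_of_left_le_normalizer_right _ _ hn
    rw [hSq, ← SetLike.mem_coe, h1] at ht
    obtain ⟨_, ⟨i, rfl⟩, q, hq, he⟩ := ht
    refine hsqQ (b ^ i) (zpow_mem hb i) ?_
    have he' : (b * b) ^ i * q = t := he
    have h2 : b ^ i * b ^ i = t * q⁻¹ := by
      rw [← (Commute.refl b).mul_zpow, ← he', mul_inv_cancel_right]
    rw [h2, ← mul_assoc, B.tt, one_mul]
    exact inv_mem hq
  obtain ⟨R, ⟨hSqR, hRS, htR⟩, hmax⟩ :=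
    (Set.toFinite {R : Subgroup G | Sq ≤ R ∧ R ≤ S ∧ t ∉ R}).exists_maximal ⟨Sq, le_rfl, hSqS, htSq⟩
  have hsqR : ∀ s ∈ S, s * s ∈ R := fun s hs => hSqR (hsq s hs)
  have hcommR : ∀ s ∈ S, ∀ r ∈ S, s * r * s⁻¹ * r⁻¹ ∈ R := by
    intro s hs r hr
    rw [show s * r * s⁻¹ * r⁻¹ =
      s * r * (s * r) * (r⁻¹ * s * r * (r⁻¹ * s * r))⁻¹ * (r * r)⁻¹ by group]
    exact mul_mem (mul_mem (hsqR _ (mul_mem hs hr))
      (inv_mem (hsqR _ (mul_mem (mul_mem (inv_mem hr) hs) hr)))) (inv_mem (hsqR r hr))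
  have hRnorm : ∀ x ∈ S, ∀ r ∈ R, x * r * x⁻¹ ∈ R := fun x hx r hr => by
    rw [show x * r * x⁻¹ = x * r * x⁻¹ * r⁻¹ * r by group]
    exact mul_mem (hcommR x hx r (hRS hr)) hr
  have htS : t ∈ S := hUS L.tU
  have hQR : L.Q ≤ R := (le_sup_right (a := Subgroup.zpowers (b * b))).trans hSqR
  have hsplit : ∀ x ∈ S, x ∈ R ∨ t * x ∈ R := by
    intro x hx
    by_cases hxR : x ∈ R
    · exact Or.inl hxR
    right
    have htR' : t ∈ Subgroup.zpowers x ⊔ R := by
      by_contra hn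
      exact hxR (hmax ⟨hSqR.trans le_sup_right, sup_le (Subgroup.zpowers_le.2 hx) hRS, hn⟩ le_sup_right
        (le_sup_left (b := R) (mem_zpowers x)))
    have hn : Subgroup.zpowers x ≤ normalizer (R : Set G) :=
      Subgroup.zpowers_le.2 (Invol.mem_normalizer_of_conj_le (by
        rintro _ ⟨r, hr, rfl⟩
        exact hRnorm x hx r hr))
    rw [← SetLike.mem_coe, Subgroup.coe_mul_of_left_le_normalizer_right _ _ hn] at htR'
    obtain ⟨_, ⟨i, rfl⟩, r, hr, he⟩ := htR'
    have he' : x ^ i * r = t := he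
    rcases Int.even_or_odd' i with ⟨j, rfl | rfl⟩
    · refine absurd ?_ htR
      rw [← he', zpow_mul, zpow_two]
      exact mul_mem (zpow_mem (hsqR x hx) j) hr
    · rw [← he', zpow_add_one, zpow_mul, zpow_two,
        show (x * x) ^ j * x * r * x = (x * x) ^ j * ((x * r * x⁻¹) * (x * x)) by group]
      exact mul_mem (zpow_mem (hsqR x hx) j) (mul_mem (hRnorm x hx r hr) (hsqR x hx))
  have hUR : ∀ {u}, u ∈ L.U → u ∈ R → u ∈ L.Q := fun {u} hu hr => hu.resolve_right fun h => htR (by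
    have := mul_mem (hQR h) (inv_mem hr)
    rwa [mul_inv_cancel_right] at this)
  -- (5) central images
  have hfive : ∀ v : L.M, (v : G) ∈ S → v * v = 1 → (v : G) ∉ L.U →
      (∀ p ∈ (P : Subgroup L.affHom.range), p * π v = π v * p) → ¬ IsConj t (v : G) := by
    intro v hvS hv2 hvU hcen
    have hvv : (v : G) * (v : G) = 1 := congrArg Subtype.val hv2
    have hvi : (v : G)⁻¹ = v := inv_eq_of_mul_eq_one_right hvv
    let I : Subgroup G :=
      { carrier := {q | q ∈ L.Q ∧ (v : G) * q * (v : G) = q⁻¹}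
        one_mem' := ⟨one_mem _, by rw [mul_one, hvv, inv_one]⟩
        mul_mem' := by
          rintro a c ⟨ha, ha'⟩ ⟨hc, hc'⟩
          refine ⟨mul_mem ha hc, ?_⟩
          rw [mul_inv_rev, L.comm _ (inv_mem hc) _ (inv_mem ha), ← ha', ← hc',
            show (v : G) * a * v * ((v : G) * c * v) = (v : G) * a * ((v : G) * v) * c * v by group, hvv,
            mul_one, mul_assoc (v : G) a c]
        inv_mem' := by
          rintro a ⟨ha, ha'⟩
          refine ⟨inv_mem ha, ?_⟩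
          rw [inv_inv]
          conv_lhs => rw [← hvi]
          rw [show (v : G)⁻¹ * a⁻¹ * (v : G)⁻¹ = ((v : G) * a * v)⁻¹ by group, ha', inv_inv] }
    have hIQ : I ≤ L.Q := fun q hq => hq.1
    have hIne : I ≠ L.Q := fun hI => hvU (L.mem_U_of_two hS2 hUS hvS v.2 (hno _ v.2 fun e he => by
      have h : e ∈ I := hI ▸ L.EQ he
      have h' : (v : G) * e * (v : G)⁻¹ = e := by rw [hvi, h.2, X.einv he]
      exact mul_inv_eq_iff_eq_mul.1 h'))
    have hIcard : 2 * Nat.card I ≤ Nat.card L.Q := by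
      obtain ⟨j, hj⟩ := Subgroup.card_dvd_of_le hIQ
      have hlt : Nat.card I < Nat.card L.Q := by
        refine lt_of_le_of_ne (Subgroup.card_le_of_le hIQ) fun e => hIne ?_
        exact Subgroup.eq_of_le_of_card_ge hIQ e.ge
      have hpos : 0 < Nat.card I := Nat.card_pos
      rw [hj] at hlt ⊢
      have : 2 ≤ j := by
        by_contra hj2
        have := Nat.mul_le_mul_left (Nat.card I) (show j ≤ 1 by omega)
        omega
      rw [mul_comm 2]
      exact Nat.mul_le_mul_left _ this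
    set W := S ⊓ centralizer ({(v : G)} : Set G) with hW
    have hf : ∀ s ∈ S, s * v * s⁻¹ * (v : G)⁻¹ ∈ I := by
      intro s hs
      have hQ : s * v * s⁻¹ * (v : G)⁻¹ ∈ L.Q := by
        refine hUR ?_ (hcommR s hs v hvS)
        refine (htriv (x := ⟨s, hSM hs⟩ * v * ⟨s, hSM hs⟩⁻¹ * v⁻¹)
          (mul_mem (mul_mem (mul_mem hs hvS) (inv_mem hs)) (inv_mem hvS))).1 ?_
        rw [map_mul, map_mul, map_mul, hcen _ (hPmem.2 ⟨⟨s, hSM hs⟩, hmemS hs, rfl⟩), map_inv, map_inv,
          mul_inv_cancel_right, mul_inv_cancel]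
      refine ⟨hQ, eq_inv_of_mul_eq_one_left ?_⟩
      rw [hvi, show (v : G) * (s * v * s⁻¹ * v) * v * (s * v * s⁻¹ * v) =
        (v : G) * s * v * s⁻¹ * ((v : G) * v) * s * v * s⁻¹ * v by group, hvv, mul_one,
        show (v : G) * s * v * s⁻¹ * s * v * s⁻¹ * v = (v : G) * s * ((v : G) * v) * s⁻¹ * v by group, hvv,
        mul_one, mul_inv_cancel_right, hvv]
    have hcount : Nat.card S ≤ Nat.card W * Nat.card I := by
      let f : S → I := fun s => ⟨_, hf s.1 s.2⟩
      let rep : S → S := fun s => Classical.choose (show ∃ r : S, f r = f s from ⟨s, rfl⟩)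
      have hrep : ∀ s, f (rep s) = f s := fun s => Classical.choose_spec (show ∃ r : S, f r = f s from ⟨s, rfl⟩)
      have hrepeq : ∀ {s s' : S}, f s = f s' → rep s = rep s' := fun {s s'} e => by simp only [rep, e]
      have hw : ∀ s : S, ((rep s : G))⁻¹ * (s : G) ∈ W := fun s => by
        refine Subgroup.mem_inf.2 ⟨mul_mem (inv_mem (rep s).2) s.2, mem_centralizer_singleton_iff.2 ?_⟩
        have e : (rep s : G) * v * (rep s : G)⁻¹ = (s : G) * v * (s : G)⁻¹ :=
          mul_right_cancel (congrArg Subtype.val (hrep s))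
        calc (rep s : G)⁻¹ * s * v = (rep s : G)⁻¹ * ((s : G) * v * (s : G)⁻¹) * s := by group
          _ = v * ((rep s : G)⁻¹ * s) := by rw [← e]; group
      rw [← Nat.card_prod]
      refine Nat.card_le_card_of_injective (fun s : S => ((⟨_, hw s⟩, f s) : ↥W × ↥I)) fun s s' e => ?_
      simp only [Prod.mk.injEq, Subtype.mk.injEq] at e
      have e1 := e.1
      rw [hrepeq e.2] at e1
      exact Subtype.ext (mul_left_cancel e1)
    have hS16 : Nat.card K * Nat.card L.U ≤ Nat.card S := by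
      choose r hr hrx using hsurj
      rw [← Nat.card_prod]
      refine Nat.card_le_card_of_injective
        (fun p : K × L.U => (⟨r p.1 * p.2.1, mul_mem (hr p.1) (hUS p.2.2)⟩ : S)) ?_
      rintro ⟨a, u⟩ ⟨a', u'⟩ h
      have h : r a * (u : G) = r a' * (u' : G) := congrArg Subtype.val h
      have hc : ∀ (x : K) (u : L.U), L.c (r x * (u : G)) = x := fun x u => by
        rw [← L.affMap_zero, L.affMap_mul (hSM (hr x)) (L.U_le_M u.2), L.affMap_zero, L.c_U u.2, L.affMap_zero, hrx]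
      have ha := congrArg L.c h
      rw [hc, hc] at ha
      subst ha
      rw [Subtype.ext (mul_left_cancel h)]
    refine X.not_conj_of_big (W := W) (hS2.to_le inf_le_left)
      (fun w hw => mem_centralizer_singleton_iff.1 hw.2) ?_
    have hU2 := L.card_U_ge
    have hq : 0 < Nat.card L.Q := Nat.card_pos
    rw [hK8] at hS16 ⊢
    nlinarith
  -- (6) conjugates of `t` in `S` lie in `U`
  have hsix : ∀ x ∈ S, IsConj t x → x ∈ L.U := by
    intro x hx hconj
    by_contra hxU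
    obtain ⟨g, hg⟩ := isConj_iff.1 hconj
    have hxx : x * x = 1 := by
      rw [← hg, show g * t * g⁻¹ * (g * t * g⁻¹) = g * (t * t) * g⁻¹ by group, B.tt, mul_one, mul_inv_cancel]
    set x0 : L.M := ⟨x, hSM hx⟩
    have hx0 : π x0 ≠ 1 := fun h => hxU ((htriv (x := x0) hx).1 h)
    obtain ⟨α, hα⟩ := isConj_iff.1 (hzconj _ hx0 (by
      rw [← map_mul, show x0 * x0 = 1 from Subtype.ext hxx, map_one]))
    obtain ⟨m, rfl⟩ := hπs α
    set v' : L.M := m⁻¹ * x0 * m with hv'
    have hv'z : π v' = z := by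
      rw [hv', map_mul, map_mul, map_inv, ← hα]
      group
    have hv'2 : v' * v' = 1 := by
      rw [hv', show m⁻¹ * x0 * m * (m⁻¹ * x0 * m) = m⁻¹ * (x0 * x0) * m by group,
        show x0 * x0 = 1 from Subtype.ext hxx, mul_one, inv_mul_cancel]
    set H := (P : Subgroup L.affHom.range).comap π with hH
    set W2 := (Subgroup.zpowers (v' : G) ⊔ L.U).subgroupOf L.M with hW2
    have hW2le : Subgroup.zpowers (v' : G) ⊔ L.U ≤ L.M :=
      sup_le (Subgroup.zpowers_le.2 v'.2) L.U_le_M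
    have hW2p : IsPGroup 2 W2 :=
      (isPGroup_sup_zpowers L.U_two (k := 1) (by rw [pow_one, pow_two]; exact congrArg Subtype.val hv'2)
        (fun y hy => L.U_normal v'.2 hy)).of_equiv (subgroupOfEquivOfLe hW2le).symm
    have hW2H : W2 ≤ H := by
      have : W2 ≤ (Subgroup.zpowers v' ⊔ L.U.subgroupOf L.M) := by
        rw [hW2, Subgroup.subgroupOf_sup (Subgroup.zpowers_le.2 v'.2) L.U_le_M]
        refine sup_le (le_trans ?_ le_sup_left) le_sup_right
        intro y hy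
        obtain ⟨i, hi⟩ := mem_subgroupOf.1 hy
        exact ⟨i, Subtype.ext (by rw [← hi, SubgroupClass.coe_zpow])⟩
      refine this.trans (sup_le (Subgroup.zpowers_le.2 ?_) fun y hy => ?_)
      · rw [hH, Subgroup.mem_comap, hv'z]; exact hzP
      · rw [hH, Subgroup.mem_comap, show π y = 1 from Subtype.ext (L.trivial_of_U (mem_subgroupOf.1 hy))]
        exact one_mem _
    have hS0H : (S0 : Subgroup L.M) ≤ H := fun y hy => hPmem.2 ⟨y, hy, rfl⟩
    obtain ⟨T2, hT2⟩ := (hW2p.of_equiv (subgroupOfEquivOfLe hW2H).symm).exists_le_sylow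
    obtain ⟨k, hk⟩ := MulAction.exists_smul_eq H T2 (S0.subtype hS0H)
    set v'' : L.M := (k : L.M) * v' * (k : L.M)⁻¹ with hv''
    have hv''S : v'' ∈ (S0 : Subgroup L.M) := by
      have hm : (⟨v', hW2H (mem_subgroupOf.2 (le_sup_left (b := L.U) (mem_zpowers _)))⟩ : H) ∈ T2 :=
        hT2 (mem_subgroupOf.2 (mem_subgroupOf.2 (le_sup_left (b := L.U) (mem_zpowers _))))
      have h2 := Sylow.smul_eq_iff_mem_normalizer (g := (1 : H)) (P := T2)
      have h3 : k * (⟨v', hW2H (mem_subgroupOf.2 (le_sup_left (b := L.U) (mem_zpowers _)))⟩ : H) * k⁻¹ ∈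
          (k • T2 : Sylow 2 H) := ⟨_, hm, rfl⟩
      rw [hk] at h3
      exact h3
    have hv''z : π v'' = z := by
      rw [hv'', map_mul, map_mul, map_inv, hv'z, hzc _ k.2, mul_inv_cancel_right]
    refine hfive v'' ⟨v'', hv''S, rfl⟩ ?_ ?_ ?_ ?_
    · rw [hv'', show (k : L.M) * v' * (k : L.M)⁻¹ * ((k : L.M) * v' * (k : L.M)⁻¹) =
        (k : L.M) * (v' * v') * (k : L.M)⁻¹ by group, hv'2, mul_one, mul_inv_cancel]
    · intro h
      exact hz1 (hv''z ▸ Subtype.ext (L.trivial_of_U h))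
    · rw [hv''z]; exact hzc
    · refine isConj_iff.2 ⟨((k : L.M) : G) * ((m : L.M) : G)⁻¹ * g, ?_⟩
      rw [show ((v'' : L.M) : G) = ((k : L.M) : G) * (((m : L.M) : G)⁻¹ * x * ((m : L.M) : G)) * ((k : L.M) : G)⁻¹
        from rfl, ← hg]
      group
  -- (7) the end
  have hEno : ∀ v ∈ L.Q, ¬ IsConj t v := by
    intro v hv h
    obtain ⟨g, hg⟩ := isConj_iff.1 h
    refine hE v (L.omega v hv ?_) h
    rw [← hg, show g * t * g⁻¹ * (g * t * g⁻¹) = g * (t * t) * g⁻¹ by group, B.tt, mul_one, mul_inv_cancel]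
  refine X.terminal hG hS2 (L.T_le.trans hUS) htR hsplit
    (fun v hv h => hEno v (hUR (hsix v (hRS hv) h) hv) h) fun s hs => ?_
  rcases hsix _ (hs t htS) (isConj_iff.2 ⟨s, rfl⟩) with h | h
  · exact absurd (isConj_iff.2 ⟨s, rfl⟩) (hEno _ h)
  · obtain ⟨y, hy, hyt⟩ := hgw _ h
    exact ⟨y, hy, by rw [hyt, ← mul_assoc, B.tt, one_mul]⟩

end

/-- a transitive level without translations does not exist in a nonabelian simple group -/
theorem no_translations {G : Type*} [Group G] [Finite G] [IsSimpleGroup G] (hG : ¬ IsMulCommutative G) {B : Base G}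
    {K : Type*} [Field K] {X : Elem B K} (hE : ∀ e ∈ X.E, ¬ IsConj B.t e) (L : Level X)
    (htr : ∀ x : K, ∃ s ∈ L.M, L.c s = x) (hno : ∀ s ∈ L.M, (∀ e ∈ X.E, s * e = e * s) → L.c s = 0) : False :=
  L.no_translations_aux hG hE htr hno

end Level

end Cfsg.Agent.TimesPSL
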