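import Cfsg.Agent.FusRk2.ModelQ
import Cfsg.Agent.Classical.Dickson2.Partition
import Cfsg.Agent.Invol.BaerSuzuki

/-!
The Sylow 2-subgroups of PSL(2,q): elementary abelian with a transitive automiser fixing nothing, or
dihedral of order at least eight.
-/

set_option autoImplicit false
set_option linter.unusedSectionVars false
set_option linter.style.haveILetI false

namespace Cfsg.Agent.TimesPSL

open Subgroup

/-- An elementary abelian subgroup whose automiser is cyclic and regular on the involutions. -/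
structure Cyc {H : Type*} [Group H] (S : Subgroup H) : Prop where
  card : 4 ≤ Nat.card S
  sq : ∀ x ∈ S, x * x = 1
  rot : ∃ k, (∀ x ∈ S, k * x * k⁻¹ ∈ S) ∧
    ∀ x ∈ S, ∀ y ∈ S, x ≠ 1 → y ≠ 1 → ∃ i : ℕ, k ^ i * x * (k ^ i)⁻¹ = y
  fix : ∀ n, (∀ x ∈ S, n * x * n⁻¹ ∈ S) → ∀ a ∈ S, a ≠ 1 → n * a * n⁻¹ = a →
    ∀ x ∈ S, n * x * n⁻¹ = x

namespace Cyc

variable {H : Type*} [Group H] [Finite H] {S : Subgroup H} (h : Cyc S)

include h

theorem comm {a b : H} (ha : a ∈ S) (hb : b ∈ S) : a * b = b * a := by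
  have hinv : ∀ z ∈ S, z⁻¹ = z := fun z hz => inv_eq_of_mul_eq_one_right (h.sq z hz)
  rw [← hinv _ (mul_mem ha hb), mul_inv_rev, hinv a ha, hinv b hb]

theorem exists_ne_one : ∃ a ∈ S, a ≠ 1 := by
  have hne : S ≠ ⊥ := fun e => by
    have := h.card
    rw [e, Subgroup.card_bot] at this
    omega
  exact (Subgroup.ne_bot_iff_exists_ne_one.1 hne).elim fun a ha => ⟨a, a.2, fun e => ha (Subtype.ext e)⟩

/-- every element normalizing `S` acts as a power of the rotation -/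
theorem acts {k : H} (hk : ∀ x ∈ S, k * x * k⁻¹ ∈ S)
    (htr : ∀ x ∈ S, ∀ y ∈ S, x ≠ 1 → y ≠ 1 → ∃ i : ℕ, k ^ i * x * (k ^ i)⁻¹ = y)
    {n : H} (hn : ∀ x ∈ S, n * x * n⁻¹ ∈ S) :
    ∃ i : ℕ, ∀ x ∈ S, n * x * n⁻¹ = k ^ i * x * (k ^ i)⁻¹ := by
  obtain ⟨a, ha, ha1⟩ := h.exists_ne_one
  obtain ⟨i, hi⟩ := htr a ha _ (hn a ha) ha1 (fun e => ha1 (by simpa using e))
  refine ⟨i, ?_⟩
  have hkN : k ^ i ∈ normalizer (S : Set H) := pow_mem (Invol.mem_normalizer_of_conj_le (by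
    rintro _ ⟨x, hx, rfl⟩
    exact hk x hx)) i
  have hm : ∀ x ∈ S, (k ^ i)⁻¹ * n * x * ((k ^ i)⁻¹ * n)⁻¹ ∈ S := fun x hx => by
    rw [show (k ^ i)⁻¹ * n * x * ((k ^ i)⁻¹ * n)⁻¹ = (k ^ i)⁻¹ * (n * x * n⁻¹) * ((k ^ i)⁻¹)⁻¹ by group]
    exact (mem_normalizer_iff.1 (inv_mem hkN) _).1 (hn x hx)
  intro x hx
  have h1 := h.fix _ hm a ha ha1 (by
    rw [show (k ^ i)⁻¹ * n * a * ((k ^ i)⁻¹ * n)⁻¹ = (k ^ i)⁻¹ * (n * a * n⁻¹) * k ^ i by group, ← hi]
    group) x hx
  calc n * x * n⁻¹ = k ^ i * ((k ^ i)⁻¹ * n * x * ((k ^ i)⁻¹ * n)⁻¹) * (k ^ i)⁻¹ := by group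
    _ = k ^ i * x * (k ^ i)⁻¹ := by rw [h1]

end Cyc

/-- A four group Sylow 2-subgroup with one class of involutions. -/
theorem cyc_of_four {H : Type*} [Group H] [Finite H] (S : Sylow 2 H) (h4 : Nat.card (S : Subgroup H) = 4)
    (hsq : ∀ x ∈ (S : Subgroup H), x * x = 1)
    (hconj : ∀ a b : H, orderOf a = 2 → orderOf b = 2 → IsConj a b) : Cyc (S : Subgroup H) := by
  classical
  haveI : Fact (Nat.Prime 2) := ⟨Nat.prime_two⟩
  have hinv : ∀ z ∈ (S : Subgroup H), z⁻¹ = z := fun z hz => inv_eq_of_mul_eq_one_right (hsq z hz)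
  have hcomm : ∀ a ∈ (S : Subgroup H), ∀ b ∈ (S : Subgroup H), a * b = b * a := fun a ha b hb => by
    rw [← hinv _ (mul_mem ha hb), mul_inv_rev, hinv a ha, hinv b hb]
  haveI hSc : IsMulCommutative (S : Subgroup H) := ⟨⟨fun a b => Subtype.ext (hcomm _ a.2 _ b.2)⟩⟩
  -- the elements are `1, a, b, a * b`
  have hfour : ∀ a ∈ (S : Subgroup H), ∀ b ∈ (S : Subgroup H), a ≠ 1 → b ≠ 1 → a ≠ b →
      ∀ z ∈ (S : Subgroup H), z = 1 ∨ z = a ∨ z = b ∨ z = a * b := by
    intro a ha b hb ha1 hb1 hab z hz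
    by_contra hz'
    push Not at hz'
    have hab1 : a * b ≠ 1 := fun e => hab (by rw [eq_inv_of_mul_eq_one_left e, hinv b hb])
    have h5 : ({1, a, b, a * b, z} : Finset H).card = 5 := by
      have : a * b ≠ a := fun e => hb1 (mul_eq_left.1 e)
      have : a * b ≠ b := fun e => ha1 (mul_eq_right.1 e)
      simp [Finset.card_insert_of_notMem, ha1.symm, hb1.symm, hab, hab1.symm, hz'.1.symm, hz'.2.1.symm,
        hz'.2.2.1.symm, hz'.2.2.2.symm, ‹a * b ≠ a›.symm, ‹a * b ≠ b›.symm]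
    have hle : (({1, a, b, a * b, z} : Finset H) : Set H) ⊆ ((S : Subgroup H) : Set H) := by
      intro w hw
      simp only [Finset.coe_insert, Finset.coe_singleton, Set.mem_insert_iff, Set.mem_singleton_iff] at hw
      rcases hw with rfl | rfl | rfl | rfl | rfl
      exacts [one_mem _, ha, hb, mul_mem ha hb, hz]
    have := Set.ncard_le_ncard hle (Set.toFinite _)
    rw [Set.ncard_coe_finset, h5, ← Nat.card_coe_set_eq] at this
    change 5 ≤ Nat.card (S : Subgroup H) at this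
    omega
  have hfix : ∀ n, (∀ x ∈ (S : Subgroup H), n * x * n⁻¹ ∈ (S : Subgroup H)) → ∀ a ∈ (S : Subgroup H), a ≠ 1 →
      n * a * n⁻¹ = a → ∀ x ∈ (S : Subgroup H), n * x * n⁻¹ = x := by
    intro n hn a ha ha1 hna x hx
    by_contra hne
    have hx1 : x ≠ 1 := fun e => hne (by rw [e]; simp)
    have hxa : x ≠ a := fun e => hne (by rw [e, hna])
    have hnx : n * x * n⁻¹ = a * x := by
      rcases hfour a ha x hx ha1 hx1 (Ne.symm hxa) _ (hn x hx) with h | h | h | h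
      · exact absurd (by simpa using h) hx1
      · exact absurd (mul_left_cancel (mul_right_cancel (h.trans hna.symm))) hxa
      · exact absurd h hne
      · exact h
    have h2x : Commute (n ^ 2) x := by
      show n ^ 2 * x = x * n ^ 2
      refine mul_inv_eq_iff_eq_mul.1 ?_
      rw [show n ^ 2 * x * (n ^ 2)⁻¹ = n * (n * x * n⁻¹) * n⁻¹ by rw [pow_two]; group, hnx,
        show n * (a * x) * n⁻¹ = (n * a * n⁻¹) * (n * x * n⁻¹) by group, hna, hnx, ← mul_assoc, hsq a ha,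
        one_mul]
    obtain ⟨e, m, hm2, he⟩ := Nat.exists_eq_two_pow_mul_odd (orderOf_pos n).ne'
    obtain ⟨i, hi⟩ := hm2
    have hnm : n ^ m * x * (n ^ m)⁻¹ = a * x := by
      have hc : Commute (n ^ (2 * i)) x := by
        rw [pow_mul]
        exact h2x.pow_left i
      rw [hi, pow_succ',
        show n * n ^ (2 * i) * x * (n * n ^ (2 * i))⁻¹ = n * (n ^ (2 * i) * x * (n ^ (2 * i))⁻¹) * n⁻¹ by group,
        hc.eq, mul_inv_cancel_right, hnx]
    have hp : IsPGroup 2 (zpowers (n ^ m)) := by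
      refine IsPGroup.of_card (n := e) ?_
      rw [Nat.card_zpowers, orderOf_pow' _ (by omega), he, Nat.gcd_eq_right (dvd_mul_left _ _),
        Nat.mul_div_cancel _ (by omega)]
    have hnN : n ∈ normalizer ((S : Subgroup H) : Set H) := Invol.mem_normalizer_of_conj_le (by
      rintro _ ⟨y, hy, rfl⟩
      exact hn y hy)
    have hmS : n ^ m ∈ (S : Subgroup H) :=
      ((IsPGroup.inf_normalizer_sylow hp S).le ⟨mem_zpowers _, pow_mem hnN m⟩).2
    rw [hcomm _ hmS _ hx, mul_inv_cancel_right] at hnm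
    exact ha1 (mul_eq_right.1 hnm.symm)
  obtain ⟨a, ha, ha1⟩ : ∃ a ∈ (S : Subgroup H), a ≠ 1 := by
    obtain ⟨a, ha⟩ := Subgroup.ne_bot_iff_exists_ne_one.1 (show (S : Subgroup H) ≠ ⊥ from fun e => by
      rw [e, Subgroup.card_bot] at h4; omega)
    exact ⟨a, a.2, fun e => ha (Subtype.ext e)⟩
  obtain ⟨b, hb, hb1, hba⟩ : ∃ b ∈ (S : Subgroup H), b ≠ 1 ∧ b ≠ a := by
    by_contra! hall
    have hle : ((S : Subgroup H) : Set H) ⊆ ({1, a} : Set H) := fun v hv =>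
      (em (v = 1)).elim Or.inl fun hv1 => Or.inr (hall v hv hv1)
    have := Set.ncard_le_ncard hle (Set.toFinite _)
    rw [← Nat.card_coe_set_eq, Set.ncard_pair ha1.symm] at this
    change Nat.card (S : Subgroup H) ≤ 2 at this
    omega
  have hord : ∀ z ∈ (S : Subgroup H), z ≠ 1 → orderOf z = 2 := fun z hz hz1 =>
    orderOf_eq_prime (by rw [pow_two]; exact hsq z hz) hz1
  obtain ⟨c, hc⟩ := isConj_iff.1 (hconj a b (hord a ha ha1) (hord b hb hb1))
  obtain ⟨n, hn, hnc⟩ := S.conj_eq_normalizer_conj_of_mem a c⁻¹ ha (by rw [inv_inv, hc]; exact hb)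
  rw [inv_inv, hc] at hnc
  -- `k` carries `a` to `b`
  obtain ⟨k, hk, hkab⟩ : ∃ k, (∀ x ∈ (S : Subgroup H), k * x * k⁻¹ ∈ (S : Subgroup H)) ∧ k * a * k⁻¹ = b :=
    ⟨n⁻¹, fun x hx => (mem_normalizer_iff.1 (inv_mem hn) x).1 hx, by rw [inv_inv]; exact hnc.symm⟩
  have hnofix : ∀ z ∈ (S : Subgroup H), z ≠ 1 → k * z * k⁻¹ ≠ z := fun z hz hz1 e =>
    hba (by rw [← hkab]; exact hfix k hk z hz hz1 e a ha)
  have hkb : k * b * k⁻¹ = a * b := by
    rcases hfour a ha b hb ha1 hb1 hba.symm _ (hk b hb) with h | h | h | h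
    · exact absurd (by simpa using h) hb1
    · exfalso
      refine hnofix (a * b) (mul_mem ha hb) (fun e => hba.symm (by rw [eq_inv_of_mul_eq_one_left e, hinv b hb])) ?_
      rw [show k * (a * b) * k⁻¹ = (k * a * k⁻¹) * (k * b * k⁻¹) by group, hkab, h, hcomm b hb a ha]
    · exact absurd h (hnofix b hb hb1)
    · exact h
  have hkab' : k * (a * b) * k⁻¹ = a := by
    rw [show k * (a * b) * k⁻¹ = (k * a * k⁻¹) * (k * b * k⁻¹) by group, hkab, hkb, hcomm a ha b hb,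
      ← mul_assoc, hsq b hb, one_mul]
  have h2 : k ^ 2 * a * (k ^ 2)⁻¹ = a * b := by
    rw [show k ^ 2 * a * (k ^ 2)⁻¹ = k * (k * a * k⁻¹) * k⁻¹ by rw [pow_two]; group, hkab, hkb]
  have h3 : k ^ 3 * a * (k ^ 3)⁻¹ = a := by
    rw [show k ^ 3 * a * (k ^ 3)⁻¹ = k * (k ^ 2 * a * (k ^ 2)⁻¹) * k⁻¹ by group, h2, hkab']
  have hfrom : ∀ x ∈ (S : Subgroup H), x ≠ 1 → ∃ i, i < 3 ∧ k ^ i * a * (k ^ i)⁻¹ = x := by
    intro x hx hx1
    rcases hfour a ha b hb ha1 hb1 hba.symm x hx with rfl | rfl | rfl | rfl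
    · exact absurd rfl hx1
    · exact ⟨0, by omega, by simp⟩
    · exact ⟨1, by omega, by rw [pow_one, hkab]⟩
    · exact ⟨2, by omega, h2⟩
  refine ⟨le_of_eq h4.symm, hsq, ⟨k, hk, fun x hx y hy hx1 hy1 => ?_⟩, hfix⟩
  obtain ⟨i, hi, rfl⟩ := hfrom x hx hx1
  obtain ⟨j, -, rfl⟩ := hfrom y hy hy1
  refine ⟨j + (3 - i), ?_⟩
  rw [show k ^ (j + (3 - i)) * (k ^ i * a * (k ^ i)⁻¹) * (k ^ (j + (3 - i)))⁻¹ =
      k ^ (j + (3 - i)) * k ^ i * a * (k ^ (j + (3 - i)) * k ^ i)⁻¹ by group, ← pow_add,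
    show j + (3 - i) + i = j + 3 by omega, pow_add,
    show k ^ j * k ^ 3 * a * (k ^ j * k ^ 3)⁻¹ = k ^ j * (k ^ 3 * a * (k ^ 3)⁻¹) * (k ^ j)⁻¹ by group, h3]

section PSL

open Matrix
open Cfsg.Agent.SL2Class (proj proj_surjective proj_eq_one tr)
open Cfsg.Agent.Classical.Dickson2
open scoped MatrixGroups

variable {F : Type*} [Field F] [Fintype F]

local notation "SG" => Matrix.SpecialLinearGroup (Fin 2) F
local notation "PG" => Matrix.ProjectiveSpecialLinearGroup (Fin 2) F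

/-- all involutions of PSL(2,q) are conjugate -/
theorem psl_conj (s u : PG) (hs : orderOf s = 2) (hu : orderOf u = 2) : IsConj s u := by
  have htr : ∀ v : PG, orderOf v = 2 → SL2Class.NonScalar (sect v) ∧ tr (sect v) = 0 := fun v hv => by
    have hg : SL2Class.NonScalar (sect v) := nonScalar_sect fun e => by
      rw [e, orderOf_one] at hv
      norm_num at hv
    refine ⟨hg, ?_⟩
    have h : proj (sect v) ^ 2 = 1 := by rw [proj_sect]; exact orderOf_dvd_iff_pow_eq_one.1 (dvd_of_eq hv)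
    rw [← map_pow, proj_eq_one, SL2Class.mem_center_cases] at h
    have hsq : SL2Class.lin (sect v) (-1) (tr (sect v)) = ((sect v ^ 2 : SG) : Matrix (Fin 2) (Fin 2) F) := by
      rw [pow_two, Matrix.SpecialLinearGroup.coe_mul, SL2Class.g_sq]
    rcases h with h | h <;> rw [h] at hsq
    · rw [Matrix.SpecialLinearGroup.coe_one, ← SL2Class.lin_one (sect v)] at hsq
      exact (SL2Class.lin_ext hg hsq).2
    · rw [SL2Class.coe_neg_one, show (-1 : Matrix (Fin 2) (Fin 2) F) = SL2Class.lin (sect v) (-1) 0 by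
        ext i j; simp [SL2Class.lin_apply]] at hsq
      exact (SL2Class.lin_ext hg hsq).2
  obtain ⟨hg, tg⟩ := htr s hs
  obtain ⟨hk, tk⟩ := htr u hu
  rw [← proj_sect s, ← proj_sect u]
  refine MonoidHom.map_isConj proj (SL2Class.isConj_of_tr hg hk (tg.trans tk.symm) ?_)
  by_cases h2 : (2 : F) = 0
  · exact Or.inr h2
  · exact Or.inl (by rw [tg, mul_zero]; exact fun e => mul_ne_zero h2 h2 (by linear_combination -e))

theorem psl_root_conj (a : Fˣ) (c : F) (k : SG)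
    (hk : (k : Matrix (Fin 2) (Fin 2) F) = !![(a : F), 0; 0, ((a⁻¹ : Fˣ) : F)]) :
    k * Classical.rootHomSL (Multiplicative.ofAdd c) * k⁻¹ =
      Classical.rootHomSL (Multiplicative.ofAdd ((a : F) ^ 2 * c)) := by
  rw [mul_inv_eq_iff_eq_mul]
  refine Subtype.ext ?_
  rw [Matrix.SpecialLinearGroup.coe_mul, Matrix.SpecialLinearGroup.coe_mul, Classical.rootHomSL_coe,
    Classical.rootHomSL_coe, hk]
  ext i j
  fin_cases i <;> fin_cases j <;> simp [Matrix.mul_apply, Fin.sum_univ_two, pow_two] <;> field_simp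

/-- The even case. -/
theorem psl_cyc_even (h2 : (2 : F) = 0) (hF : 4 ≤ Fintype.card F) (S : Sylow 2 PG) :
    Cyc (S : Subgroup PG) := by
  classical
  haveI : Fact (Nat.Prime 2) := ⟨Nat.prime_two⟩
  haveI : CharP F 2 := CharTwo.of_one_ne_zero_of_two_eq_zero one_ne_zero h2
  haveI : Finite PG := Finite.of_surjective _ (proj_surjective (F := F))
  obtain ⟨f, hf, hq⟩ := Classical.card_field_eq_pow (F := F) 2
  have hne : (S : Subgroup PG) ≠ ⊥ := by
    intro e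
    have h := S.card_eq_multiplicity
    rw [e, Subgroup.card_bot] at h
    have hd : 2 ∣ Nat.card PG := dvd_trans (by rw [card_rootP, hq]; exact dvd_pow_self 2 (by omega))
      (Subgroup.card_subgroup_dvd_card (rootP (F := F)))
    have := (Nat.Prime.factorization_pos_of_dvd Nat.prime_two Nat.card_pos.ne' hd)
    have h1 := (Nat.pow_eq_one).1 h.symm
    omega
  obtain ⟨x, hx1, hx2, hle⟩ := le_tor_of_isPGroup 2 S.2 hne
  have hS : tor x = (S : Subgroup PG) := S.3 (fun y => ⟨1, Subtype.ext (by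
    rw [pow_one]
    exact unip_of_mem 2 hx1 hx2 y.2)⟩) hle
  have hsq : ∀ y ∈ (S : Subgroup PG), y * y = 1 := fun y hy => by
    rw [← pow_two]
    exact unip_of_mem 2 hx1 hx2 (hS ▸ hy)
  have hcard : Nat.card (S : Subgroup PG) = Fintype.card F := by rw [← hS, card_tor_unip 2 hx1 hx2]
  -- the rotation of the root group
  let w : Multiplicative F → PG := fun c => proj (Classical.rootHomSL c)
  have hw : ∀ c, w c ∈ rootP (F := F) := fun c => ⟨c, rfl⟩
  let u : PG := w (Multiplicative.ofAdd 1)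
  have hu1 : u ≠ 1 := by
    intro e
    have h := Classical.rootHomSL_coe (F := F) (Multiplicative.ofAdd 1)
    have hc : Classical.rootHomSL (F := F) (Multiplicative.ofAdd 1) ∈ Subgroup.center SG := proj_eq_one.1 e
    rw [SL2Class.mem_center_iff] at hc
    exact hc fun h' => one_ne_zero (α := F) (by simpa [h] using h'.1)
  have hu2 : u ^ 2 = 1 := by
    show w _ ^ 2 = 1
    rw [← map_pow proj, ← map_pow, ← ofAdd_nsmul, two_nsmul,
      show (1 : F) + 1 = 0 by rw [← h2]; norm_num, ofAdd_zero, map_one, map_one]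
  have hroot : rootP (F := F) = tor u := by
    refine Subgroup.eq_of_le_of_card_ge ?_ (by rw [card_rootP, card_tor_unip 2 hu1 hu2])
    rintro _ ⟨c, rfl⟩
    refine centralizer_unip 2 hu1 hu2 ?_
    show proj (Classical.rootHomSL c) * proj (Classical.rootHomSL _) = _
    rw [← map_mul, ← map_mul, mul_comm, map_mul, map_mul]
    rfl
  obtain ⟨g, hg⟩ := IsCyclic.exists_generator (α := Fˣ)
  obtain ⟨d₀, hd₀⟩ : ∃ d₀ : SG, (d₀ : Matrix (Fin 2) (Fin 2) F) = !![(g : F), 0; 0, ((g⁻¹ : Fˣ) : F)] :=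
    ⟨⟨!![(g : F), 0; 0, ((g⁻¹ : Fˣ) : F)], by simp [Matrix.det_fin_two_of]⟩, rfl⟩
  let k₀ : PG := proj d₀
  have hk₀ : ∀ c : F, k₀ * w (Multiplicative.ofAdd c) * k₀⁻¹ = w (Multiplicative.ofAdd ((g : F) ^ 2 * c)) :=
    fun c => by
      show proj _ * proj (Classical.rootHomSL _) * (proj _)⁻¹ = proj (Classical.rootHomSL _)
      rw [← map_inv (proj (F := F)), ← map_mul (proj (F := F)), ← map_mul (proj (F := F)), psl_root_conj g c d₀ hd₀]
  have hki : ∀ (i : ℕ) (c : F), k₀ ^ i * w (Multiplicative.ofAdd c) * (k₀ ^ i)⁻¹ =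
      w (Multiplicative.ofAdd (((g : F) ^ i) ^ 2 * c)) := by
    intro i
    induction i with
    | zero => intro c; simp
    | succ i ih =>
      intro c
      rw [pow_succ', show k₀ * k₀ ^ i * w (Multiplicative.ofAdd c) * (k₀ * k₀ ^ i)⁻¹ =
        k₀ * (k₀ ^ i * w (Multiplicative.ofAdd c) * (k₀ ^ i)⁻¹) * k₀⁻¹ by group, ih, hk₀]
      congr 2
      ring
  -- conjugate `u` to `x`
  obtain ⟨c, hc⟩ := isConj_iff.1 (psl_conj u x (orderOf_eq_prime hu2 hu1) (orderOf_eq_prime hx2 hx1))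
  have hmem : ∀ y, y ∈ (S : Subgroup PG) ↔ c⁻¹ * y * c ∈ rootP (F := F) := fun y => by
    rw [← hS, ← hc, tor_conj, mem_map_conj, hroot]
  refine ⟨hcard ▸ hF, hsq, ⟨c * k₀ * c⁻¹, fun y hy => ?_, fun y hy z hz hy1 hz1 => ?_⟩, ?_⟩
  · rw [hmem] at hy ⊢
    obtain ⟨a, ha⟩ := hy
    rw [show c⁻¹ * (c * k₀ * c⁻¹ * y * (c * k₀ * c⁻¹)⁻¹) * c = k₀ * (c⁻¹ * y * c) * k₀⁻¹ by group, ← ha]
    exact ⟨Multiplicative.ofAdd ((g : F) ^ 2 * a.toAdd), (hk₀ a.toAdd).symm⟩
  · rw [hmem] at hy hz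
    obtain ⟨a, ha⟩ := hy
    obtain ⟨b, hb⟩ := hz
    have ha0 : a.toAdd ≠ 0 := fun e => hy1 (by
      have : c⁻¹ * y * c = 1 := by rw [← ha, show a = 1 from Multiplicative.toAdd.injective e, map_one]
      calc y = c * (c⁻¹ * y * c) * c⁻¹ := by group
        _ = 1 := by rw [this]; group)
    have hb0 : b.toAdd ≠ 0 := fun e => hz1 (by
      have : c⁻¹ * z * c = 1 := by rw [← hb, show b = 1 from Multiplicative.toAdd.injective e, map_one]
      calc z = c * (c⁻¹ * z * c) * c⁻¹ := by group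
        _ = 1 := by rw [this]; group)
    obtain ⟨r, hr⟩ := SL2Class.exists_sq_eq_of_two_eq_zero h2 (b.toAdd / a.toAdd)
    have hr0 : r ≠ 0 := fun e => div_ne_zero hb0 ha0 (by rw [← hr, e, mul_zero])
    obtain ⟨i, hi⟩ := mem_powers_iff_mem_zpowers.2 (hg (Units.mk0 r hr0))
    refine ⟨i, ?_⟩
    have hi' : (g : F) ^ i = r := by
      have := congrArg (fun v : Fˣ => (v : F)) hi
      simpa using this
    have hy' : y = c * w a * c⁻¹ := by
      show y = c * (proj.comp Classical.rootHomSL a) * c⁻¹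
      rw [ha]; group
    have hz' : z = c * w b * c⁻¹ := by
      show z = c * (proj.comp Classical.rootHomSL b) * c⁻¹
      rw [hb]; group
    rw [hy', hz', ← ofAdd_toAdd a, ← ofAdd_toAdd b, conj_pow,
      show c * k₀ ^ i * c⁻¹ * (c * w (Multiplicative.ofAdd a.toAdd) * c⁻¹) * (c * k₀ ^ i * c⁻¹)⁻¹ =
        c * (k₀ ^ i * w (Multiplicative.ofAdd a.toAdd) * (k₀ ^ i)⁻¹) * c⁻¹ by group, hki, hi', pow_two, hr,
      div_mul_cancel₀ _ ha0]
  · intro n _ a ha ha1 hna y hy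
    have hn : n ∈ tor x := by
      rw [← tor_eq hx1 (hS ▸ ha) ha1]
      exact centralizer_unip 2 ha1 (by rw [pow_two]; exact hsq a ha) (mul_inv_eq_iff_eq_mul.1 hna)
    rw [tor_comm hx1 hn (hS ▸ hy), mul_inv_cancel_right]

/-- The odd case. -/
theorem psl_odd_cases (h2 : (2 : F) ≠ 0) (S : Sylow 2 PG) :
    Cyc (S : Subgroup PG) ∨ ∃ k : ℕ, 2 ≤ k ∧ Nonempty ((S : Subgroup PG) ≃* DihedralGroup (2 ^ k)) := by
  classical
  haveI : Fact (Nat.Prime 2) := ⟨Nat.prime_two⟩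
  haveI : Finite PG := Finite.of_surjective _ (proj_surjective (F := F))
  have hodd : Odd (Fintype.card F) := Nat.odd_iff.2 (SL2Class.card_odd_of_two_ne_zero h2)
  obtain ⟨i, hiT⟩ : ∃ i, ∀ T : Sylow 2 SG, Nat.card (T : Subgroup SG) = 2 ^ i :=
    ⟨_, fun T => T.card_eq_multiplicity⟩
  have hi : 3 ≤ i := by
    obtain ⟨T⟩ := (inferInstance : Nonempty (Sylow 2 SG))
    have h8 : 2 ^ 3 ∣ Nat.card SG := by
      rw [SL2Class.card_sl]
      refine dvd_mul_of_dvd_right ?_ _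
      obtain ⟨m, hm⟩ := hodd
      obtain ⟨l, hl⟩ : 2 ∣ m * (m + 1) := (Nat.even_mul_succ_self m).two_dvd
      exact ⟨l, by rw [hm, show (2 * m + 1) ^ 2 = 4 * (m * (m + 1)) + 1 by ring, hl]; omega⟩
    obtain ⟨E, hE⟩ := Sylow.exists_subgroup_card_pow_prime 2 h8
    obtain ⟨T', hT'⟩ := (IsPGroup.of_card hE).exists_le_sylow
    have := Subgroup.card_le_of_le hT'
    rw [hE, hiT T'] at this
    exact (Nat.pow_le_pow_iff_right one_lt_two).1 this
  obtain ⟨j, rfl⟩ : ∃ j, i = j + 2 := ⟨i - 2, by omega⟩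
  have hQ : ∀ T : Sylow 2 SG, Nonempty ((T : Subgroup SG) ≃* QuaternionGroup (2 ^ j)) := by
    intro T
    refine FusRk2.quat_of_card T.2 (fun a b ha hb => ?_) (Classical.sylow_two_not_cyclic hodd T) (hiT T)
    have key : ∀ w : (T : Subgroup SG), orderOf w = 2 → w.1 = -1 := fun w hw => by
      have hw' := pow_orderOf_eq_one w
      rw [hw] at hw'
      refine (Classical.eq_one_or_neg_one_of_sq h2 (congrArg Subtype.val hw')).resolve_left fun h => ?_
      rw [show w = 1 from Subtype.ext h, orderOf_one] at hw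
      norm_num at hw
    exact Subtype.ext ((key a ha).trans (key b hb).symm)
  haveI : NeZero (2 ^ j) := ⟨pow_ne_zero _ two_ne_zero⟩
  obtain ⟨e⟩ := FusRk2.sylow_dihedral_of_quaternion (π := proj (F := F)) proj_surjective
    (by rw [show (proj (F := F)).ker = Subgroup.center SG from QuotientGroup.ker_mk' _, SL2Class.center_card h2])
    hQ S
  by_cases hj : 2 ≤ j
  · exact Or.inr ⟨j, hj, ⟨e⟩⟩
  obtain rfl : j = 1 := by omega
  refine Or.inl (cyc_of_four S ?_ (fun x hx => ?_) psl_conj)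
  · rw [Nat.card_congr e.toEquiv, DihedralGroup.nat_card]; norm_num
  · have h : ∀ d : DihedralGroup (2 ^ 1), d * d = 1 := by decide
    exact congrArg Subtype.val (e.injective (show e (⟨x, hx⟩ * ⟨x, hx⟩) = e 1 by rw [map_mul, h, map_one]))

end PSL

end Cfsg.Agent.TimesPSL
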